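import Cfsg.Agent.Lib.Golay.Mathieu

/-!
The Mathieu groups in the form of stabilizers of arbitrary points, octads and dodecads.
-/

set_option autoImplicit false

namespace CfsgLib.Golay

open Cfsg
open scoped Pointwise

/-- conjugation by `g` between a subgroup of the group of the code and a subgroup of permutations -/
def conjEquiv {K : Subgroup (Equiv.Perm GolayPt)} (hK : K ≤ M24) (S : Subgroup M24)
    {g : Equiv.Perm GolayPt} (hg : g ∈ M24)
    (hS : ∀ x : M24, x ∈ S ↔ g⁻¹ * (x : Equiv.Perm GolayPt) * g ∈ K) : S ≃* K where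
  toFun x := ⟨g⁻¹ * ((x : M24) : Equiv.Perm GolayPt) * g, (hS x).1 x.2⟩
  invFun k := ⟨⟨g * (k : Equiv.Perm GolayPt) * g⁻¹, mul_mem (mul_mem hg (hK k.2)) (inv_mem hg)⟩,
    (hS _).2 (by simp [mul_assoc])⟩
  left_inv x := Subtype.ext (Subtype.ext (by simp [mul_assoc]))
  right_inv k := Subtype.ext (by simp [mul_assoc])
  map_mul' x y := Subtype.ext (by simp [mul_assoc])

theorem conj_apply_eq_iff {g x : Equiv.Perm GolayPt} {a p : GolayPt} (h : g a = p) :
    (g⁻¹ * x * g) a = a ↔ x p = p := by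
  rw [Equiv.Perm.mul_apply, Equiv.Perm.mul_apply, h, Equiv.Perm.inv_eq_iff_eq, h]

theorem conj_smul_eq_iff {g x : Equiv.Perm GolayPt} {a d : Finset GolayPt} (h : g • a = d) :
    (g⁻¹ * x * g) • a = a ↔ x • d = d := by
  rw [mul_smul, mul_smul, h, inv_smul_eq_iff, h]

theorem mem_stab_point {x : M24} {p : GolayPt} :
    x ∈ MulAction.stabilizer M24 p ↔ (x : Equiv.Perm GolayPt) p = p := Iff.rfl

theorem mem_stab_set {x : M24} {d : Finset GolayPt} :
    x ∈ MulAction.stabilizer M24 d ↔ (x : Equiv.Perm GolayPt) • d = d := Iff.rfl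

theorem exists_map_pair {p q : GolayPt} (hpq : p ≠ q) :
    ∃ g ∈ M24, g (pt 23) = p ∧ g (pt 0) = q := by
  obtain ⟨g, hg, h1, h2⟩ := twoTrans24.trans (pt 23) (by rw [mem_dec]; decide +kernel) (pt 0)
    (by rw [mem_dec]; decide +kernel) p (by rw [dec_fullMask]; exact Finset.mem_univ p) q
    (by rw [dec_fullMask]; exact Finset.mem_univ q) (by decide +kernel) hpq
  exact ⟨g, (mem_fixH.1 hg).1, h1, h2⟩

theorem exists_map_point (p : GolayPt) : ∃ g ∈ M24, g (pt 23) = p := by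
  obtain ⟨q, hq⟩ := exists_ne p
  obtain ⟨g, hg, h, -⟩ := exists_map_pair (Ne.symm hq)
  exact ⟨g, hg, h⟩

theorem mem_fix23_iff {h : Equiv.Perm GolayPt} :
    h ∈ fixH M24 F23 ↔ h ∈ M24 ∧ h (pt 23) = pt 23 := by
  rw [mem_fixH, F23, dec_two_pow (show 23 < 24 by norm_num)]
  simp [-mem_dec]

theorem nonempty_equiv23 (p : GolayPt) :
    Nonempty (MulAction.stabilizer M24 p ≃* fixH M24 F23) := by
  obtain ⟨g, hg, hgp⟩ := exists_map_point p
  refine ⟨conjEquiv (K := fixH M24 F23) inf_le_left _ hg fun x => ?_⟩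
  rw [mem_stab_point, mem_fix23_iff, conj_apply_eq_iff hgp]
  exact ⟨fun h => ⟨mul_mem (mul_mem (inv_mem hg) x.2) hg, h⟩, fun h => h.2⟩

theorem mem_fix22_iff {h : Equiv.Perm GolayPt} :
    h ∈ fixH M24 F22 ↔ h ∈ M24 ∧ h (pt 23) = pt 23 ∧ h (pt 0) = pt 0 := by
  rw [mem_fixH, F22, show (1 : ℕ) = 2 ^ 0 from rfl, dec_or, dec_two_pow (show 23 < 24 by norm_num),
    dec_two_pow (show 0 < 24 by norm_num)]
  simp

theorem nonempty_equiv22 {p q : GolayPt} (hpq : p ≠ q) :
    Nonempty (↥(MulAction.stabilizer M24 p ⊓ MulAction.stabilizer M24 q) ≃* fixH M24 F22) := by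
  obtain ⟨g, hg, hgp, hgq⟩ := exists_map_pair hpq
  refine ⟨conjEquiv (K := fixH M24 F22) inf_le_left _ hg fun x => ?_⟩
  rw [Subgroup.mem_inf, mem_stab_point, mem_stab_point, mem_fix22_iff, conj_apply_eq_iff hgp,
    conj_apply_eq_iff hgq]
  exact ⟨fun h => ⟨mul_mem (mul_mem (inv_mem hg) x.2) hg, h⟩, fun h => h.2⟩

theorem natCard_stab_point (p : GolayPt) : Nat.card (MulAction.stabilizer M24 p) = 10200960 := by
  obtain ⟨e⟩ := nonempty_equiv23 p
  rw [Nat.card_congr e.toEquiv, natCard_fix23]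

theorem isSimpleGroup_stab_point (p : GolayPt) : IsSimpleGroup (MulAction.stabilizer M24 p) := by
  obtain ⟨e⟩ := nonempty_equiv23 p
  haveI := isSimpleGroup_fix23
  exact e.isSimpleGroup

theorem natCard_stab_pair {p q : GolayPt} (hpq : p ≠ q) :
    Nat.card ↥(MulAction.stabilizer M24 p ⊓ MulAction.stabilizer M24 q) = 443520 := by
  obtain ⟨e⟩ := nonempty_equiv22 hpq
  rw [Nat.card_congr e.toEquiv, natCard_fix22]

theorem isSimpleGroup_stab_pair {p q : GolayPt} (hpq : p ≠ q) :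
    IsSimpleGroup ↥(MulAction.stabilizer M24 p ⊓ MulAction.stabilizer M24 q) := by
  obtain ⟨e⟩ := nonempty_equiv22 hpq
  haveI := isSimpleGroup_fix22
  exact e.isSimpleGroup

/-- a two-transitive group with a simple point stabilizer and degree divisible by six is simple -/
theorem TwoTrans.isSimpleGroup {H : Subgroup (Equiv.Perm GolayPt)} {A : Finset GolayPt}
    (h : TwoTrans H A) {i : ℕ} (hi : i < 24) (ha : pt i ∈ A) (h2 : 2 ∣ A.card) (h3 : 3 ∣ A.card)
    (hs : IsSimpleGroup (fixH H (2 ^ i))) : IsSimpleGroup H := by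
  haveI := hs
  haveI : Nontrivial H :=
    Function.Injective.nontrivial (α := fixH H (2 ^ i))
      (f := fun z => (⟨z.1, z.2.1⟩ : H)) (fun a b e => Subtype.ext (congrArg (fun z : H => z.1) e))
  refine ⟨fun N hN => ?_⟩
  by_contra hc
  push Not at hc
  obtain ⟨hNb, hNt⟩ := hc
  set a := pt i with hadef
  have hmemfix : ∀ x : H, (x : Equiv.Perm GolayPt) a = a → (x : Equiv.Perm GolayPt) ∈ fixH H (2 ^ i) :=
    fun x hx => mem_fixH.2 ⟨x.2, fun p hp => by rw [(mem_dec_two_pow hi).1 hp]; exact hx⟩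
  let ι : fixH H (2 ^ i) →* H := Subgroup.inclusion inf_le_left
  haveI : (N.comap ι).Normal := hN.comap ι
  rcases ‹(N.comap ι).Normal›.eq_bot_or_eq_top with hb | ht
  · -- regular normal subgroup
    have hreg : ∀ n : H, n ∈ N → (n : Equiv.Perm GolayPt) a = a → n = 1 := by
      intro n hn hna
      have h1 : (⟨(n : Equiv.Perm GolayPt), hmemfix n hna⟩ : fixH H (2 ^ i)) ∈ N.comap ι := hn
      rw [hb, Subgroup.mem_bot] at h1
      exact Subtype.ext (congrArg (fun z : fixH H (2 ^ i) => (z : Equiv.Perm GolayPt)) h1)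
    have hord : ∀ u : H, u ∈ N → u ≠ 1 → ∀ v : H, v ∈ N → v ≠ 1 → orderOf u = orderOf v := by
      intro u hu hu1 v hv hv1
      obtain ⟨g, hg, hga, hgu⟩ := h.trans a ha _ (h.stable _ u.2 a ha) a ha _ (h.stable _ v.2 a ha)
        (fun e => hu1 (hreg u hu e.symm)) (fun e => hv1 (hreg v hv e.symm))
      have hgia : g⁻¹ a = a := by rw [Equiv.Perm.inv_eq_iff_eq, hga]
      have he : (v⁻¹ * (⟨g, hg⟩ * u * ⟨g, hg⟩⁻¹) : H) = 1 := by
        refine hreg _ (mul_mem (inv_mem hv) (hN.conj_mem u hu _)) ?_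
        simp only [Subgroup.coe_mul, Subgroup.coe_inv, Equiv.Perm.mul_apply, hgia, hgu]
        simp
      rw [inv_mul_eq_one] at he
      rw [he]
      exact SemiconjBy.orderOf_eq (⟨g, hg⟩ : H) (by simp [SemiconjBy, mul_assoc])
    have hd := h.card_dvd hN hNb
    obtain ⟨u, hu⟩ := exists_prime_orderOf_dvd_card' (G := N) 2 (hp := ⟨Nat.prime_two⟩) (h2.trans hd)
    obtain ⟨v, hv⟩ := exists_prime_orderOf_dvd_card' (G := N) 3 (hp := ⟨Nat.prime_three⟩) (h3.trans hd)
    have hu1 : (u : H) ≠ 1 := fun e => by rw [← Subgroup.orderOf_coe, e, orderOf_one] at hu; omega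
    have hv1 : (v : H) ≠ 1 := fun e => by rw [← Subgroup.orderOf_coe, e, orderOf_one] at hv; omega
    have := hord u u.2 hu1 v v.2 hv1
    rw [Subgroup.orderOf_coe, Subgroup.orderOf_coe, hu, hv] at this
    omega
  · apply hNt
    rw [eq_top_iff]
    intro x _
    obtain ⟨n, hn, hna⟩ := h.normal_trans hN hNb ha (h.stable _ x.2 a ha)
    have hfix : ((n⁻¹ * x : H) : Equiv.Perm GolayPt) a = a := by
      simp [← hna]
    have h1 : (⟨_, hmemfix _ hfix⟩ : fixH H (2 ^ i)) ∈ N.comap ι := ht ▸ Subgroup.mem_top _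
    have h2' : n⁻¹ * x ∈ N := h1
    simpa using mul_mem hn h2'

theorem fixH_twice (H : Subgroup (Equiv.Perm GolayPt)) (F : ℕ) : fixH (fixH H 0) F = fixH H F := by
  rw [fixH_zero]

theorem isSimpleGroup_M24 : IsSimpleGroup M24 := by
  have := twoTrans24.isSimpleGroup (i := 23) (by norm_num) (by rw [mem_dec]; decide +kernel)
    (by rw [card_dec_eq_pop]; decide +kernel) (by rw [card_dec_eq_pop]; decide +kernel)
    (by rw [fixH_twice]; exact isSimpleGroup_fix23)
  rwa [fixH_zero] at this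

theorem isSimpleGroup_H12 : IsSimpleGroup H12 := by
  have := twoTrans12.isSimpleGroup (i := 23) (by norm_num) (by rw [mem_dec]; decide +kernel)
    (by rw [card_dec_eq_pop]; decide +kernel) (by rw [card_dec_eq_pop]; decide +kernel)
    (by rw [fixH_twice]; exact isSimpleGroup_fix11)
  rwa [fixH_zero] at this

theorem mem_H12_iff {h : Equiv.Perm GolayPt} :
    h ∈ H12 ↔ h ∈ M24 ∧ h • dec dod0 = dec dod0 := Iff.rfl

theorem natCard_stab_dod0 : Nat.card (MulAction.stabilizer M24 (dec dod0)) = 95040 := by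
  rw [← natCard_H12]
  exact Nat.card_congr (conjEquiv (K := H12) inf_le_left _ (one_mem M24) fun x => by
    simp only [inv_one, one_mul, mul_one, mem_H12_iff, mem_stab_set, SetLike.coe_mem, true_and]).toEquiv

theorem orbit_dod0 : MulAction.orbit M24 (dec dod0) = dodecads := by
  have hsub : MulAction.orbit M24 (dec dod0) ⊆ dodecads := by
    rintro _ ⟨g, rfl⟩; exact smul_mem_dodecads g.2 dod0_mem
  refine Set.eq_of_subset_of_ncard_le hsub (le_of_eq ?_) (Set.toFinite _)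
  have h := Nat.card_congr (MulAction.orbitProdStabilizerEquivGroup M24 (dec dod0))
  rw [Nat.card_prod, natCard_stab_dod0, natCard_M24, Nat.card_coe_set_eq] at h
  rw [ncard_dodecads]
  exact (Nat.eq_of_mul_eq_mul_right (by norm_num : 0 < 95040)
    (h.trans (by norm_num : (244823040 : ℕ) = 2576 * 95040))).symm

theorem exists_smul_dod0 {d : Finset GolayPt} (hd : d ∈ dodecads) :
    ∃ g ∈ M24, g • dec dod0 = d := by
  rw [← orbit_dod0] at hd
  obtain ⟨g, rfl⟩ := hd
  exact ⟨g, g.2, rfl⟩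

theorem dodecad_transitive {d d' : Finset GolayPt} (hd : d ∈ dodecads) (hd' : d' ∈ dodecads) :
    ∃ g : M24, g • d = d' := by
  obtain ⟨g, hg, rfl⟩ := exists_smul_dod0 hd
  obtain ⟨k, hk, rfl⟩ := exists_smul_dod0 hd'
  exact ⟨⟨k * g⁻¹, mul_mem hk (inv_mem hg)⟩, by
    show (k * g⁻¹) • g • dec dod0 = k • dec dod0
    rw [mul_smul, inv_smul_smul]⟩

theorem nonempty_equiv12 {d : Finset GolayPt} (hd : d ∈ dodecads) :
    Nonempty (MulAction.stabilizer M24 d ≃* H12) := by
  obtain ⟨g, hg, hgd⟩ := exists_smul_dod0 hd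
  refine ⟨conjEquiv (K := H12) inf_le_left _ hg fun x => ?_⟩
  rw [mem_stab_set, mem_H12_iff, conj_smul_eq_iff hgd]
  exact ⟨fun h => ⟨mul_mem (mul_mem (inv_mem hg) x.2) hg, h⟩, fun h => h.2⟩

theorem natCard_stab_dodecad {d : Finset GolayPt} (hd : d ∈ dodecads) :
    Nat.card (MulAction.stabilizer M24 d) = 95040 := by
  obtain ⟨e⟩ := nonempty_equiv12 hd
  rw [Nat.card_congr e.toEquiv, natCard_H12]

theorem isSimpleGroup_stab_dodecad {d : Finset GolayPt} (hd : d ∈ dodecads) :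
    IsSimpleGroup (MulAction.stabilizer M24 d) := by
  obtain ⟨e⟩ := nonempty_equiv12 hd
  haveI := isSimpleGroup_H12
  exact e.isSimpleGroup

theorem exists_smul_dod0_point {d : Finset GolayPt} (hd : d ∈ dodecads) {p : GolayPt} (hp : p ∈ d) :
    ∃ g ∈ M24, g • dec dod0 = d ∧ g (pt 23) = p := by
  obtain ⟨g, hg, rfl⟩ := exists_smul_dod0 hd
  obtain ⟨a, ha, rfl⟩ := Finset.mem_smul_finset.1 hp
  obtain ⟨b, hb, hba⟩ := Finset.exists_mem_ne (s := dec dod0)
    (by rw [card_dec_eq_pop]; decide +kernel) a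
  obtain ⟨k, hk, hka, -⟩ := twoTrans12.trans (pt 23) (by rw [mem_dec]; decide +kernel) (pt 0)
    (by rw [mem_dec]; decide +kernel) a ha b hb (by decide +kernel) (Ne.symm hba)
  have hkH := (mem_fixH.1 hk).1
  exact ⟨g * k, mul_mem hg hkH.1, by rw [mul_smul, (mem_H12_iff.1 hkH).2],
    by rw [Equiv.Perm.mul_apply, hka]; rfl⟩

theorem mem_fix11_iff {h : Equiv.Perm GolayPt} :
    h ∈ fixH H12 F23 ↔ h ∈ M24 ∧ h • dec dod0 = dec dod0 ∧ h (pt 23) = pt 23 := by
  rw [mem_fixH, F23, mem_H12_iff, dec_two_pow (show 23 < 24 by norm_num)]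
  simp [and_assoc]

theorem nonempty_equiv11 {d : Finset GolayPt} (hd : d ∈ dodecads) {p : GolayPt} (hp : p ∈ d) :
    Nonempty (↥(MulAction.stabilizer M24 d ⊓ MulAction.stabilizer M24 p) ≃* fixH H12 F23) := by
  obtain ⟨g, hg, hgd, hgp⟩ := exists_smul_dod0_point hd hp
  refine ⟨conjEquiv (K := fixH H12 F23) (inf_le_left.trans inf_le_left) _ hg fun x => ?_⟩
  rw [Subgroup.mem_inf, mem_stab_set, mem_stab_point, mem_fix11_iff, conj_smul_eq_iff hgd,
    conj_apply_eq_iff hgp]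
  exact ⟨fun h => ⟨mul_mem (mul_mem (inv_mem hg) x.2) hg, h⟩, fun h => h.2⟩

theorem natCard_stab_dodecad_point {d : Finset GolayPt} (hd : d ∈ dodecads) {p : GolayPt}
    (hp : p ∈ d) :
    Nat.card ↥(MulAction.stabilizer M24 d ⊓ MulAction.stabilizer M24 p) = 7920 := by
  obtain ⟨e⟩ := nonempty_equiv11 hd hp
  rw [Nat.card_congr e.toEquiv, natCard_fix11]

theorem isSimpleGroup_stab_dodecad_point {d : Finset GolayPt} (hd : d ∈ dodecads) {p : GolayPt}
    (hp : p ∈ d) : IsSimpleGroup ↥(MulAction.stabilizer M24 d ⊓ MulAction.stabilizer M24 p) := by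
  obtain ⟨e⟩ := nonempty_equiv11 hd hp
  haveI := isSimpleGroup_fix11
  exact e.isSimpleGroup

theorem exists_map12 (y : List GolayPt) (hy : y.length = 5) (hnd : y.Nodup)
    (hmem : ∀ p ∈ y, p ∈ dec dod0) : ∃ g ∈ H12, base5.map (fun b => g (pt b)) = y := by
  obtain ⟨g, hg, -, hmap⟩ := exists_map_chain (H := H12) (extra := [dod0]) (A := dod0)
    (levs12x.take 5) 0 1 y (carries_sub (List.take_subset _ _) carries12)
    (by decide +kernel) (by decide +kernel) (one_mem _) (one_smul _ _)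
    (by rw [hy]; decide +kernel) hnd (fun p hp => ⟨hmem p hp, by simp [mem_dec]⟩)
    (fun h hh => hh.2)
  refine ⟨g, hg, ?_⟩
  rw [← hmap, show base5 = (levs12x.take 5).map (fun L => L.b) by decide +kernel, List.map_map]
  rfl

/-- the mask of the first five base points -/
def F5 : ℕ := chainBot 0 (levs12x.take 5)

theorem fixH12_F5 : fixH H12 F5 = ⊥ := by
  have h := card_chain (levs12x.drop 5) F5 (carries_sub (List.drop_subset _ _) carries12)
    (by decide +kernel)
  rw [show chainBot F5 (levs12x.drop 5) = F6 by decide +kernel, fixH12_F6, Subgroup.card_bot,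
    mul_one, show chainProd F5 (levs12x.drop 5) = 1 by decide +kernel] at h
  exact Subgroup.eq_bot_of_card_eq _ h

theorem sharply_five {d : Finset GolayPt} (hd : d ∈ dodecads) (x y : Fin 5 ↪ GolayPt)
    (hx : ∀ i, x i ∈ d) (hy : ∀ i, y i ∈ d) :
    ∃! g : MulAction.stabilizer M24 d,
      ∀ i, ((g : M24) : Equiv.Perm GolayPt) (x i) = y i := by
  obtain ⟨g, hg, rfl⟩ := exists_smul_dod0 hd
  have hpull : ∀ z : Fin 5 ↪ GolayPt, (∀ i, z i ∈ g • dec dod0) →
      ∃ k ∈ H12, ∀ i : Fin 5, k (pt (base5.getD i.val 0)) = g⁻¹ (z i) := by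
    intro z hz
    obtain ⟨k, hk, hmap⟩ := exists_map12 (List.ofFn fun i => g⁻¹ (z i)) (List.length_ofFn ..)
      (List.nodup_ofFn.2 (g⁻¹.injective.comp z.injective))
      (fun p hp => by
        obtain ⟨i, rfl⟩ := List.mem_ofFn.1 hp
        exact Finset.inv_smul_mem_iff.2 (hz i))
    refine ⟨k, hk, fun i => ?_⟩
    have := congrArg (fun l => l[i.val]?) hmap
    have hi : (i : ℕ) < base5.length := i.isLt
    simpa [List.getElem?_map, List.getD_eq_getElem?_getD, List.getElem?_eq_getElem hi,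
      List.getElem?_eq_getElem, i.isLt, -List.ofFn_succ] using this
  obtain ⟨a, ha, hax⟩ := hpull x hx
  obtain ⟨b, hb, hby⟩ := hpull y hy
  obtain ⟨haM, had⟩ := mem_H12_iff.1 ha
  obtain ⟨hbM, hbd⟩ := mem_H12_iff.1 hb
  have hstab : g * b * a⁻¹ * g⁻¹ ∈ M24 := mul_mem (mul_mem (mul_mem hg hbM) (inv_mem haM)) (inv_mem hg)
  refine ⟨⟨⟨_, hstab⟩, ?_⟩, fun i => ?_, fun h hh => ?_⟩
  · rw [mem_stab_set]
    show (g * b * a⁻¹ * g⁻¹) • g • dec dod0 = g • dec dod0
    rw [mul_smul, inv_smul_smul, mul_smul, inv_smul_eq_iff.2 had.symm, mul_smul, hbd]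
  · show (g * b * a⁻¹ * g⁻¹) (x i) = y i
    have : a⁻¹ (g⁻¹ (x i)) = pt (base5.getD i.val 0) := by
      rw [Equiv.Perm.inv_eq_iff_eq, hax]
    rw [Equiv.Perm.mul_apply, Equiv.Perm.mul_apply, Equiv.Perm.mul_apply, this, hby,
      Equiv.Perm.inv_def, Equiv.apply_symm_apply]
  · set w := b⁻¹ * g⁻¹ * ((h : M24) : Equiv.Perm GolayPt) * g * a with hw
    have hhd : ((h : M24) : Equiv.Perm GolayPt) • g • dec dod0 = g • dec dod0 := h.2
    have hwH : w ∈ H12 := by
      refine mem_H12_iff.2 ⟨mul_mem (mul_mem (mul_mem (mul_mem (inv_mem hbM) (inv_mem hg)) h.1.2) hg) haM, ?_⟩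
      rw [hw, mul_smul, had, mul_smul, mul_smul, hhd, mul_smul, inv_smul_smul, inv_smul_eq_iff, hbd]
    have hw1 : w = 1 := by
      have : w ∈ fixH H12 F5 := by
        refine mem_fixH.2 ⟨hwH, fun p hp => ?_⟩
        have hp' : ∃ i : Fin 5, p = pt (base5.getD i.val 0) := by
          revert hp; revert p; simp only [mem_dec]; decide +kernel
        obtain ⟨i, rfl⟩ := hp'
        simp only [hw, Equiv.Perm.mul_apply, hax, Equiv.Perm.inv_def, Equiv.apply_symm_apply, hh i]
        rw [← Equiv.Perm.inv_def, ← Equiv.Perm.inv_def, Equiv.Perm.inv_eq_iff_eq, hby]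
      rwa [fixH12_F5, Subgroup.mem_bot] at this
    apply Subtype.ext
    apply Subtype.ext
    calc ((h : M24) : Equiv.Perm GolayPt) = g * b * w * a⁻¹ * g⁻¹ := by rw [hw]; group
      _ = g * b * a⁻¹ * g⁻¹ := by rw [hw1, mul_one]

theorem levs11_chk : levs11.all (fun L => L.gens.all fun P =>
    inM24 P && (mimg P dod0 == dod0)) = true := by decide +kernel

theorem carries11 : ∀ L ∈ levs11, Carries H12 [dod0] L.gens := by
  intro L hL
  refine ⟨inf_le_left, H12_pres, fun P hP => ?_⟩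
  have h1 := List.all_eq_true.1 (List.all_eq_true.1 levs11_chk L hL) P hP
  rw [Bool.and_eq_true, beq_iff_eq] at h1
  exact toPerm_mem_H12 h1.1 h1.2

theorem three_transitive {d : Finset GolayPt} (hd : d ∈ dodecads) {p : GolayPt} (hp : p ∈ d)
    (x y : Fin 3 ↪ GolayPt) (hx : ∀ i, x i ∉ d) (hy : ∀ i, y i ∉ d) :
    ∃ g ∈ MulAction.stabilizer M24 d ⊓ MulAction.stabilizer M24 p,
      ∀ i, (g : Equiv.Perm GolayPt) (x i) = y i := by
  obtain ⟨g, hg, hgd, hgp⟩ := exists_smul_dod0_point hd hp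
  subst hgd
  have hpull : ∀ z : Fin 3 ↪ GolayPt, (∀ i, z i ∉ g • dec dod0) →
      ∃ k ∈ fixH H12 F23, ∀ i : Fin 3, k (pt ((levs11.map (fun L => L.b)).getD i.val 0)) = g⁻¹ (z i) := by
    intro z hz
    obtain ⟨k, hk, -, hmap⟩ := exists_map_chain (H := fixH H12 F23) (extra := [dod0])
      (A := dod0 ^^^ fullMask) levs11 F23 1 (List.ofFn fun i => g⁻¹ (z i))
      (carries_fix levs11 carries11 (by decide +kernel))
      (by decide +kernel) (by decide +kernel) (one_mem _) (one_smul _ _) (List.length_ofFn ..)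
      (List.nodup_ofFn.2 (g⁻¹.injective.comp z.injective))
      (fun q hq => by
        obtain ⟨i, rfl⟩ := List.mem_ofFn.1 hq
        have hn : g⁻¹ (z i) ∉ dec dod0 := fun h => hz i (Finset.inv_smul_mem_iff.1 h)
        refine ⟨?_, ?_⟩
        · rw [mem_dec] at hn ⊢
          rw [Nat.testBit_xor, testBit_fullMask]
          rw [Bool.not_eq_true] at hn
          rw [hn]
          simp [idx_lt]
        · rw [one_smul]
          intro h
          exact hn (by rw [(mem_dec_two_pow (by norm_num)).1 h, mem_dec]; decide +kernel))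
      (fun k hk => by
        have h : k • dec dod0 = dec dod0 := hk.1.2
        refine Finset.eq_of_subset_of_card_le (fun q hq => ?_)
          (le_of_eq (Finset.card_smul_finset _ _).symm)
        obtain ⟨r, hr, rfl⟩ := Finset.mem_smul_finset.1 hq
        have hi : k r ∈ dec dod0 ↔ r ∈ dec dod0 := by
          conv_lhs => rw [← h]
          exact Finset.smul_mem_smul_finset_iff k
        rw [mem_dec, Nat.testBit_xor, testBit_fullMask] at hr ⊢
        rw [mem_dec, mem_dec] at hi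
        rw [show k • r = k r from rfl, Bool.eq_iff_iff.2 hi]
        simpa [idx_lt] using hr)
    refine ⟨k, hk, fun i => ?_⟩
    have := congrArg (fun l => l[i.val]?) hmap
    have hi : (i : ℕ) < levs11.length := i.isLt
    simpa [List.getElem?_map, List.getD_eq_getElem?_getD, List.getElem?_eq_getElem hi,
      List.getElem?_eq_getElem, i.isLt, -List.ofFn_succ] using this
  obtain ⟨a, ha, hax⟩ := hpull x hx
  obtain ⟨b, hb, hby⟩ := hpull y hy
  obtain ⟨haM, had, ha23⟩ := mem_fix11_iff.1 ha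
  obtain ⟨hbM, hbd, hb23⟩ := mem_fix11_iff.1 hb
  refine ⟨⟨g * b * a⁻¹ * g⁻¹, mul_mem (mul_mem (mul_mem hg hbM) (inv_mem haM)) (inv_mem hg)⟩,
    Subgroup.mem_inf.2 ⟨?_, ?_⟩, fun i => ?_⟩
  · rw [mem_stab_set]
    show (g * b * a⁻¹ * g⁻¹) • g • dec dod0 = g • dec dod0
    rw [mul_smul, inv_smul_smul, mul_smul, inv_smul_eq_iff.2 had.symm, mul_smul, hbd]
  · rw [mem_stab_point]
    show (g * b * a⁻¹ * g⁻¹) p = p
    subst hgp
    simp only [Equiv.Perm.mul_apply, Equiv.Perm.inv_def, Equiv.symm_apply_apply]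
    rw [← Equiv.Perm.inv_def, Equiv.Perm.inv_eq_iff_eq.2 ha23.symm, hb23]
  · show (g * b * a⁻¹ * g⁻¹) (x i) = y i
    have : a⁻¹ (g⁻¹ (x i)) = pt ((levs11.map (fun L => L.b)).getD i.val 0) := by
      rw [Equiv.Perm.inv_eq_iff_eq, hax]
    rw [Equiv.Perm.mul_apply, Equiv.Perm.mul_apply, Equiv.Perm.mul_apply, this, hby,
      Equiv.Perm.inv_def, Equiv.apply_symm_apply]

theorem trans6_square : trans6.all (fun P => mulP P P == powP P 0 &&
    fixes P oct0) = true := by decide +kernel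

theorem natCard_fixF6 : Nat.card (fixH M24 F6) = 16 := by
  have h := card_chain (levs24.drop 6) F6 (carries_sub (List.drop_subset _ _) carries24)
    (by decide +kernel)
  rw [fixH_eq_bot_of_stages le_rfl (St := stages24) (F := chainBot F6 (levs24.drop 6))
    (by decide +kernel), Subgroup.card_bot, mul_one] at h
  rw [h]; decide +kernel

theorem fix_oct0_eq : M24 ⊓ fixingSubgroup (Equiv.Perm GolayPt) (dec oct0 : Set GolayPt) =
    fixH M24 F6 := by
  show fixH M24 oct0 = fixH M24 F6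
  ext g
  constructor
  · intro hg
    refine mem_fixH.2 ⟨(mem_fixH.1 hg).1, fun p hp => (mem_fixH.1 hg).2 p ?_⟩
    have hz : F6 &&& oct0 = F6 := by decide +kernel
    rw [← hz, dec_and, Finset.mem_inter] at hp
    exact hp.2
  · intro hg
    obtain ⟨P, hP, hv, rfl⟩ := mem_fixF6 hg
    have h1 := List.all_eq_true.1 trans6_square P hP
    rw [Bool.and_eq_true] at h1
    exact mem_fixH.2 ⟨(mem_fixH.1 hg).1, fun p hp => fixes_apply hv h1.2 hp⟩

theorem sq_fixF6 {g : Equiv.Perm GolayPt} (hg : g ∈ fixH M24 F6) : g * g = 1 := by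
  obtain ⟨P, hP, hv, rfl⟩ := mem_fixF6 hg
  have h1 := List.all_eq_true.1 trans6_square P hP
  rw [Bool.and_eq_true, beq_iff_eq] at h1
  rw [← toPerm_mulP hv hv, h1.1, (toPerm_powP hv 0).2, pow_zero]

theorem octad_pointwise {o : Finset GolayPt} (ho : o ∈ octads) :
    Nat.card ↥(M24 ⊓ fixingSubgroup (Equiv.Perm GolayPt) (o : Set GolayPt)) = 16 ∧
      ∀ g ∈ M24 ⊓ fixingSubgroup (Equiv.Perm GolayPt) (o : Set GolayPt), g * g = 1 := by
  obtain ⟨g, hg, rfl⟩ := exists_smul_oct0 ho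
  have key : ∀ x : Equiv.Perm GolayPt,
      x ∈ M24 ⊓ fixingSubgroup (Equiv.Perm GolayPt) ((g • dec oct0 : Finset GolayPt) : Set GolayPt) ↔
        MulAut.conj g⁻¹ x ∈ M24 ⊓ fixingSubgroup (Equiv.Perm GolayPt) (dec oct0 : Set GolayPt) := by
    intro x
    simp only [Subgroup.mem_inf, mem_fixingSubgroup_iff, Finset.coe_smul_finset,
      Equiv.Perm.smul_def, MulAut.conj_apply, inv_inv]
    constructor
    · rintro ⟨hx, hfix⟩
      refine ⟨mul_mem (mul_mem (inv_mem hg) hx) hg, fun q hq => ?_⟩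
      exact (conj_apply_eq_iff rfl).2 (hfix _ (Set.smul_mem_smul_set hq))
    · rintro ⟨hx, hfix⟩
      refine ⟨?_, fun q hq => ?_⟩
      · have := mul_mem (mul_mem hg hx) (inv_mem hg)
        simpa [mul_assoc] using this
      · obtain ⟨r, hr, rfl⟩ := hq
        exact (conj_apply_eq_iff rfl).1 (hfix r hr)
  refine ⟨?_, fun x hx => ?_⟩
  · rw [← natCard_fixF6, ← fix_oct0_eq]
    exact Nat.card_congr ((MulAut.conj g⁻¹).toEquiv.subtypeEquiv key)
  · have h1 := sq_fixF6 (fix_oct0_eq ▸ (key x).1 hx)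
    rw [← map_mul] at h1
    exact (MulEquiv.map_eq_one_iff _).1 h1

end CfsgLib.Golay
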