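import Cfsg.Agent.Lib.Golay.Octads

/-!
Permutations of the 24 points packed as base-32 digit strings, images of masks, and the membership
test for the automorphism group of the code.
-/

set_option autoImplicit false

namespace CfsgLib.Golay

open Cfsg
open scoped Pointwise

/-- image of position `i` under a packed permutation -/
def ap (P i : ℕ) : ℕ := (P >>> (5 * i)) % 32

theorem ap_zero (P : ℕ) : ap P 0 = P % 32 := by simp [ap]

theorem ap_succ (P i : ℕ) : ap P (i + 1) = ap (P / 32) i := by
  unfold ap
  rw [Nat.shiftRight_eq_div_pow, Nat.shiftRight_eq_div_pow, Nat.div_div_eq_div_mul]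
  congr 2
  rw [show (32 : ℕ) = 2 ^ 5 from rfl, ← pow_add]; congr 1; omega

/-- image of a mask -/
def mimgAux : ℕ → ℕ → ℕ → ℕ
  | 0, _, _ => 0
  | k + 1, m, P => (if m % 2 = 1 then 2 ^ (P % 32) else 0) ||| mimgAux k (m / 2) (P / 32)

/-- image of a 24-bit mask -/
def mimg (P m : ℕ) : ℕ := mimgAux 24 m P

theorem testBit_mimgAux (k : ℕ) : ∀ m P j,
    (mimgAux k m P).testBit j = true ↔ ∃ i, i < k ∧ m.testBit i = true ∧ ap P i = j := by
  induction k with
  | zero => intro m P j; simp [mimgAux]
  | succ k ih =>
    intro m P j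
    rw [mimgAux, Nat.testBit_or, Bool.or_eq_true, ih]
    constructor
    · rintro (h | ⟨i, hi, hb, he⟩)
      · split at h
        · refine ⟨0, by omega, by simpa [Nat.testBit_zero], ?_⟩
          rw [Nat.testBit_two_pow] at h
          simpa [ap_zero] using h
        · simp at h
      · exact ⟨i + 1, by omega, by rwa [Nat.testBit_succ], by rwa [ap_succ]⟩
    · rintro ⟨i, hi, hb, he⟩
      cases i with
      | zero =>
        left
        rw [if_pos (by simpa [Nat.testBit_zero] using hb)]
        rw [Nat.testBit_two_pow]; simpa [ap_zero] using he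
      | succ i =>
        exact Or.inr ⟨i, by omega, by rwa [Nat.testBit_succ] at hb, by rwa [ap_succ] at he⟩

/-- the packed permutation is a bijection of the 24 positions -/
def validP (P : ℕ) : Bool :=
  ((List.range 24).all fun i => decide (ap P i < 24)) && mimg P 16777215 == 16777215

theorem validP_lt {P : ℕ} (h : validP P = true) {i : ℕ} (hi : i < 24) : ap P i < 24 := by
  simp only [validP, Bool.and_eq_true, List.all_eq_true, List.mem_range, decide_eq_true_eq] at h
  exact h.1 i hi

theorem validP_surj {P : ℕ} (h : validP P = true) (j : ℕ) (hj : j < 24) :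
    ∃ i, i < 24 ∧ ap P i = j := by
  simp only [validP, Bool.and_eq_true, beq_iff_eq] at h
  have hb : (mimg P 16777215).testBit j = true := by
    rw [h.2, show (16777215 : ℕ) = 2 ^ 24 - 1 from rfl, Nat.testBit_two_pow_sub_one]
    simpa using hj
  obtain ⟨i, hi, -, he⟩ := (testBit_mimgAux _ _ _ _).1 hb
  exact ⟨i, hi, he⟩

/-- the function on points of a packed permutation -/
def apFun (P : ℕ) (p : GolayPt) : GolayPt := pt (ap P (idx p))

theorem apFun_bijective {P : ℕ} (h : validP P = true) : Function.Bijective (apFun P) := by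
  rw [← Finite.surjective_iff_bijective]
  intro q
  obtain ⟨i, hi, he⟩ := validP_surj h (idx q) (idx_lt q)
  exact ⟨pt i, by rw [apFun, idx_pt i hi, he, pt_idx]⟩

open Classical in
/-- the permutation of a packed permutation -/
noncomputable def toPerm (P : ℕ) : Equiv.Perm GolayPt :=
  if h : Function.Bijective (apFun P) then Equiv.ofBijective _ h else 1

theorem toPerm_apply {P : ℕ} (h : validP P = true) (p : GolayPt) :
    toPerm P p = pt (ap P (idx p)) := by
  rw [toPerm, dif_pos (apFun_bijective h)]; rfl

theorem idx_toPerm {P : ℕ} (h : validP P = true) (p : GolayPt) :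
    idx (toPerm P p) = ap P (idx p) := by
  rw [toPerm_apply h, idx_pt _ (validP_lt h (idx_lt p))]

theorem mimg_lt {P : ℕ} (h : validP P = true) (m : ℕ) : mimg P m < 2 ^ 24 := by
  apply Nat.lt_pow_two_of_testBit
  intro j hj
  by_contra hc
  obtain ⟨i, hi, -, he⟩ := (testBit_mimgAux _ _ _ _).1 (by simpa [mimg] using hc)
  have := validP_lt h hi; omega

theorem mem_dec_mimg {P : ℕ} (h : validP P = true) (m : ℕ) (p : GolayPt) :
    toPerm P p ∈ dec (mimg P m) ↔ p ∈ dec m := by
  simp only [mem_dec, idx_toPerm h, mimg, testBit_mimgAux]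
  constructor
  · rintro ⟨i, hi, hb, he⟩
    have : toPerm P (pt i) = toPerm P p := by
      rw [toPerm_apply h, toPerm_apply h, idx_pt i hi, he]
    rw [← (toPerm P).injective this, idx_pt i hi]; exact hb
  · exact fun hb => ⟨idx p, idx_lt p, hb, rfl⟩

theorem smul_dec {P : ℕ} (h : validP P = true) (m : ℕ) :
    toPerm P • dec m = dec (mimg P m) := by
  ext q
  obtain ⟨p, rfl⟩ := (toPerm P).surjective q
  rw [mem_dec_mimg h, show toPerm P p = toPerm P • p from rfl, Finset.smul_mem_smul_finset_iff]

/-- composition of packed permutations -/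
def mulAux (P : ℕ) : ℕ → ℕ → ℕ
  | 0, _ => 0
  | k + 1, Q => ap P (Q % 32) + 32 * mulAux P k (Q / 32)

/-- product of packed permutations -/
def mulP (P Q : ℕ) : ℕ := mulAux P 24 Q

theorem ap_mulAux (P : ℕ) : ∀ k Q i, i < k → ap (mulAux P k Q) i = ap P (ap Q i) := by
  intro k
  induction k with
  | zero => intro Q i h; omega
  | succ k ih =>
    intro Q i h
    have hlt : ap P (Q % 32) < 32 := Nat.mod_lt _ (by norm_num)
    cases i with
    | zero =>
      rw [mulAux, ap_zero, Nat.add_mul_mod_self_left, Nat.mod_eq_of_lt hlt, ap_zero]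
    | succ i =>
      rw [mulAux, ap_succ, Nat.add_mul_div_left _ _ (by norm_num : 0 < 32),
        Nat.div_eq_of_lt hlt, zero_add, ih _ _ (by omega), ap_succ]

theorem validP_mulP {P Q : ℕ} (hP : validP P = true) (hQ : validP Q = true) :
    validP (mulP P Q) = true := by
  have hap : ∀ i, i < 24 → ap (mulP P Q) i = ap P (ap Q i) := fun i hi => ap_mulAux P 24 Q i hi
  simp only [validP, Bool.and_eq_true, List.all_eq_true, List.mem_range, decide_eq_true_eq,
    beq_iff_eq]
  refine ⟨fun i hi => by rw [hap i hi]; exact validP_lt hP (validP_lt hQ hi), ?_⟩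
  apply Nat.eq_of_testBit_eq
  intro j
  rw [show (16777215 : ℕ) = 2 ^ 24 - 1 from rfl, Nat.testBit_two_pow_sub_one, Bool.eq_iff_iff,
    decide_eq_true_eq, mimg, testBit_mimgAux]
  constructor
  · rintro ⟨i, hi, -, rfl⟩; rw [hap i hi]; exact validP_lt hP (validP_lt hQ hi)
  · intro hj
    obtain ⟨a, ha, hae⟩ := validP_surj hP j hj
    obtain ⟨b, hb, hbe⟩ := validP_surj hQ a ha
    exact ⟨b, hb, by rw [Nat.testBit_two_pow_sub_one]; simpa using hb, by rw [hap b hb, hbe, hae]⟩

theorem toPerm_mulP {P Q : ℕ} (hP : validP P = true) (hQ : validP Q = true) :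
    toPerm (mulP P Q) = toPerm P * toPerm Q := by
  ext p
  rw [Equiv.Perm.mul_apply, toPerm_apply (validP_mulP hP hQ), toPerm_apply hP,
    idx_toPerm hQ, mulP, ap_mulAux P 24 Q _ (idx_lt p)]

theorem eq_toPerm {P : ℕ} (h : validP P = true) (g : Equiv.Perm GolayPt)
    (hg : ∀ p, idx (g p) = ap P (idx p)) : g = toPerm P :=
  Equiv.ext fun p => idx_injective (by rw [idx_toPerm h, hg])

/-- a permutation preserves the code as soon as it maps supports to supports -/
theorem mem_M24_iff {g : Equiv.Perm GolayPt} :
    g ∈ M24 ↔ ∀ s ∈ supports (golayCode : Set (GolayPt → ZMod 2)),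
      g • s ∈ supports (golayCode : Set (GolayPt → ZMod 2)) := by
  constructor
  · intro hg s hs
    have he : g • supports (golayCode : Set (GolayPt → ZMod 2)) = supports _ := hg
    rw [← he]; exact Set.smul_mem_smul_set hs
  · intro h
    refine MulAction.mem_stabilizer_iff.2 ?_
    refine Set.eq_of_subset_of_ncard_le ?_ ?_ (Set.toFinite _)
    · rintro _ ⟨s, hs, rfl⟩; exact h s hs
    · rw [Set.ncard_smul_set]

theorem smul_mem_supports {g : Equiv.Perm GolayPt} (hg : g ∈ M24) {s : Finset GolayPt}
    (hs : s ∈ supports (golayCode : Set (GolayPt → ZMod 2))) :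
    g • s ∈ supports (golayCode : Set (GolayPt → ZMod 2)) := mem_M24_iff.1 hg s hs

theorem support₂_comp_symm (g : Equiv.Perm GolayPt) (w : GolayPt → ZMod 2) :
    support₂ (fun p => w (g.symm p)) = g • support₂ w := by
  ext q
  obtain ⟨p, rfl⟩ := g.surjective q
  rw [show g p = g • p from rfl, Finset.smul_mem_smul_finset_iff]
  simp [support₂]

theorem support₂_injective : Function.Injective (support₂ : (GolayPt → ZMod 2) → Finset GolayPt) := by
  intro v w h
  funext p
  have := Finset.ext_iff.1 h p
  simp only [support₂, Finset.mem_filter, Finset.mem_univ, true_and] at this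
  revert this
  generalize v p = a; generalize w p = b; revert a b; decide

theorem mem_M24_of_linear {g : Equiv.Perm GolayPt}
    (h : ∀ w ∈ golayCode, (fun p => w (g.symm p)) ∈ golayCode) : g ∈ M24 := by
  rw [mem_M24_iff]
  rintro s ⟨w, hw, rfl⟩
  exact ⟨_, h w hw, support₂_comp_symm g w⟩

theorem comp_symm_mem {g : Equiv.Perm GolayPt} (hg : g ∈ M24) {w : GolayPt → ZMod 2}
    (hw : w ∈ golayCode) : (fun p => w (g.symm p)) ∈ golayCode := by
  obtain ⟨v, hv, he⟩ := smul_mem_supports hg ⟨w, hw, rfl⟩
  rw [← support₂_comp_symm] at he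
  rwa [support₂_injective he] at hv

/-- test for preserving the code -/
def inM24 (P : ℕ) : Bool := validP P && rows.all fun r => inC (mimg P r)

theorem wd_comp_toPerm {P : ℕ} (h : validP P = true) (m : ℕ) :
    (fun p => wd m ((toPerm P).symm p)) = wd (mimg P m) := by
  apply support₂_injective
  rw [support₂_comp_symm, support_wd, support_wd, smul_dec h]

theorem toPerm_mem_M24 {P : ℕ} (h : inM24 P = true) : toPerm P ∈ M24 := by
  simp only [inM24, Bool.and_eq_true, List.all_eq_true] at h
  apply mem_M24_of_linear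
  let W : Submodule (ZMod 2) (GolayPt → ZMod 2) :=
    { carrier := {w | (fun p => w ((toPerm P).symm p)) ∈ golayCode}
      zero_mem' := golayCode.zero_mem
      add_mem' := fun ha hb => golayCode.add_mem ha hb
      smul_mem' := fun c _ ha => golayCode.smul_mem c ha }
  intro w hw
  obtain ⟨m, -, hc, rfl⟩ := mem_golayCode.1 hw
  simp only [inC, beq_iff_eq] at hc
  have key : ∀ (l : List ℕ), (∀ r ∈ l, wd r ∈ W) → ∀ i, wd (comb l i) ∈ W := by
    intro l
    induction l with
    | nil => intro _ i; simp [comb, wd_zero, W.zero_mem]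
    | cons r rs ih =>
      intro hl i
      simp only [List.mem_cons, forall_eq_or_imp] at hl
      rw [comb, wd_xor]
      refine W.add_mem ?_ (ih hl.2 _)
      split
      · exact hl.1
      · simp [wd_zero, W.zero_mem]
  rw [← hc]
  refine key rows (fun r hr => ?_) m
  show (fun p => wd r ((toPerm P).symm p)) ∈ golayCode
  rw [wd_comp_toPerm h.1]; exact wd_mem_of_inC (h.2 r hr)

end CfsgLib.Golay
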