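import Cfsg.Agent.Lib.Golay.Commute

/-!
Certified polycyclic 2-groups of permutations of the 24 points: elements, order, orbits.
-/

set_option autoImplicit false

namespace CfsgLib.Golay.SylowTwo

open Cfsg CfsgLib.Golay
open scoped Pointwise

/-- the packed identity -/
def idP : ℕ := powP 0 0

/-- equality of packed permutations on the 24 points -/
def eqP (P Q : ℕ) : Bool := (List.range 24).all fun i => ap P i == ap Q i

/-- all normal words in the generators -/
def els : List ℕ → List ℕ
  | [] => [idP]
  | g :: gs => els gs ++ (els gs).map (mulP g)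

/-- the polycyclic relations -/
def pcOK : List ℕ → List (ℕ × List ℕ) → Bool
  | [], [] => true
  | g :: gs, (a, bs) :: cs =>
    validP g && eqP (mulP g g) ((els gs).getD a idP) && bs.length == gs.length
      && (gs.zip bs).all (fun x => eqP (mulP x.1 g) (mulP g ((els gs).getD x.2 idP)))
      && !(els gs).any (eqP g) && pcOK gs cs
  | _, _ => false

/-- the generated group -/
noncomputable def HS (gs : List ℕ) : Subgroup (Equiv.Perm GolayPt) :=
  Subgroup.closure {σ | ∃ P ∈ gs, σ = toPerm P}

theorem validP_idP : validP idP = true := by decide +kernel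

theorem toPerm_idP : toPerm idP = 1 := by
  have hb : validP idP = true := validP_idP
  refine (eq_toPerm hb 1 fun p => ?_).symm
  rw [Equiv.Perm.one_apply]
  have h : (List.range 24).all (fun i => ap idP i == i) = true := by decide +kernel
  have := List.all_eq_true.1 h (idx p) (List.mem_range.2 (idx_lt p))
  rw [beq_iff_eq] at this
  exact this.symm

attribute [local irreducible] idP toPerm mulP validP

theorem toPerm_eq_of_eqP {P Q : ℕ} (hP : validP P = true) (hQ : validP Q = true)
    (h : eqP P Q = true) : toPerm P = toPerm Q :=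
  eq_toPerm hQ _ fun p => by
    rw [idx_toPerm hP]
    exact beq_iff_eq.1 (List.all_eq_true.1 h (idx p) (List.mem_range.2 (idx_lt p)))

theorem eqP_of_toPerm_eq {P Q : ℕ} (hP : validP P = true) (hQ : validP Q = true)
    (h : toPerm P = toPerm Q) : eqP P Q = true := by
  refine List.all_eq_true.2 fun i hi => beq_iff_eq.2 ?_
  have hi' := List.mem_range.1 hi
  rw [← idx_pt i hi', ← idx_toPerm hP, ← idx_toPerm hQ, h]

theorem validP_of_pcOK : ∀ {gs : List ℕ} {cs : List (ℕ × List ℕ)}, pcOK gs cs = true →
    ∀ g ∈ gs, validP g = true := by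
  intro gs
  induction gs with
  | nil => intro cs _ g hg; simp at hg
  | cons g gs ih =>
    intro cs h
    cases cs with
    | nil => simp [pcOK] at h
    | cons c cs =>
      obtain ⟨a, bs⟩ := c
      simp only [pcOK, Bool.and_eq_true] at h
      intro x hx
      rcases List.mem_cons.1 hx with rfl | hx
      · exact h.1.1.1.1.1
      · exact ih h.2 x hx

theorem pcOK_drop : ∀ (d : ℕ) {gs : List ℕ} {cs : List (ℕ × List ℕ)}, pcOK gs cs = true →
    pcOK (gs.drop d) (cs.drop d) = true := by
  intro d
  induction d with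
  | zero => exact fun h => by simpa using h
  | succ d ih =>
    intro gs cs h
    cases gs with
    | nil => cases cs <;> simp_all [pcOK]
    | cons g gs =>
      cases cs with
      | nil => simp [pcOK] at h
      | cons c cs =>
        obtain ⟨a, bs⟩ := c
        simp only [pcOK, Bool.and_eq_true] at h
        simpa using ih h.2

theorem els_mem : ∀ {gs : List ℕ}, (∀ g ∈ gs, validP g = true) →
    ∀ P ∈ els gs, validP P = true ∧ toPerm P ∈ HS gs := by
  intro gs
  induction gs with
  | nil =>
    intro _ P hP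
    rw [els, List.mem_singleton] at hP
    subst hP
    exact ⟨validP_idP, toPerm_idP ▸ one_mem _⟩
  | cons g gs ih =>
    intro hv P hP
    simp only [List.mem_cons, forall_eq_or_imp] at hv
    have hle : HS gs ≤ HS (g :: gs) :=
      Subgroup.closure_mono fun σ ⟨Q, hQ, e⟩ => ⟨Q, List.mem_cons_of_mem _ hQ, e⟩
    rcases List.mem_append.1 hP with hP | hP
    · exact ⟨(ih hv.2 P hP).1, hle (ih hv.2 P hP).2⟩
    · obtain ⟨Q, hQ, rfl⟩ := List.mem_map.1 hP
      obtain ⟨h1, h2⟩ := ih hv.2 Q hQ
      refine ⟨validP_mulP hv.1 h1, ?_⟩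
      rw [toPerm_mulP hv.1 h1]
      exact mul_mem (Subgroup.subset_closure ⟨g, List.mem_cons_self, rfl⟩) (hle h2)

theorem getD_els_mem {gs : List ℕ} (i : ℕ) : (els gs).getD i idP ∈ els gs ∨
    (els gs).getD i idP = idP := by
  rw [List.getD_eq_getElem?_getD]
  by_cases h : i < (els gs).length
  · rw [List.getElem?_eq_getElem h]; exact Or.inl (List.getElem_mem h)
  · rw [List.getElem?_eq_none (not_lt.1 h)]; exact Or.inr rfl

theorem idP_mem_els : ∀ gs : List ℕ, idP ∈ els gs := by
  intro gs
  induction gs with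
  | nil => simp [els]
  | cons g gs ih => exact List.mem_append_left _ ih

/-- every element of the generated group is a normal word -/
theorem exists_els : ∀ {gs : List ℕ} {cs : List (ℕ × List ℕ)}, pcOK gs cs = true →
    ∀ σ ∈ HS gs, ∃ P ∈ els gs, σ = toPerm P := by
  intro gs
  induction gs with
  | nil =>
    intro cs _ σ hσ
    have : HS [] = ⊥ := by simp [HS]
    rw [this, Subgroup.mem_bot] at hσ
    exact ⟨idP, by simp [els], hσ.trans toPerm_idP.symm⟩
  | cons g gs ih =>
    intro cs hok
    cases cs with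
    | nil => simp [pcOK] at hok
    | cons c cs =>
      obtain ⟨a, bs⟩ := c
      simp only [pcOK, Bool.and_eq_true, beq_iff_eq, List.all_eq_true] at hok
      obtain ⟨⟨⟨⟨⟨hg, hsq⟩, hlen⟩, hconj⟩, -⟩, hrest⟩ := hok
      have hv := validP_of_pcOK hrest
      have hel := els_mem hv
      have hget : ∀ i, validP ((els gs).getD i idP) = true ∧ toPerm ((els gs).getD i idP) ∈ HS gs := by
        intro i
        rcases getD_els_mem (gs := gs) i with h | h
        · exact hel _ h
        · rw [h]; exact hel _ (idP_mem_els gs)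
      have hg2 : toPerm g * toPerm g ∈ HS gs := by
        rw [← toPerm_mulP hg hg, toPerm_eq_of_eqP (validP_mulP hg hg) (hget a).1 hsq]
        exact (hget a).2
      -- conjugation by `g` keeps the smaller group
      have hnorm : ∀ τ ∈ HS gs, (toPerm g)⁻¹ * τ * toPerm g ∈ HS gs := by
        intro τ hτ
        have : HS gs ≤ (HS gs).comap (MulAut.conj (toPerm g)⁻¹).toMonoidHom := by
          refine (Subgroup.closure_le _).2 ?_
          rintro _ ⟨h, hh, rfl⟩
          obtain ⟨i, hi, rfl⟩ := List.getElem_of_mem hh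
          have hz : (gs[i], bs[i]'(hlen ▸ hi)) ∈ gs.zip bs := by
            rw [List.mem_iff_getElem]
            exact ⟨i, by simp [List.length_zip, hlen, hi], by simp⟩
          have h1 := toPerm_eq_of_eqP (validP_mulP (hv _ hh) hg)
            (validP_mulP hg (hget _).1) (hconj _ hz)
          rw [toPerm_mulP (hv _ hh) hg, toPerm_mulP hg (hget _).1] at h1
          show (toPerm g)⁻¹ * toPerm gs[i] * (toPerm g)⁻¹⁻¹ ∈ HS gs
          rw [inv_inv, mul_assoc, h1, inv_mul_cancel_left]
          exact (hget _).2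
        simpa using this hτ
      intro σ hσ
      suffices σ ∈ {σ | σ ∈ HS gs ∨ ∃ τ ∈ HS gs, σ = toPerm g * τ} by
        rcases this with h | ⟨τ, hτ, rfl⟩
        · obtain ⟨P, hP, e⟩ := ih hrest σ h
          exact ⟨P, List.mem_append_left _ hP, e⟩
        · obtain ⟨P, hP, rfl⟩ := ih hrest τ hτ
          exact ⟨mulP g P, List.mem_append_right _ (List.mem_map_of_mem hP),
            (toPerm_mulP hg (hel P hP).1).symm⟩
      induction hσ using Subgroup.closure_induction with
      | mem x hx =>
        obtain ⟨P, hP, rfl⟩ := hx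
        rcases List.mem_cons.1 hP with rfl | hP
        · exact Or.inr ⟨1, one_mem _, (mul_one _).symm⟩
        · exact Or.inl (Subgroup.subset_closure ⟨P, hP, rfl⟩)
      | one => exact Or.inl (one_mem _)
      | mul x y _ _ hx hy =>
        rcases hx with hx | ⟨τ, hτ, rfl⟩ <;> rcases hy with hy | ⟨ρ, hρ, rfl⟩
        · exact Or.inl (mul_mem hx hy)
        · refine Or.inr ⟨(toPerm g)⁻¹ * x * toPerm g * ρ, mul_mem (hnorm x hx) hρ, by group⟩
        · exact Or.inr ⟨τ * y, mul_mem hτ hy, mul_assoc _ _ _⟩
        · refine Or.inl ?_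
          rw [show toPerm g * τ * (toPerm g * ρ) =
            toPerm g * toPerm g * ((toPerm g)⁻¹ * τ * toPerm g) * ρ by group]
          exact mul_mem (mul_mem hg2 (hnorm τ hτ)) hρ
      | inv x _ hx =>
        rcases hx with hx | ⟨τ, hτ, rfl⟩
        · exact Or.inl (inv_mem hx)
        · refine Or.inr ⟨(toPerm g * toPerm g)⁻¹ *
            ((toPerm g * toPerm g) * ((toPerm g)⁻¹ * τ⁻¹ * toPerm g) * (toPerm g * toPerm g)⁻¹), ?_, ?_⟩
          · exact mul_mem (inv_mem hg2) (mul_mem (mul_mem hg2 (hnorm _ (inv_mem hτ))) (inv_mem hg2))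
          · group

theorem els_length : ∀ gs : List ℕ, (els gs).length = 2 ^ gs.length := by
  intro gs
  induction gs with
  | nil => simp [els]
  | cons g gs ih => simp [els, ih, pow_succ]; omega

theorem nodup_els : ∀ {gs : List ℕ} {cs : List (ℕ × List ℕ)}, pcOK gs cs = true →
    ((els gs).map toPerm).Nodup := by
  intro gs
  induction gs with
  | nil => intro cs _; simp [els]
  | cons g gs ih =>
    intro cs hok
    cases cs with
    | nil => simp [pcOK] at hok
    | cons c cs =>
      obtain ⟨a, bs⟩ := c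
      simp only [pcOK, Bool.and_eq_true, Bool.not_eq_true', List.any_eq_false] at hok
      obtain ⟨⟨⟨⟨⟨hg, -⟩, -⟩, -⟩, hnot⟩, hrest⟩ := hok
      have hel := els_mem (validP_of_pcOK hrest)
      rw [els, List.map_append, List.nodup_append']
      refine ⟨ih hrest, ?_, ?_⟩
      · rw [List.map_map, List.map_congr_left (g := (fun σ => toPerm g * σ) ∘ toPerm)
          (fun P hP => by simp only [Function.comp_apply, toPerm_mulP hg (hel P hP).1]), ← List.map_map]
        exact (ih hrest).map (mul_right_injective _)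
      · intro σ h1 h2
        obtain ⟨P, hP, rfl⟩ := List.mem_map.1 h1
        obtain ⟨Q, hQ, hQe⟩ := List.mem_map.1 h2
        obtain ⟨R, hR, rfl⟩ := List.mem_map.1 hQ
        rw [toPerm_mulP hg (hel R hR).1] at hQe
        have hgmem : toPerm g ∈ HS gs := by
          rw [show toPerm g = toPerm P * (toPerm R)⁻¹ by rw [← hQe]; group]
          exact mul_mem (hel P hP).2 (inv_mem (hel R hR).2)
        obtain ⟨S, hS, hSe⟩ := exists_els hrest _ hgmem
        exact hnot S hS (eqP_of_toPerm_eq hg (hel S hS).1 hSe)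

theorem card_HS {gs : List ℕ} {cs : List (ℕ × List ℕ)} (h : pcOK gs cs = true) :
    Nat.card (HS gs) = 2 ^ gs.length := by
  classical
  have hset : (HS gs : Set (Equiv.Perm GolayPt)) = ((els gs).map toPerm).toFinset := by
    ext σ
    simp only [List.coe_toFinset, Set.mem_ofPred_eq, List.mem_map]
    constructor
    · intro hσ
      obtain ⟨P, hP, rfl⟩ := exists_els h σ hσ
      exact ⟨P, hP, rfl⟩
    · rintro ⟨P, hP, rfl⟩
      exact (els_mem (validP_of_pcOK h) P hP).2
  rw [← SetLike.coe_sort_coe, hset, Nat.card_coe_set_eq, Set.ncard_coe_finset,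
    List.toFinset_card_of_nodup (nodup_els h), List.length_map, els_length]

theorem els_append : ∀ {A B : List ℕ}, (∀ g ∈ A ++ B, validP g = true) → ∀ P ∈ els (A ++ B),
    ∃ a ∈ els A, ∃ b ∈ els B, toPerm P = toPerm a * toPerm b := by
  intro A
  induction A with
  | nil =>
    intro B _ P hP
    exact ⟨idP, by simp [els], P, hP, by rw [toPerm_idP, one_mul]⟩
  | cons g A ih =>
    intro B hv P hP
    simp only [List.cons_append, List.mem_cons, forall_eq_or_imp] at hv
    rw [List.cons_append, els] at hP
    rcases List.mem_append.1 hP with hP | hP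
    · obtain ⟨a, ha, b, hb, e⟩ := ih hv.2 P hP
      exact ⟨a, List.mem_append_left _ ha, b, hb, e⟩
    · obtain ⟨Q, hQ, rfl⟩ := List.mem_map.1 hP
      obtain ⟨a, ha, b, hb, e⟩ := ih hv.2 Q hQ
      refine ⟨mulP g a, List.mem_append_right _ (List.mem_map_of_mem ha), b, hb, ?_⟩
      rw [toPerm_mulP hv.1 (els_mem hv.2 Q hQ).1, e,
        toPerm_mulP hv.1 (els_mem (fun x hx => hv.2 x (List.mem_append_left _ hx)) a ha).1, mul_assoc]

/-- the mask of the orbit of a point -/
def orb (gs : List ℕ) (i : ℕ) : ℕ := closeUp gs 24 (2 ^ i)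

/-- the orbit masks are invariant -/
def orbOK (gs : List ℕ) : Bool :=
  (List.range 24).all fun i => (orb gs i).testBit i && gs.all fun g => mimg g (orb gs i) == orb gs i

theorem orbit_HS {gs : List ℕ} (hv : ∀ g ∈ gs, validP g = true) (hok : orbOK gs = true)
    (p : GolayPt) :
    MulAction.orbit (HS gs) p = (dec (orb gs (idx p)) : Set GolayPt) := by
  have h := List.all_eq_true.1 hok (idx p) (List.mem_range.2 (idx_lt p))
  simp only [Bool.and_eq_true, List.all_eq_true, beq_iff_eq] at h
  obtain ⟨hi, hinv⟩ := h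
  ext q
  rw [Finset.mem_coe]
  constructor
  · rintro ⟨⟨σ, hσ⟩, rfl⟩
    have hstab : HS gs ≤ MulAction.stabilizer (Equiv.Perm GolayPt) (dec (orb gs (idx p))) := by
      refine (Subgroup.closure_le _).2 ?_
      rintro _ ⟨g, hg, rfl⟩
      show toPerm g • dec (orb gs (idx p)) = dec (orb gs (idx p))
      rw [smul_dec (hv g hg), hinv g hg]
    have h1 : σ • p ∈ σ • dec (orb gs (idx p)) := Finset.smul_mem_smul_finset (mem_dec.2 hi)
    rw [show σ • dec (orb gs (idx p)) = dec (orb gs (idx p)) from hstab hσ] at h1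
    exact h1
  · intro hq
    obtain ⟨σ, hσ, hσq⟩ := closeUp_subset (G := HS gs) (x := p) hv
      (fun P hP => Subgroup.subset_closure ⟨P, hP, rfl⟩) 24 (2 ^ idx p)
      (fun r hr => ⟨1, one_mem _, by
        rw [(mem_dec_two_pow (idx_lt p)).1 hr, pt_idx]; rfl⟩) q hq
    exact ⟨⟨σ, hσ⟩, hσq⟩

end CfsgLib.Golay.SylowTwo
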