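import Cfsg.Agent.Lib.Golay.M24Data

/-!
Order, transitivity and generators of the Mathieu group on 24 points.
-/

set_option autoImplicit false

namespace CfsgLib.Golay

open Cfsg
open scoped Pointwise

theorem gens24_inM24 : levs24.all (fun L => L.gens.all inM24) = true := by decide +kernel

theorem carries24 : ∀ L ∈ levs24, Carries M24 [] L.gens := by
  intro L hL
  refine ⟨le_rfl, by simp, fun P hP => toPerm_mem_M24 ?_⟩
  have := List.all_eq_true.1 gens24_inM24 L hL
  exact List.all_eq_true.1 this P hP

theorem chainOK24 : chainOK [] 0 levs24 = true := by decide +kernel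

theorem stages24_ok : stagesOK (chainBot 0 levs24) stages24 = true := by decide +kernel

theorem carries_of_le {H : Subgroup (Equiv.Perm GolayPt)} (hH : H ≤ M24)
    (h : ∀ L ∈ levs24, ∀ P ∈ L.gens, toPerm P ∈ H) : ∀ L ∈ levs24, Carries H [] L.gens :=
  fun L hL => ⟨hH, by simp, h L hL⟩

theorem natCard_of_carries {H : Subgroup (Equiv.Perm GolayPt)} (hH : H ≤ M24)
    (h : ∀ L ∈ levs24, Carries H [] L.gens) : Nat.card H = 244823040 := by
  have h1 := card_chain levs24 0 h chainOK24
  rw [fixH_zero, fixH_eq_bot_of_stages hH stages24_ok, Subgroup.card_bot, mul_one] at h1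
  rw [h1]; decide +kernel

theorem natCard_M24 : Nat.card M24 = 244823040 := natCard_of_carries le_rfl carries24

theorem shift_eq : Equiv.optionCongr (Equiv.addRight (1 : ZMod 23)) = toPerm shiftP :=
  eq_toPerm (by decide +kernel) _ (by decide +kernel)

theorem projInv_eq : projInv = toPerm invP :=
  eq_toPerm (by decide +kernel) _ (by decide +kernel)

theorem cubeTwist_eq : cubeTwist = toPerm twistP := by
  refine eq_toPerm (by decide +kernel) _ fun p => ?_
  rw [show cubeTwist p = cubeTwistFun p from rfl]
  revert p; decide +kernel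

theorem shift_mem : Equiv.optionCongr (Equiv.addRight (1 : ZMod 23)) ∈ M24 := by
  rw [shift_eq]; exact toPerm_mem_M24 (by decide +kernel)

theorem projInv_mem : projInv ∈ M24 := by
  rw [projInv_eq]; exact toPerm_mem_M24 (by decide +kernel)

theorem cubeTwist_mem : cubeTwist ∈ M24 := by
  rw [cubeTwist_eq]; exact toPerm_mem_M24 (by decide +kernel)

theorem slp24_ok : slpOK [shiftP, invP, twistP] slp24 = true := by decide +kernel

theorem slp24_covers : levs24.all (fun L => L.gens.all fun P =>
    ([shiftP, invP, twistP] ++ slp24.map (fun t => t.2.2)).contains P) = true := by decide +kernel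

theorem closure_eq_M24 :
    Subgroup.closure {Equiv.optionCongr (Equiv.addRight (1 : ZMod 23)), projInv, cubeTwist} = M24 := by
  have hle : Subgroup.closure {Equiv.optionCongr (Equiv.addRight (1 : ZMod 23)), projInv, cubeTwist}
      ≤ M24 := by
    rw [Subgroup.closure_le]
    rintro g (rfl | rfl | rfl)
    exacts [shift_mem, projInv_mem, cubeTwist_mem]
  refine Subgroup.eq_of_le_of_card_ge hle (le_of_eq ?_)
  rw [natCard_M24, natCard_of_carries hle]
  intro L hL
  refine ⟨hle, by simp, fun P hP => ?_⟩
  refine (slp_mem slp24 _ slp24_ok ?_ P ?_).2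
  · intro Q hQ
    simp only [List.mem_cons, List.not_mem_nil, or_false] at hQ
    rcases hQ with rfl | rfl | rfl
    · exact ⟨by decide +kernel, shift_eq ▸ Subgroup.subset_closure (by simp)⟩
    · exact ⟨by decide +kernel, projInv_eq ▸ Subgroup.subset_closure (by simp)⟩
    · exact ⟨by decide +kernel, cubeTwist_eq ▸ Subgroup.subset_closure (by simp)⟩
  · have := List.all_eq_true.1 slp24_covers L hL
    simpa [List.contains_iff_mem] using List.all_eq_true.1 this P hP

/-- the first five base points -/
def base5 : List ℕ := [23, 0, 1, 2, 3]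

/-- the first five levels -/
def levs24top : List Lev := levs24.take 5

theorem levs24top_base : levs24top.map (fun L => L.b) = base5 := by decide +kernel

theorem exists_map_base5 (y : List GolayPt) (hy : y.length = 5) (hnd : y.Nodup) :
    ∃ g ∈ M24, base5.map (fun b => g (pt b)) = y := by
  have huniv : ∀ g : Equiv.Perm GolayPt, g • dec fullMask = dec fullMask := by
    intro g
    rw [dec_fullMask]
    exact Finset.eq_univ_of_forall fun p => by
      rw [← (g.apply_symm_apply p)]; exact Finset.smul_mem_smul_finset (Finset.mem_univ _)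
  obtain ⟨g, hg, -, hmap⟩ := exists_map_chain (H := M24) (extra := []) (A := fullMask)
    levs24top 0 1 y (fun L hL => carries24 L (List.take_subset _ _ hL))
    (by decide +kernel) (by decide +kernel) (one_mem _) (one_smul _ _)
    (by rw [hy]; decide +kernel) hnd
    (fun p _ => ⟨by rw [dec_fullMask]; exact Finset.mem_univ p, by simp [mem_dec]⟩)
    (fun h _ => huniv h)
  refine ⟨g, hg, ?_⟩
  rw [← hmap, ← levs24top_base, List.map_map]
  rfl

theorem five_pretransitive : MulAction.IsMultiplyPretransitive M24 GolayPt 5 := by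
  constructor
  intro x y
  obtain ⟨g, hg, hgx⟩ := exists_map_base5 (List.ofFn x) (List.length_ofFn ..)
    (List.nodup_ofFn.2 x.injective)
  obtain ⟨k, hk, hky⟩ := exists_map_base5 (List.ofFn y) (List.length_ofFn ..)
    (List.nodup_ofFn.2 y.injective)
  refine ⟨⟨k * g⁻¹, M24.mul_mem hk (M24.inv_mem hg)⟩, DFunLike.ext _ _ fun i => ?_⟩
  have hi : (i : ℕ) < base5.length := i.isLt
  have h1 : g (pt base5[i.val]) = x i := by
    have := congrArg (fun l => l[i.val]?) hgx
    simpa [List.getElem?_map, List.getElem?_eq_getElem hi, List.getElem?_eq_getElem, i.isLt,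
      -List.ofFn_succ] using this
  have h2 : k (pt base5[i.val]) = y i := by
    have := congrArg (fun l => l[i.val]?) hky
    simpa [List.getElem?_map, List.getElem?_eq_getElem hi, List.getElem?_eq_getElem, i.isLt,
      -List.ofFn_succ] using this
  change (k * g⁻¹) (x i) = y i
  rw [← h1, Equiv.Perm.mul_apply, Equiv.Perm.inv_def, Equiv.symm_apply_apply, h2]

/-- the octad through the first five base points -/
def oct0 : ℕ := (levs24.getD 5 ⟨0, [], []⟩).inv.headI

theorem oct0_mem : dec oct0 ∈ octads := dec_mem_octads (by decide +kernel) (by decide +kernel)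

theorem base5_mem_oct0 : ∀ b ∈ base5, oct0.testBit b = true := by decide +kernel

theorem exists_smul_oct0 {o : Finset GolayPt} (ho : o ∈ octads) :
    ∃ g ∈ M24, g • dec oct0 = o := by
  have hlen : ((o.toList).take 5).length = 5 := by simp [ho.2]
  obtain ⟨g, hg, hmap⟩ := exists_map_base5 _ hlen ((o.nodup_toList).sublist (List.take_sublist _ _))
  refine ⟨g, hg, octad_eq_of_five (smul_mem_octads hg oct0_mem) ho ?_⟩
  have h5 : ((o.toList).take 5).toFinset.card = 5 := by
    rw [List.toFinset_card_of_nodup ((o.nodup_toList).sublist (List.take_sublist _ _)), hlen]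
  refine le_trans (le_of_eq h5.symm) (Finset.card_le_card fun p hp => ?_)
  rw [List.mem_toFinset] at hp
  rw [Finset.mem_inter]
  refine ⟨?_, Finset.mem_toList.1 (List.take_subset _ _ hp)⟩
  rw [← hmap, List.mem_map] at hp
  obtain ⟨b, hb, rfl⟩ := hp
  have : pt b ∈ dec oct0 := by
    rw [mem_dec, idx_pt b ((by decide : ∀ b ∈ base5, b < 24) b hb)]; exact base5_mem_oct0 b hb
  exact Finset.smul_mem_smul_finset (a := g) this

theorem octad_transitive {o o' : Finset GolayPt} (ho : o ∈ octads) (ho' : o' ∈ octads) :
    ∃ g : M24, g • o = o' := by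
  obtain ⟨g, hg, rfl⟩ := exists_smul_oct0 ho
  obtain ⟨k, hk, rfl⟩ := exists_smul_oct0 ho'
  exact ⟨⟨k * g⁻¹, M24.mul_mem hk (M24.inv_mem hg)⟩, by
    show (k * g⁻¹) • g • dec oct0 = k • dec oct0
    rw [mul_smul, inv_smul_smul]⟩

theorem rows_weight : ∀ r ∈ rows, pop 24 r = 8 ∧ inC r = true := by decide +kernel

theorem M24_eq_octad_aut : M24 = setSystemAut octads := by
  apply le_antisymm
  · intro g hg
    refine MulAction.mem_stabilizer_iff.2 (Set.eq_of_subset_of_ncard_le ?_ ?_ (Set.toFinite _))
    · rintro _ ⟨s, hs, rfl⟩; exact smul_mem_octads hg hs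
    · rw [Set.ncard_smul_set]
  · intro g hg
    apply mem_M24_of_linear
    let W : Submodule (ZMod 2) (GolayPt → ZMod 2) :=
      { carrier := {w | (fun p => w (g.symm p)) ∈ golayCode}
        zero_mem' := golayCode.zero_mem
        add_mem' := fun ha hb => golayCode.add_mem ha hb
        smul_mem' := fun c _ ha => golayCode.smul_mem c ha }
    intro w hw
    obtain ⟨m, -, hc, rfl⟩ := mem_golayCode.1 hw
    simp only [inC, beq_iff_eq] at hc
    have key : ∀ (l : List ℕ), (∀ r ∈ l, wd r ∈ W) → ∀ i, wd (comb l i) ∈ W := by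
      intro l
      induction l with
      | nil => intro _ i; simp [comb, wd_zero, W.zero_mem]
      | cons r rs ih =>
        intro hl i
        simp only [List.mem_cons, forall_eq_or_imp] at hl
        rw [comb, wd_xor]
        refine W.add_mem ?_ (ih hl.2 _)
        split
        · exact hl.1
        · simp [wd_zero, W.zero_mem]
    rw [← hc]
    refine key rows (fun r hr => ?_) m
    show (fun p => wd r (g.symm p)) ∈ golayCode
    have hoct := dec_mem_octads (rows_weight r hr).2 (rows_weight r hr).1
    have he : g • octads = octads := hg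
    have h1 : g • dec r ∈ octads := he ▸ Set.smul_mem_smul_set hoct
    obtain ⟨⟨v, hv, hve⟩, -⟩ := h1
    rw [← support_wd, ← support₂_comp_symm] at hve
    exact support₂_injective hve ▸ hv

end CfsgLib.Golay

namespace CfsgLib.Golay

open Cfsg

/-- multiplication by `c` modulo 23, packed -/
def mulPk (c : ℕ) : ℕ := ((List.range 23).map fun i => (c * i % 23) * 32 ^ i).sum + 23 * 32 ^ 23

theorem mulPk_spec : ∀ c : ZMod 23, c ≠ 0 → inM24 (mulPk (c ^ 2).val) = true ∧
    ∀ p : GolayPt, idx (Option.map (fun x => c ^ 2 * x) p) = ap (mulPk (c ^ 2).val) (idx p) := by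
  decide +kernel

theorem mul_square_mem (u : (ZMod 23)ˣ) (hu : IsSquare u) :
    Equiv.optionCongr (Units.mulLeft u) ∈ M24 := by
  obtain ⟨v, rfl⟩ := hu
  haveI : Fact (Nat.Prime 23) := ⟨by norm_num⟩
  obtain ⟨h1, h2⟩ := mulPk_spec v (Units.ne_zero v)
  have hv : validP (mulPk ((v : ZMod 23) ^ 2).val) = true := by
    simp only [inM24, Bool.and_eq_true] at h1; exact h1.1
  have key : ∀ p : GolayPt, idx (Equiv.optionCongr (Units.mulLeft (v * v)) p) =
      ap (mulPk ((v : ZMod 23) ^ 2).val) (idx p) := by
    intro p
    rw [← h2]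
    congr 1
    cases p <;> simp [sq]
  rw [eq_toPerm hv _ key]
  exact toPerm_mem_M24 h1

end CfsgLib.Golay
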