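import Cfsg.Agent.Lib.Golay.NormCert
import Cfsg.Agent.Lib.Golay.MathieuFacts
import Cfsg.Agent.Lib.Groups.SimpleCrit
import Cfsg.Prelude.Def_KGroupFacts

/-!
Subgroups of small index of the Mathieu groups on 22, 23 and 24 points, and the automorphisms of the
last two.
-/

set_option autoImplicit false
set_option linter.style.haveILetI false

namespace CfsgLib.Golay.Aut

open Cfsg CfsgLib.Golay CfsgLib.SelfCent
open scoped Pointwise

/-- The Sylow count of a subgroup containing a conjugate of a self-centralizing element. -/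
theorem sylow_count {H : Type*} [Group H] [Finite H] {p q : ℕ} {x : H} (h : IsSelfCent p x)
    (hp : p = 2 * q + 1) (hinv : ∀ g : H, g * x * g⁻¹ ≠ x⁻¹) (J : Subgroup H)
    (hd : p ∣ Nat.card J) :
    ∃ e n : ℕ, e ∣ q ∧ Nat.card J = n * (p * e) ∧ n % p = 1 := by
  haveI : Fact p.Prime := ⟨h.1⟩
  obtain ⟨y, hy⟩ := exists_prime_orderOf_dvd_card' (G := J) p hd
  obtain ⟨a, ha⟩ := card_P_mem_conj h (H := Subgroup.zpowers (y : H))
    (by rw [Nat.card_zpowers, Subgroup.orderOf_coe, hy])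
  have hmem : a * x * a⁻¹ ∈ J := Subgroup.zpowers_le.mpr y.2 (by
    rw [← ha]; exact ⟨x, Subgroup.mem_zpowers x, by simp⟩)
  set z : J := ⟨a * x * a⁻¹, hmem⟩ with hz
  have hsc : IsSelfCent p z := by
    refine ⟨h.1, ?_, le_antisymm ?_ ?_⟩
    · rw [hz, Subgroup.orderOf_mk, ← h.2.1]
      exact (SemiconjBy.orderOf_eq a (by simp [SemiconjBy, mul_assoc])).symm
    · intro g hg
      rw [Subgroup.mem_centralizer_singleton_iff] at hg
      have hg' : (g : H) * (a * x * a⁻¹) = a * x * a⁻¹ * g := congrArg Subtype.val hg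
      have h1 : (a⁻¹ * g * a) * x = x * (a⁻¹ * g * a) := by
        calc (a⁻¹ * g * a) * x = a⁻¹ * ((g : H) * (a * x * a⁻¹)) * a := by group
          _ = _ := by rw [hg']; group
      obtain ⟨i, hi⟩ := Subgroup.mem_zpowers_iff.mp (comm_mem_zpowers h h1)
      refine Subgroup.mem_zpowers_iff.mpr ⟨i, Subtype.ext ?_⟩
      rw [Subgroup.coe_zpow, hz, conj_zpow, hi]
      group
    · rw [Subgroup.zpowers_le, Subgroup.mem_centralizer_singleton_iff]
  have hinv' : ∀ g : J, g * z * g⁻¹ ≠ z⁻¹ := by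
    intro g hg
    have hg' : (g : H) * (a * x * a⁻¹) * (g : H)⁻¹ = (a * x * a⁻¹)⁻¹ := congrArg Subtype.val hg
    apply hinv (a⁻¹ * g * a)
    calc a⁻¹ * g * a * x * (a⁻¹ * g * a)⁻¹
        = a⁻¹ * ((g : H) * (a * x * a⁻¹) * (g : H)⁻¹) * a := by group
      _ = _ := by rw [hg']; group
  obtain ⟨P, hP⟩ := exists_sylow hsc
  refine ⟨eIdx z, Nat.card (Sylow p J), CfsgLib.SimpleCrit.eIdx_dvd_q hsc hp hinv', ?_, ?_⟩
  · rw [← CfsgLib.SimpleCrit.card_nzr hsc, P.card_eq_index_normalizer]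
    have hn : nzr z = Subgroup.normalizer ((P : Subgroup J) : Set J) := by rw [hP]
    rw [hn]
    exact (Subgroup.index_mul_card _).symm
  · have : Nat.card (Sylow p J) % p = 1 % p := card_sylow_modEq_one p J
    rwa [Nat.mod_eq_of_lt h.1.one_lt] at this

/-- an element of order seven of the stabilizer of two points -/
def elt7 : ℕ := 962141111718839507378498752103517824

theorem elt7_chk : inM24 elt7 = true ∧ fixes elt7 F22 = true ∧ powP elt7 7 = powP elt7 0 ∧
    (∃ i ∈ List.range 24, ap elt7 i ≠ i) ∧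
    coverFirst F22 elt7 7 [1, 2, 4] = true ∧
    coverFirst F22 (powP elt7 6) 7 [1, 2, 4] = true ∧
    inM24 (powP elt7 6) = true ∧ fixes (powP elt7 6) F22 = true ∧
    powP (powP elt7 6) 7 = powP (powP elt7 6) 0 ∧ F22.testBit 1 = false ∧ ap elt7 1 ≠ 1 := by
  decide +kernel

theorem elt7_cent : candOK F22 [] elt7 elt7 [0, 1, 2, 4, 17, 23] (candNorm F22 elt7 elt7 1 [1, 2, 4])
    [(0, 0), (1, 0), (2, 0), (2, 1), (3, 0), (2, 3), (2, 6), (3, 1), (3, 4), (3, 6), (1, 4), (1, 5), (3, 2), (2, 4), (3, 5), (1, 6), (1, 3), (4, 0), (3, 3), (1, 2), (1, 1), (2, 5), (2, 2), (5, 0)] [powP elt7 0] = true := by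
  decide +kernel

theorem elt7_real : candOK F22 [] elt7 (powP elt7 6) [0, 1, 2, 4, 17, 23]
    (candNorm F22 elt7 (powP elt7 6) 1 [1, 2, 4])
    [(0, 0), (1, 0), (2, 0), (2, 1), (3, 0), (2, 3), (2, 6), (3, 1), (3, 4), (3, 6), (1, 4), (1, 5), (3, 2), (2, 4), (3, 5), (1, 6), (1, 3), (4, 0), (3, 3), (1, 2), (1, 1), (2, 5), (2, 2), (5, 0)] [] = true := by
  decide +kernel

theorem selfCent7 : ∃ x : fixH M24 F22, IsSelfCent 7 x ∧ ∀ g, g * x * g⁻¹ ≠ x⁻¹ := by
  obtain ⟨h1, h2, h3, ⟨i, hi, hine⟩, h4, h5, h6, h7, h8, h9, h10⟩ := elt7_chk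
  have hv : validP elt7 = true := by simp only [inM24, Bool.and_eq_true] at h1; exact h1.1
  have hpw := toPerm_powP hv
  have hx7 : toPerm elt7 ^ 7 = 1 := by rw [← (hpw 7).2, h3, (hpw 0).2, pow_zero]
  haveI : Fact (Nat.Prime 7) := ⟨by norm_num⟩
  refine ⟨⟨toPerm elt7, toPerm_mem_fix24 h1 h2⟩, ⟨by norm_num, ?_, le_antisymm ?_ ?_⟩, fun g hg => ?_⟩
  · refine orderOf_eq_prime (Subtype.ext (by simpa using hx7)) fun h => hine ?_
    have := (idx_toPerm hv (pt i)).symm
    rw [show toPerm elt7 = 1 from congrArg Subtype.val h, Equiv.Perm.one_apply,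
      idx_pt i (List.mem_range.1 hi)] at this
    exact this
  · intro g hg
    rw [Subgroup.mem_centralizer_singleton_iff] at hg
    obtain ⟨j, P, hP, hgP⟩ := exists_of_normOK (p := 7) h2 h1 h3 (by norm_num) h9 h10 h4 elt7_cent g.2
      (congrArg Subtype.val hg)
    rw [List.mem_singleton.1 hP, (hpw 0).2, pow_zero, mul_one] at hgP
    exact Subgroup.mem_zpowers_iff.2 ⟨j, Subtype.ext (by simp [hgP])⟩
  · rw [Subgroup.zpowers_le, Subgroup.mem_centralizer_singleton_iff]
  · have e1 : (g : Equiv.Perm GolayPt) * toPerm elt7 * (g : Equiv.Perm GolayPt)⁻¹ = (toPerm elt7)⁻¹ :=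
      congrArg Subtype.val hg
    have e2 : (toPerm elt7)⁻¹ = toPerm (powP elt7 6) := by
      rw [(hpw 6).2]
      exact inv_eq_of_mul_eq_one_right (by rw [← pow_succ', hx7])
    obtain ⟨j, P, hP, -⟩ := exists_of_normOK (p := 7) h7 h6 h8 (by norm_num) h9 h10 h5 elt7_real g.2
      (by rw [← e2, ← e1, inv_mul_cancel_right])
    simp at hP

theorem selfCent11 : ∃ hx : toPerm elt22 ∈ fixH M24 F22,
    IsSelfCent 11 (⟨toPerm elt22, hx⟩ : fixH M24 F22) ∧
    ∀ g : fixH M24 F22, g * ⟨toPerm elt22, hx⟩ * g⁻¹ ≠ (⟨toPerm elt22, hx⟩ : fixH M24 F22)⁻¹ :=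
  ⟨toPerm_mem_fix24 (by decide +kernel) (by decide +kernel),
    selfCent_of_conjOK (p := 11) (reps := [0, 1, 5, 23]) (dom := dom22) (inv := [])
    (by norm_num) le_rfl (by simp) _ (by decide +kernel) (by decide +kernel) (by decide +kernel)
    (by decide +kernel)⟩

theorem selfCent23 : ∃ hx : toPerm shiftP ∈ fixH M24 F23,
    IsSelfCent 23 (⟨toPerm shiftP, hx⟩ : fixH M24 F23) :=
  ⟨toPerm_mem_fix24 (by decide +kernel) (by decide +kernel),
    (selfCent_of_conjOK (p := 23) (reps := [0, 23]) (dom := domShift) (inv := [])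
    (by norm_num) le_rfl (by simp) _ (by decide +kernel) (by decide +kernel) (by decide +kernel)
    (by decide +kernel)).1⟩

/-- The stabilizer of two points has no subgroup of index 12 or 24. -/
theorem no_small_index22 (J : Subgroup (Equiv.Perm GolayPt)) (hJ : J ≤ fixH M24 F22) :
    Nat.card J ≠ 36960 ∧ Nat.card J ≠ 18480 := by
  have hcard : Nat.card (J.subgroupOf (fixH M24 F22)) = Nat.card J :=
    Nat.card_congr (Subgroup.subgroupOfEquivOfLe hJ).toEquiv
  constructor <;> intro h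
  · obtain ⟨x, hx, hinv⟩ := selfCent7
    obtain ⟨e, n, he, hn, hmod⟩ := sylow_count hx (q := 3) rfl hinv _
      (by rw [hcard, h]; norm_num)
    rw [hcard, h] at hn
    rcases (Nat.dvd_prime Nat.prime_three).mp he with rfl | rfl <;> omega
  · obtain ⟨_, hx, hinv⟩ := selfCent11
    obtain ⟨e, n, he, hn, hmod⟩ := sylow_count hx (q := 5) rfl hinv _
      (by rw [hcard, h]; norm_num)
    rw [hcard, h] at hn
    rcases (Nat.dvd_prime Nat.prime_five).mp he with rfl | rfl <;> omega

/-- the positions fixed by a packed permutation lie in the mask -/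
def fixedIn (x F : ℕ) : Bool := (List.range 24).all fun i => ap x i != i || F.testBit i

/-- Elements of the order of a self-centralizing element have fixed points only in the mask. -/
theorem fixed_of_selfCent {F x p : ℕ} {hx : toPerm x ∈ fixH M24 F}
    (h : IsSelfCent p (⟨toPerm x, hx⟩ : fixH M24 F)) (hv : validP x = true)
    (hchk : fixedIn x F = true) {y : Equiv.Perm GolayPt} (hy : y ∈ fixH M24 F) (ho : orderOf y = p)
    {r : GolayPt} (hr : y r = r) : r ∈ dec F := by
  haveI : Fact p.Prime := ⟨h.1⟩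
  obtain ⟨a, ha⟩ := card_P_mem_conj h (H := Subgroup.zpowers (⟨y, hy⟩ : fixH M24 F))
    (by rw [Nat.card_zpowers, Subgroup.orderOf_mk, ho])
  have hmem : a * ⟨toPerm x, hx⟩ * a⁻¹ ∈ Subgroup.zpowers (⟨y, hy⟩ : fixH M24 F) := by
    rw [← ha]; exact ⟨_, Subgroup.mem_zpowers _, by simp⟩
  obtain ⟨i, hi⟩ := Subgroup.mem_zpowers_iff.mp hmem
  have h1 : ((a : Equiv.Perm GolayPt) * toPerm x * (a : Equiv.Perm GolayPt)⁻¹) r = r := by
    have hi' : y ^ i = (a : Equiv.Perm GolayPt) * toPerm x * (a : Equiv.Perm GolayPt)⁻¹ := by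
      simpa using congrArg Subtype.val hi
    rw [← hi']
    exact Equiv.Perm.zpow_apply_eq_self_of_apply_eq_self hr i
  set w := (a : Equiv.Perm GolayPt)⁻¹ r with hw
  have h2 : toPerm x w = w := by
    rw [Equiv.Perm.mul_apply, Equiv.Perm.mul_apply, ← hw] at h1
    exact (a : Equiv.Perm GolayPt).injective (by rw [h1, hw]; simp)
  have h3 : w ∈ dec F := by
    have := List.all_eq_true.1 hchk (idx w) (List.mem_range.2 (idx_lt w))
    rw [Bool.or_eq_true, bne_iff_ne] at this
    refine mem_dec.2 (this.resolve_left (not_not.2 ?_))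
    rw [← idx_toPerm hv, h2]
  have h4 := (mem_fixH.1 a.2).2 w h3
  rw [hw] at h4
  rw [show r = w by rw [hw, ← h4]; simp]
  exact h3

theorem card_eq_orbit_mul (K : Subgroup (Equiv.Perm GolayPt)) (q : GolayPt) :
    Nat.card (MulAction.orbit K q) *
      Nat.card ↥(K ⊓ MulAction.stabilizer (Equiv.Perm GolayPt) q) = Nat.card K := by
  rw [← Nat.card_congr (MulAction.orbitProdStabilizerEquivGroup K q), Nat.card_prod]
  congr 1
  refine Nat.card_congr (Equiv.trans ?_ (Subgroup.subgroupOfEquivOfLe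
    (inf_le_left : K ⊓ MulAction.stabilizer (Equiv.Perm GolayPt) q ≤ K)).toEquiv).symm
  exact Equiv.subtypeEquivRight fun g => by
    simp [Subgroup.mem_subgroupOf, MulAction.mem_stabilizer_iff, Subgroup.smul_def]

/-- The size of an orbit is congruent to the number of its points fixed by a `p`-element. -/
theorem orbit_mod {K : Subgroup (Equiv.Perm GolayPt)} {p : ℕ} [Fact p.Prime]
    {y : Equiv.Perm GolayPt} (hy : y ∈ K) (ho : orderOf y = p) (q : GolayPt) :
    Nat.card (MulAction.orbit K q) ≡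
      Nat.card {r : MulAction.orbit K q // y r.1 = r.1} [MOD p] := by
  classical
  have hiff : ∀ r, r ∈ MulAction.orbit K q ↔ y r ∈ MulAction.orbit K q := fun r =>
    ⟨fun ⟨g, hg⟩ => ⟨⟨y, hy⟩ * g, show ((⟨y, hy⟩ : K) * g) • q = y r by
        rw [mul_smul, show g • q = r from hg]; rfl⟩,
      fun ⟨g, hg⟩ => ⟨(⟨y, hy⟩ : K)⁻¹ * g, show ((⟨y, hy⟩ : K)⁻¹ * g) • q = r by
        rw [mul_smul, show g • q = y r from hg, inv_smul_eq_iff]; rfl⟩⟩
  let σ : Equiv.Perm (MulAction.orbit K q) := y.subtypePerm fun r => (hiff r).symm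
  have hσ : σ ^ p ^ 1 = 1 := by
    have hyp : y ^ p = 1 := by rw [← ho, pow_orderOf_eq_one]
    rw [pow_one]
    ext r
    rw [Equiv.Perm.subtypePerm_pow, Equiv.Perm.subtypePerm_apply]
    simp [hyp]
  have h := Equiv.Perm.card_compl_support_modEq (n := 1) hσ
  rw [Nat.card_eq_fintype_card, Nat.card_eq_fintype_card]
  refine h.symm.trans (congrArg (· % p) ?_)
  rw [Fintype.card_subtype]
  congr 1
  ext r
  simp [Equiv.Perm.mem_support, σ, Subtype.ext_iff]

theorem orbit_le {K : Subgroup (Equiv.Perm GolayPt)} {S : Finset GolayPt} {q : GolayPt}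
    (h : ∀ g ∈ K, g q ∈ S) : Nat.card (MulAction.orbit K q) ≤ S.card := by
  rw [Nat.card_coe_set_eq, ← Set.ncard_coe_finset]
  refine Set.ncard_le_ncard ?_ S.finite_toSet
  rintro _ ⟨g, rfl⟩
  exact h g g.2

theorem card_F23_compl : (dec (F23 ^^^ fullMask)).card = 23 := by
  rw [card_dec_eq_pop]; decide +kernel

theorem mem_F23 {r : GolayPt} : r ∈ dec F23 ↔ r = pt 23 := mem_dec_two_pow (by norm_num)

theorem mem_F22 {r : GolayPt} : r ∈ dec F22 ↔ r = pt 23 ∨ r = pt 0 := by
  rw [show F22 = 2 ^ 23 ||| 2 ^ 0 from rfl, mem_dec_or, mem_dec_two_pow (by norm_num),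
    mem_dec_two_pow (by norm_num)]

theorem mem_compl_F23 {r : GolayPt} : r ∈ dec (F23 ^^^ fullMask) ↔ r ≠ pt 23 := by
  rw [mem_dec, Nat.testBit_xor, testBit_fullMask, ne_eq, ← mem_F23, mem_dec]
  cases h : F23.testBit (idx r) <;> simp [idx_lt]

/-- Transport into the stabilizer of the base pair. -/
theorem exists_transport22 {q : GolayPt} (hq : q ≠ pt 23) {L : Subgroup (Equiv.Perm GolayPt)}
    (hL : L ≤ M24) (h23 : ∀ g ∈ L, g (pt 23) = pt 23) (hfix : ∀ g ∈ L, g q = q) :
    ∃ c ∈ M24, c (pt 23) = pt 23 ∧ c (pt 0) = q ∧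
      L.map (MulAut.conj c⁻¹).toMonoidHom ≤ fixH M24 F22 := by
  obtain ⟨c, hc, h1, h2⟩ := exists_map_pair (Ne.symm hq)
  refine ⟨c, hc, h1, h2, ?_⟩
  rintro _ ⟨g, hg, rfl⟩
  refine mem_fix22_iff.2 ⟨mul_mem (mul_mem (inv_mem hc) (hL hg)) (inv_mem (inv_mem hc)), ?_, ?_⟩
  · show (c⁻¹ * g * c⁻¹⁻¹) (pt 23) = pt 23
    rw [inv_inv, conj_apply_eq_iff h1]; exact h23 g hg
  · show (c⁻¹ * g * c⁻¹⁻¹) (pt 0) = pt 0
    rw [inv_inv, conj_apply_eq_iff h2]; exact hfix g hg

/-- Subgroups of index 23 of the stabilizer of a point are point stabilizers. -/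
theorem index23 (K : Subgroup (Equiv.Perm GolayPt)) (hK : K ≤ fixH M24 F23)
    (hcard : Nat.card K = 443520) :
    ∃ q ∈ dec (F23 ^^^ fullMask),
      K = fixH M24 F23 ⊓ MulAction.stabilizer (Equiv.Perm GolayPt) q := by
  classical
  haveI : Fact (Nat.Prime 11) := ⟨by norm_num⟩
  obtain ⟨⟨y, hy⟩, hyo⟩ := exists_prime_orderOf_dvd_card' (G := K) 11 (by rw [hcard]; norm_num)
  rw [Subgroup.orderOf_mk] at hyo
  have hyfix : y (pt 23) = pt 23 := (mem_fix23_iff.1 (hK hy)).2
  -- a second fixed point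
  obtain ⟨q, hq23, hqy⟩ : ∃ q, q ≠ pt 23 ∧ y q = q := by
    by_contra hno
    push Not at hno
    have h := Equiv.Perm.card_compl_support_modEq (p := 11) (n := 1) (σ := y)
      (by rw [pow_one, ← hyo, pow_orderOf_eq_one])
    have hs : y.supportᶜ = {pt 23} := by
      ext r
      simp only [Finset.mem_compl, Equiv.Perm.mem_support, not_not, Finset.mem_singleton]
      exact ⟨fun h => by_contra fun hne => hno r hne h, fun e => e ▸ hyfix⟩
    rw [hs, Finset.card_singleton, show Fintype.card GolayPt = 24 from rfl] at h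
    exact absurd h (by decide)
  have hKM : K ≤ M24 := hK.trans inf_le_left
  have huniq : ∀ r, y r = r → r = pt 23 ∨ r = q := by
    obtain ⟨c, hc, hc1, hc2, hle⟩ := exists_transport22 hq23
      (L := Subgroup.zpowers y) (Subgroup.zpowers_le.mpr (hKM hy))
      (fun g hg => by
        obtain ⟨i, rfl⟩ := hg
        exact Equiv.Perm.zpow_apply_eq_self_of_apply_eq_self hyfix i)
      (fun g hg => by
        obtain ⟨i, rfl⟩ := hg
        exact Equiv.Perm.zpow_apply_eq_self_of_apply_eq_self hqy i)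
    intro r hr
    obtain ⟨hx, hsc, -⟩ := selfCent11
    have hmem := hle ⟨y, Subgroup.mem_zpowers y, rfl⟩
    have ho : orderOf ((MulAut.conj c⁻¹).toMonoidHom y) = 11 := by
      rw [orderOf_injective _ (MulAut.conj c⁻¹).injective, hyo]
    have h1 := fixed_of_selfCent hsc (by decide +kernel) (by decide +kernel) hmem ho
      (r := c⁻¹ r) (by
        show (c⁻¹ * y * c⁻¹⁻¹) (c⁻¹ r) = c⁻¹ r
        rw [inv_inv, Equiv.Perm.mul_apply, Equiv.Perm.mul_apply]
        rw [show c (c⁻¹ r) = r by simp, hr])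
    rcases mem_F22.1 h1 with h | h <;> [left; right]
    · rw [← hc1, ← h]; simp
    · rw [← hc2, ← h]; simp
  refine ⟨q, mem_compl_F23.2 hq23, ?_⟩
  have hO : ∀ g ∈ K, g q ∈ dec (F23 ^^^ fullMask) := fun g hg => mem_compl_F23.2 fun e => hq23
    (g.injective (e.trans ((mem_fix23_iff.1 (hK hg)).2).symm))
  have hmod : Nat.card (MulAction.orbit K q) % 11 = 1 := by
    refine (orbit_mod hy hyo q).trans (congrArg (· % 11) (?_ : _ = 1))
    rw [Nat.card_eq_one_iff_unique]
    refine ⟨⟨fun a b => ?_⟩, ⟨⟨⟨q, MulAction.mem_orbit_self q⟩, hqy⟩⟩⟩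
    have key : ∀ a : {r : MulAction.orbit K q // y r.1 = r.1}, a.1.1 = q := fun a => by
      obtain ⟨g, hg⟩ := a.1.2
      refine (huniq _ a.2).resolve_left fun e => ?_
      have hgq : (g : Equiv.Perm GolayPt) q = pt 23 := hg.trans e
      exact mem_compl_F23.1 (hO g g.2) hgq
    exact Subtype.ext (Subtype.ext ((key a).trans (key b).symm))
  have hle : Nat.card (MulAction.orbit K q) ≤ 23 := card_F23_compl ▸ orbit_le hO
  have hmul := card_eq_orbit_mul K q
  rw [hcard] at hmul
  rcases (show Nat.card (MulAction.orbit K q) = 1 ∨ Nat.card (MulAction.orbit K q) = 12 ∨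
    Nat.card (MulAction.orbit K q) = 23 by omega) with h | h | h
  · rw [h, one_mul] at hmul
    have hKe : K ⊓ MulAction.stabilizer (Equiv.Perm GolayPt) q = K :=
      Subgroup.eq_of_le_of_card_ge inf_le_left (by rw [hmul, hcard])
    have hKle : K ≤ fixH M24 F23 ⊓ MulAction.stabilizer (Equiv.Perm GolayPt) q :=
      le_inf hK (inf_eq_left.1 hKe)
    obtain ⟨c, hc, -, -, hcle⟩ := exists_transport22 hq23
      (L := fixH M24 F23 ⊓ MulAction.stabilizer (Equiv.Perm GolayPt) q)
      (inf_le_left.trans inf_le_left) (fun g hg => (mem_fix23_iff.1 hg.1).2) (fun g hg => hg.2)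
    refine Subgroup.eq_of_le_of_card_ge hKle ?_
    rw [hcard, ← natCard_fix22, Nat.card_congr (Subgroup.equivMapOfInjective _
      (MulAut.conj c⁻¹).toMonoidHom (MulAut.conj c⁻¹).injective).toEquiv]
    exact Subgroup.card_le_of_le hcle
  · exfalso
    obtain ⟨c, -, -, -, hcle⟩ := exists_transport22 hq23
      (L := K ⊓ MulAction.stabilizer (Equiv.Perm GolayPt) q)
      (inf_le_left.trans hKM) (fun g hg => (mem_fix23_iff.1 (hK hg.1)).2) (fun g hg => hg.2)
    refine (no_small_index22 _ hcle).1 ?_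
    rw [← Nat.card_congr (Subgroup.equivMapOfInjective _
      (MulAut.conj c⁻¹).toMonoidHom (MulAut.conj c⁻¹).injective).toEquiv]
    rw [h] at hmul; omega
  · exfalso; rw [h] at hmul; omega

/-- The stabilizer of a point has no subgroup of index 24. -/
theorem no_index24 (J : Subgroup (Equiv.Perm GolayPt)) (hJ : J ≤ fixH M24 F23) :
    Nat.card J ≠ 425040 := by
  intro hcard
  haveI : Fact (Nat.Prime 23) := ⟨by norm_num⟩
  obtain ⟨⟨y, hy⟩, hyo⟩ := exists_prime_orderOf_dvd_card' (G := J) 23 (by rw [hcard]; norm_num)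
  rw [Subgroup.orderOf_mk] at hyo
  obtain ⟨hx, hsc⟩ := selfCent23
  have hp0 : pt 0 ≠ pt 23 := by decide +kernel
  have hO : ∀ g ∈ J, g (pt 0) ∈ dec (F23 ^^^ fullMask) := fun g hg => mem_compl_F23.2 fun e => hp0
    (g.injective (e.trans ((mem_fix23_iff.1 (hJ hg)).2).symm))
  have hmod : Nat.card (MulAction.orbit J (pt 0)) % 23 = 0 := by
    refine (orbit_mod hy hyo (pt 0)).trans (congrArg (· % 23) (?_ : _ = 0))
    rw [Nat.card_eq_zero]
    left
    refine ⟨fun a => ?_⟩
    obtain ⟨g, hg⟩ := a.1.2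
    have hr := mem_F23.1 (fixed_of_selfCent hsc (by decide +kernel) (by decide +kernel) (hJ hy) hyo a.2)
    exact mem_compl_F23.1 (hO g g.2) (hg.trans hr)
  have hle : Nat.card (MulAction.orbit J (pt 0)) ≤ 23 := card_F23_compl ▸ orbit_le hO
  haveI : Nonempty (MulAction.orbit J (pt 0)) := ⟨⟨pt 0, MulAction.mem_orbit_self _⟩⟩
  have hpos : 0 < Nat.card (MulAction.orbit J (pt 0)) := Nat.card_pos
  have hmul := card_eq_orbit_mul J (pt 0)
  rw [hcard, show Nat.card (MulAction.orbit J (pt 0)) = 23 by omega] at hmul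
  refine (no_small_index22 (J ⊓ MulAction.stabilizer (Equiv.Perm GolayPt) (pt 0)) ?_).2 (by omega)
  exact fun g hg => mem_fix22_iff.2
    ⟨(hJ hg.1).1, (mem_fix23_iff.1 (hJ hg.1)).2, hg.2⟩

/-- Subgroups of index 24 of the group on 24 points are point stabilizers. -/
theorem index24 (K : Subgroup (Equiv.Perm GolayPt)) (hK : K ≤ M24)
    (hcard : Nat.card K = 10200960) :
    ∃ q : GolayPt, K = M24 ⊓ MulAction.stabilizer (Equiv.Perm GolayPt) q := by
  classical
  haveI : Fact (Nat.Prime 23) := ⟨by norm_num⟩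
  obtain ⟨⟨y, hy⟩, hyo⟩ := exists_prime_orderOf_dvd_card' (G := K) 23 (by rw [hcard]; norm_num)
  rw [Subgroup.orderOf_mk] at hyo
  have hfp : ∃ q, y q = q := by
    by_contra hno
    push Not at hno
    have h := Equiv.Perm.card_compl_support_modEq (p := 23) (n := 1) (σ := y)
      (by rw [pow_one, ← hyo, pow_orderOf_eq_one])
    have hs : y.supportᶜ = ∅ := by
      ext r
      simp [Equiv.Perm.mem_support, hno r]
    rw [hs, Finset.card_empty, show Fintype.card GolayPt = 24 from rfl] at h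
    exact absurd h (by decide)
  obtain ⟨q, hqy⟩ := hfp
  obtain ⟨c, hc, hcq⟩ := exists_map_point q
  have htrans : ∀ L : Subgroup (Equiv.Perm GolayPt), L ≤ M24 → (∀ g ∈ L, g q = q) →
      L.map (MulAut.conj c⁻¹).toMonoidHom ≤ fixH M24 F23 := by
    rintro L hL hfix _ ⟨g, hg, rfl⟩
    refine mem_fix23_iff.2 ⟨mul_mem (mul_mem (inv_mem hc) (hL hg)) (inv_mem (inv_mem hc)), ?_⟩
    show (c⁻¹ * g * c⁻¹⁻¹) (pt 23) = pt 23
    rw [inv_inv, conj_apply_eq_iff hcq]; exact hfix g hg
  have hcardmap : ∀ L : Subgroup (Equiv.Perm GolayPt),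
      Nat.card (L.map (MulAut.conj c⁻¹).toMonoidHom) = Nat.card L := fun L =>
    (Nat.card_congr (Subgroup.equivMapOfInjective _
      (MulAut.conj c⁻¹).toMonoidHom (MulAut.conj c⁻¹).injective).toEquiv).symm
  have huniq : ∀ r, y r = r → r = q := by
    intro r hr
    obtain ⟨hx, hsc⟩ := selfCent23
    have hmem : (MulAut.conj c⁻¹).toMonoidHom y ∈ fixH M24 F23 :=
      htrans (Subgroup.zpowers y) (Subgroup.zpowers_le.mpr (hK hy)) (fun g hg => by
        obtain ⟨i, rfl⟩ := hg
        exact Equiv.Perm.zpow_apply_eq_self_of_apply_eq_self hqy i) ⟨y, Subgroup.mem_zpowers y, rfl⟩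
    have ho : orderOf ((MulAut.conj c⁻¹).toMonoidHom y) = 23 := by
      rw [orderOf_injective _ (MulAut.conj c⁻¹).injective, hyo]
    have h1 := mem_F23.1 (fixed_of_selfCent hsc (by decide +kernel) (by decide +kernel) hmem ho
      (r := c⁻¹ r) (by
        show (c⁻¹ * y * c⁻¹⁻¹) (c⁻¹ r) = c⁻¹ r
        rw [inv_inv, Equiv.Perm.mul_apply, Equiv.Perm.mul_apply]
        rw [show c (c⁻¹ r) = r by simp, hr]))
    rw [← hcq, ← h1]; simp
  refine ⟨q, ?_⟩
  have hmod : Nat.card (MulAction.orbit K q) % 23 = 1 := by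
    refine (orbit_mod hy hyo q).trans (congrArg (· % 23) (?_ : _ = 1))
    rw [Nat.card_eq_one_iff_unique]
    exact ⟨⟨fun a b => Subtype.ext (Subtype.ext ((huniq _ a.2).trans (huniq _ b.2).symm))⟩,
      ⟨⟨⟨q, MulAction.mem_orbit_self q⟩, hqy⟩⟩⟩
  have hle : Nat.card (MulAction.orbit K q) ≤ 24 :=
    orbit_le (S := Finset.univ) fun _ _ => Finset.mem_univ _
  have hmul := card_eq_orbit_mul K q
  rw [hcard] at hmul
  rcases (show Nat.card (MulAction.orbit K q) = 1 ∨ Nat.card (MulAction.orbit K q) = 24 by omega)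
    with h | h
  · rw [h, one_mul] at hmul
    have hKe : K ⊓ MulAction.stabilizer (Equiv.Perm GolayPt) q = K :=
      Subgroup.eq_of_le_of_card_ge inf_le_left (by rw [hmul, hcard])
    refine Subgroup.eq_of_le_of_card_ge (le_inf hK (inf_eq_left.1 hKe)) ?_
    rw [hcard, ← natCard_fix23, ← hcardmap]
    exact Subgroup.card_le_of_le (htrans _ inf_le_left fun g hg => hg.2)
  · exfalso
    refine no_index24 _ (htrans (K ⊓ MulAction.stabilizer (Equiv.Perm GolayPt) q)
      (inf_le_left.trans hK) fun g hg => hg.2) ?_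
    rw [hcardmap]
    rw [h] at hmul; omega

/-- A group whose automorphisms permute the point stabilizers and which is self-normalizing among
the permutations fixing the other points has only inner automorphisms. -/
theorem inner_of_stabilizers {G : Subgroup (Equiv.Perm GolayPt)} {A : Finset GolayPt} {m : ℕ}
    (hT : TwoTrans G A) (hA : 3 ≤ A.card) (hout : ∀ g ∈ G, ∀ p, p ∉ A → g p = p)
    (hm : ∀ p ∈ A, Nat.card ↥(G ⊓ MulAction.stabilizer (Equiv.Perm GolayPt) p) = m)
    (huniq : ∀ K ≤ G, Nat.card K = m →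
      ∃ p ∈ A, K = G ⊓ MulAction.stabilizer (Equiv.Perm GolayPt) p)
    (hnorm : ∀ σ : Equiv.Perm GolayPt, (∀ g ∈ G, σ * g * σ⁻¹ ∈ G) → σ ∈ G) :
    Nat.card (Cfsg.Out G) = 1 := by
  classical
  have hall : ∀ φ : MulAut G, φ ∈ Cfsg.Inn G := by
    intro φ
    have hex : ∀ p ∈ A, ∃ p' ∈ A, ∀ z : G,
        (φ.symm z : Equiv.Perm GolayPt) p = p ↔ (z : Equiv.Perm GolayPt) p' = p' := by
      intro p hp
      set S := (G ⊓ MulAction.stabilizer (Equiv.Perm GolayPt) p).subgroupOf G
      obtain ⟨p', hp', he⟩ := huniq ((S.map φ.toMonoidHom).map G.subtype)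
        (Subgroup.map_subtype_le _) (by
          rw [← Nat.card_congr (Subgroup.equivMapOfInjective _ _ G.subtype_injective).toEquiv,
            ← Nat.card_congr (Subgroup.equivMapOfInjective S φ.toMonoidHom φ.injective).toEquiv,
            Nat.card_congr (Subgroup.subgroupOfEquivOfLe inf_le_left).toEquiv, hm p hp])
      refine ⟨p', hp', fun z => ?_⟩
      constructor
      · intro h
        have h1 : (z : Equiv.Perm GolayPt) ∈ (S.map φ.toMonoidHom).map G.subtype :=
          ⟨z, ⟨φ.symm z, ⟨(φ.symm z).2, h⟩, by simp⟩, rfl⟩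
        rw [he] at h1
        exact h1.2
      · intro h
        have h1 : (z : Equiv.Perm GolayPt) ∈ G ⊓ MulAction.stabilizer (Equiv.Perm GolayPt) p' :=
          ⟨z.2, h⟩
        rw [← he] at h1
        obtain ⟨_, ⟨s, hs, rfl⟩, hse⟩ := h1
        have hz : φ s = z := Subtype.ext hse
        rw [← hz, MulEquiv.symm_apply_apply]
        exact hs.2
    choose f hfA hf using hex
    have hsep : ∀ p ∈ A, ∀ r ∈ A, (∀ z : G, (z : Equiv.Perm GolayPt) p = p →
        (z : Equiv.Perm GolayPt) r = r) → p = r := by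
      intro p hp r hr h
      by_contra hne
      obtain ⟨s, hs, hsp⟩ : ∃ s ∈ A, s ∉ ({p, r} : Finset GolayPt) := by
        by_contra hno
        push Not at hno
        have h1 := Finset.card_le_card (fun s hs => hno s hs : A ⊆ {p, r})
        have h2 : ({p, r} : Finset GolayPt).card ≤ 2 := Finset.card_le_two
        omega
      simp only [Finset.mem_insert, Finset.mem_singleton, not_or] at hsp
      obtain ⟨g, hg, hgp, hgr⟩ := hT.trans p hp r hr p hp s hs hne (Ne.symm hsp.1)
      exact hsp.2 (hgr.symm.trans (h ⟨g, hg⟩ hgp))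
    let σf : GolayPt → GolayPt := fun p => if h : p ∈ A then f p h else p
    have hσinj : Function.Injective σf := by
      intro p r h
      by_cases hp : p ∈ A <;> by_cases hr : r ∈ A <;> simp only [σf, dif_pos, dif_neg, hp, hr,
        not_false_eq_true] at h
      · refine hsep p hp r hr fun z hz => ?_
        have h1 := (hf p hp (φ z)).1 (by rwa [MulEquiv.symm_apply_apply])
        rw [h] at h1
        have h2 := (hf r hr (φ z)).2 h1
        rwa [MulEquiv.symm_apply_apply] at h2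
      · exact absurd (h ▸ hfA p hp) hr
      · exact absurd (h.symm ▸ hfA r hr) hp
      · exact h
    let σ : Equiv.Perm GolayPt := Equiv.ofBijective σf (Finite.injective_iff_bijective.1 hσinj)
    have hσA : ∀ p (hp : p ∈ A), σ p = f p hp := fun p hp => by
      show σf p = _
      simp only [σf, dif_pos hp]
    have hσO : ∀ p, p ∉ A → σ p = p := fun p hp => by
      show σf p = _
      simp only [σf, dif_neg hp]
    have hconj : ∀ g : G, (φ g : Equiv.Perm GolayPt) * σ = σ * g := by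
      intro g
      refine Equiv.ext fun p => ?_
      rw [Equiv.Perm.mul_apply, Equiv.Perm.mul_apply]
      by_cases hp : p ∈ A
      · have hgp : (g : Equiv.Perm GolayPt) p ∈ A := hT.stable _ g.2 p hp
        rw [hσA p hp, hσA _ hgp]
        refine (hsep _ (hfA _ hgp) _ (hT.stable _ (φ g).2 _ (hfA p hp)) fun z hz => ?_).symm
        have h1 := (hf _ hgp z).2 hz
        have h2 : (φ.symm ((φ g)⁻¹ * z * φ g) : Equiv.Perm GolayPt) p = p := by
          rw [map_mul, map_mul, map_inv, MulEquiv.symm_apply_apply]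
          simp only [Subgroup.coe_mul, Subgroup.coe_inv, Equiv.Perm.mul_apply]
          rw [h1, Equiv.Perm.inv_eq_iff_eq]
        have h3 := (hf p hp _).1 h2
        simp only [Subgroup.coe_mul, Subgroup.coe_inv, Equiv.Perm.mul_apply] at h3
        rwa [Equiv.Perm.inv_eq_iff_eq] at h3
      · rw [hσO p hp, hout _ g.2 p hp, hout _ (φ g).2 p hp, hσO p hp]
    have hval : ∀ g : G, (φ g : Equiv.Perm GolayPt) = σ * g * σ⁻¹ := fun g => by
      rw [← hconj, mul_inv_cancel_right]
    have hσG : σ ∈ G := hnorm σ fun g hg => by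
      rw [← hval ⟨g, hg⟩]; exact (φ ⟨g, hg⟩).2
    refine ⟨⟨σ, hσG⟩, ?_⟩
    ext g
    rw [MulAut.conj_apply, hval]
    simp
  have htop : Cfsg.Inn G = ⊤ := eq_top_iff.2 fun φ _ => hall φ
  rw [Cfsg.Out, ← Subgroup.index_eq_card, htop, Subgroup.index_top]

/-- inverse multipliers -/
def invMod (k : ℕ) : ℕ := k ^ 21 % 23

/-- the check that no multiplier outside the group normalizes it -/
def multOK (F : ℕ) (gens : List ℕ) : Bool :=
  gens.all (fun T => inM24 T && fixes T F) &&
  ((List.range 22).map (· + 1)).all fun k =>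
    validP (mulPk k) && validP (mulPk (invMod k)) &&
    mulP (mulPk k) (mulPk (invMod k)) == powP (mulPk k) 0 &&
    (List.range 23).all (fun i => ap (mulPk k) i == apN shiftP (k * i % 23) 0) &&
    ap (mulPk k) 23 == 23 &&
    (inM24 (mulPk k) || gens.any fun T => !inM24 (mulP (mulP (mulPk k) T) (mulPk (invMod k))))

/-- facts on the translation -/
theorem shift_chk : validP shiftP = true ∧ fixedIn shiftP F23 = true ∧
    powP shiftP 23 = powP shiftP 0 ∧
    ((List.range 23).all fun i => apN shiftP (23 - i) i == 0) = true ∧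
    ((List.range 23).all fun i => apN shiftP i 0 == i) = true ∧
    ap shiftP 23 = 23 ∧ ap shiftP 0 ≠ 0 := by
  decide +kernel

theorem normalizer_le {F m : ℕ} {gens : List ℕ} (hcard : Nat.card (fixH M24 F) = 23 * m)
    (hm : ¬ 23 ∣ m) (hF : ∀ p ∈ dec F, p = pt 23) (hs : toPerm shiftP ∈ fixH M24 F)
    (hchk : multOK F gens = true) (σ : Equiv.Perm GolayPt)
    (hσ : ∀ g ∈ fixH M24 F, σ * g * σ⁻¹ ∈ fixH M24 F) : σ ∈ fixH M24 F := by
  classical
  set G := fixH M24 F
  haveI : Fact (Nat.Prime 23) := ⟨by norm_num⟩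
  obtain ⟨hvs, hsfix, hs23, hsback, hsfwd, hsinf, hs0⟩ := shift_chk
  set s := toPerm shiftP with hsdef
  have hsp : s ^ 23 = 1 := by
    rw [hsdef, ← (toPerm_powP hvs 23).2, hs23, (toPerm_powP hvs 0).2, pow_zero]
  have hs1 : s ≠ 1 := by
    intro h
    have := idx_toPerm hvs (pt 0)
    rw [← hsdef, h, Equiv.Perm.one_apply, idx_pt 0 (by norm_num)] at this
    exact hs0 this.symm
  have hso : orderOf s = 23 := orderOf_eq_prime hsp hs1
  -- the two cyclic groups of order 23 are conjugate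
  have hsyl : ∀ z : G, orderOf z = 23 →
      ∃ P : Sylow 23 G, (P : Subgroup G) = Subgroup.zpowers z := by
    intro z hz
    have h23 : Nat.card (Subgroup.zpowers z) = 23 ^ 1 := by rw [Nat.card_zpowers, hz, pow_one]
    refine ⟨Sylow.ofCard (Subgroup.zpowers z) ?_, rfl⟩
    rw [h23, hcard, Nat.factorization_mul (by norm_num) (fun h => hm (by rw [h]; exact dvd_zero 23)),
      Finsupp.add_apply, Nat.factorization_eq_zero_of_not_dvd hm,
      Nat.Prime.factorization_self (by norm_num)]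
  obtain ⟨P1, hP1⟩ := hsyl ⟨s, hs⟩ (by rw [Subgroup.orderOf_mk, hso])
  obtain ⟨P2, hP2⟩ := hsyl ⟨σ * s * σ⁻¹, hσ s hs⟩ (by
    rw [Subgroup.orderOf_mk, ← hso]
    exact (SemiconjBy.orderOf_eq σ (by simp [SemiconjBy, mul_assoc])).symm)
  obtain ⟨a, ha⟩ := MulAction.exists_smul_eq G P2 P1
  have hk : ∃ k : ℕ, (a : Equiv.Perm GolayPt) * (σ * s * σ⁻¹) * (a : Equiv.Perm GolayPt)⁻¹ = s ^ k := by
    have hmem : a * ⟨σ * s * σ⁻¹, hσ s hs⟩ * a⁻¹ ∈ (P1 : Subgroup G) := by
      rw [← ha, Sylow.coe_subgroup_smul, hP2]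
      exact ⟨_, Subgroup.mem_zpowers _, rfl⟩
    rw [hP1] at hmem
    obtain ⟨k, hk⟩ := (isOfFinOrder_of_finite _).mem_powers_iff_mem_zpowers.mpr hmem
    exact ⟨k, (by simpa using congrArg Subtype.val hk.symm)⟩
  obtain ⟨k, hk⟩ := hk
  set τ := (a : Equiv.Perm GolayPt) * σ with hτ
  have hτs : τ * s = s ^ (k % 23) * τ := by
    rw [← hso, pow_mod_orderOf, ← hk, hτ]; group
  have hk0 : k % 23 ≠ 0 := by
    intro h
    rw [h, pow_zero, one_mul] at hτs
    exact hs1 (mul_left_cancel (hτs.trans (mul_one τ).symm))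
  have hscop : ∀ r, (s ^ (k % 23)) r = r → r = pt 23 := by
    intro r hr
    obtain ⟨j, hj⟩ := exists_pow_eq_self_of_coprime (x := s) (n := k % 23) (by
      rw [hso]
      exact ((Nat.Prime.coprime_iff_not_dvd (by norm_num)).2 fun h => hk0 (by omega)).symm)
    have h1 : s r = r := by
      rw [← hj, ← zpow_natCast]
      exact Equiv.Perm.zpow_apply_eq_self_of_apply_eq_self hr j
    have h2 := List.all_eq_true.1 hsfix (idx r) (List.mem_range.2 (idx_lt r))
    rw [Bool.or_eq_true, bne_iff_ne] at h2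
    refine mem_F23.1 (mem_dec.2 (h2.resolve_left (not_not.2 ?_)))
    rw [← idx_toPerm hvs, ← hsdef, h1]
  have hs23pt : s (pt 23) = pt 23 :=
    idx_injective (by rw [hsdef, idx_toPerm hvs, idx_pt 23 (by norm_num), hsinf])
  have hτ23 : τ (pt 23) = pt 23 := by
    refine hscop _ ?_
    rw [← Equiv.Perm.mul_apply, ← hτs, Equiv.Perm.mul_apply, hs23pt]
  have hi0 : idx (τ (pt 0)) < 23 := by
    have h1 : idx (τ (pt 0)) ≠ 23 := by
      intro h
      have h2 : τ (pt 0) = τ (pt 23) := by rw [hτ23, ← pt_idx (τ (pt 0)), h]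
      exact absurd (τ.injective h2) (by decide +kernel)
    have := idx_lt (τ (pt 0))
    omega
  set j := 23 - idx (τ (pt 0)) with hj
  set ρ := s ^ j * τ with hρ
  have hρ0 : ρ (pt 0) = pt 0 := by
    apply idx_injective
    rw [hρ, Equiv.Perm.mul_apply, hsdef, idx_toPerm_pow hvs, idx_pt 0 (by norm_num), hj]
    exact beq_iff_eq.1 (List.all_eq_true.1 hsback _ (List.mem_range.2 hi0))
  have hρs : ∀ i : ℕ, ρ * s ^ i = s ^ (k % 23 * i) * ρ := by
    intro i
    have h1 : SemiconjBy ρ s (s ^ (k % 23)) := by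
      show ρ * s = s ^ (k % 23) * ρ
      rw [hρ, mul_assoc, hτs]
      exact (Commute.pow_pow_self s j (k % 23)).left_comm τ
    rw [pow_mul]
    exact h1.pow_right i
  simp only [multOK, Bool.and_eq_true, List.all_eq_true, List.mem_map, List.mem_range,
    forall_exists_index, and_imp] at hchk
  obtain ⟨hgens, hmult⟩ := hchk
  obtain ⟨⟨⟨⟨⟨hvk, hvk'⟩, hinvk⟩, hapk⟩, hk23⟩, hor⟩ :=
    hmult (k % 23) (k % 23 - 1) (by omega) (by omega)
  have hρeq : ρ = toPerm (mulPk (k % 23)) := by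
    refine eq_toPerm hvk _ fun p => ?_
    rcases Nat.lt_or_ge (idx p) 23 with h | h
    · have hp : p = (s ^ idx p) (pt 0) := idx_injective (by
        rw [hsdef, idx_toPerm_pow hvs, idx_pt 0 (by norm_num)]
        exact (beq_iff_eq.1 (List.all_eq_true.1 hsfwd _ (List.mem_range.2 h))).symm)
      conv_lhs => rw [hp, ← Equiv.Perm.mul_apply, hρs, Equiv.Perm.mul_apply, hρ0]
      rw [← pow_mod_orderOf, hso, hsdef, idx_toPerm_pow hvs, idx_pt 0 (by norm_num)]
      exact (beq_iff_eq.1 (hapk _ h)).symm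
    · have h23 : idx p = 23 := by have := idx_lt p; omega
      have hp : p = pt 23 := by rw [← pt_idx p, h23]
      rw [h23, beq_iff_eq.1 hk23, hp, hρ, Equiv.Perm.mul_apply, hτ23,
        hsdef, idx_toPerm_pow hvs, idx_pt 23 (by norm_num)]
      clear hρ hρ0 hρs
      induction j with
      | zero => rfl
      | succ j ih => rw [apN, ih, hsinf]
  have haG : (a : Equiv.Perm GolayPt) ∈ G := a.2
  have hρG : ρ ∈ G := by
    rcases Bool.or_eq_true _ _ ▸ hor with h | h
    · refine mem_fixH.2 ⟨hρeq ▸ toPerm_mem_M24 h, fun p hp => ?_⟩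
      rw [hF p hp, hρ, Equiv.Perm.mul_apply, hτ23]
      rw [← zpow_natCast]
      exact Equiv.Perm.zpow_apply_eq_self_of_apply_eq_self hs23pt _
    · exfalso
      obtain ⟨T, hT, hT'⟩ := List.any_eq_true.1 h
      obtain ⟨hT1, hT2⟩ := hgens T hT
      have hvT : validP T = true := by simp only [inM24, Bool.and_eq_true] at hT1; exact hT1.1
      have hTG : toPerm T ∈ G := toPerm_mem_fix24 hT1 hT2
      have hinv : (toPerm (mulPk (k % 23)))⁻¹ = toPerm (mulPk (invMod (k % 23))) := by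
        refine inv_eq_of_mul_eq_one_right ?_
        rw [← toPerm_mulP hvk hvk', beq_iff_eq.1 hinvk, (toPerm_powP hvk 0).2, pow_zero]
      have hmemG : ρ * toPerm T * ρ⁻¹ ∈ G := by
        have e : ρ * toPerm T * ρ⁻¹ =
            (s ^ j * (a : Equiv.Perm GolayPt)) * (σ * toPerm T * σ⁻¹) *
              (s ^ j * (a : Equiv.Perm GolayPt))⁻¹ := by
          rw [hρ, hτ]; group
        rw [e]
        exact mul_mem (mul_mem (mul_mem (pow_mem hs j) haG) (hσ _ hTG))
          (inv_mem (mul_mem (pow_mem hs j) haG))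
      rw [hρeq, hinv, ← toPerm_mulP hvk hvT, ← toPerm_mulP (validP_mulP hvk hvT) hvk'] at hmemG
      rw [inM24_of_mem (validP_mulP (validP_mulP hvk hvT) hvk') (mem_fixH.1 hmemG).1] at hT'
      simp at hT'
  have : σ = (a : Equiv.Perm GolayPt)⁻¹ * ((s ^ j)⁻¹ * ρ) := by rw [hρ, hτ]; group
  rw [this]
  exact mul_mem (inv_mem haG) (mul_mem (inv_mem (pow_mem hs j)) hρG)

/-- test generators -/
def gens23 : List ℕ := (levs24.drop 1).flatMap fun L => L.gens

theorem multOK23 : multOK F23 gens23 = true := by decide +kernel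

theorem multOK24 : multOK 0 gens23 = true := by decide +kernel

/-- The automorphisms of the group on 23 points are inner. -/
theorem out23 : Nat.card (Cfsg.Out (fixH M24 F23)) = 1 := by
  refine inner_of_stabilizers (A := dec (F23 ^^^ fullMask)) (m := 443520) twoTrans23
    (by rw [card_F23_compl]; norm_num) (fun g hg p hp => ?_) (fun p hp => ?_) index23
    (normalizer_le (m := 443520) (by rw [natCard_fix23]) (by norm_num) (fun p hp => mem_F23.1 hp)
      (toPerm_mem_fix24 (by decide +kernel) (by decide +kernel)) multOK23)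
  · rw [show p = pt 23 from by_contra fun h => hp (mem_compl_F23.2 h)]
    exact (mem_fix23_iff.1 hg).2
  · have hp' := mem_compl_F23.1 hp
    obtain ⟨c, hc, hc1, hc2⟩ := exists_map_pair (Ne.symm hp')
    rw [← natCard_fix22, Nat.card_congr (Subgroup.equivMapOfInjective (fixH M24 F22)
      (MulAut.conj c).toMonoidHom (MulAut.conj c).injective).toEquiv]
    refine congrArg (fun H : Subgroup (Equiv.Perm GolayPt) => Nat.card H) ?_
    apply le_antisymm
    · intro g hg
      obtain ⟨hg1, hg2⟩ := hg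
      obtain ⟨hgM, hg23⟩ := mem_fix23_iff.1 hg1
      rw [Subgroup.mem_map_equiv, MulAut.conj_symm_apply, mem_fix22_iff,
        conj_apply_eq_iff hc1, conj_apply_eq_iff hc2]
      exact ⟨mul_mem (mul_mem (inv_mem hc) hgM) hc, hg23, hg2⟩
    · rintro _ ⟨g, hg, rfl⟩
      obtain ⟨hgM, hga, hgb⟩ := mem_fix22_iff.1 hg
      refine ⟨mem_fix23_iff.2 ⟨mul_mem (mul_mem hc hgM) (inv_mem hc), ?_⟩, ?_⟩
      · show (c * g * c⁻¹) (pt 23) = pt 23
        rw [Equiv.Perm.mul_apply, Equiv.Perm.mul_apply,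
          show c⁻¹ (pt 23) = pt 23 by rw [Equiv.Perm.inv_eq_iff_eq, hc1], hga, hc1]
      · show (c * g * c⁻¹) p = p
        rw [Equiv.Perm.mul_apply, Equiv.Perm.mul_apply,
          show c⁻¹ p = pt 0 by rw [Equiv.Perm.inv_eq_iff_eq, hc2], hgb, hc2]

/-- The automorphisms of the group on 24 points are inner. -/
theorem out24 : Nat.card (Cfsg.Out (fixH M24 0)) = 1 := by
  refine inner_of_stabilizers (A := dec fullMask) (m := 10200960) twoTrans24
    (by rw [card_dec_eq_pop]; decide +kernel) (fun g _ p hp => absurd (by rw [dec_fullMask]; simp) hp)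
    (fun p _ => ?_) (fun K hK hc => ?_)
    (normalizer_le (m := 10644480) (by rw [fixH_zero, natCard_M24]) (by norm_num)
      (fun p hp => absurd (mem_dec.1 hp) (by simp))
      (toPerm_mem_fix24 (by decide +kernel) (by decide +kernel)) multOK24)
  · rw [fixH_zero, ← natCard_stab_point p]
    refine Nat.card_congr ⟨fun g => ⟨⟨g.1, g.2.1⟩, g.2.2⟩, fun g => ⟨g.1.1, g.1.2, g.2⟩,
      fun _ => rfl, fun _ => rfl⟩
  · obtain ⟨q, hq⟩ := index24 K (fixH_zero M24 ▸ hK) hc
    exact ⟨q, by rw [dec_fullMask]; exact Finset.mem_univ q, by rw [fixH_zero]; exact hq⟩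

end CfsgLib.Golay.Aut
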