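import Cfsg.Agent.Lib.Golay.AutTwoCore
import Cfsg.Agent.Lib.Golay.AutOneData

/-!
The stabilizer of a dodecad and one of its points has only inner automorphisms.
-/

set_option autoImplicit false
set_option linter.style.haveILetI false
set_option maxHeartbeats 400000

namespace CfsgLib.Golay.AutOne

open Cfsg CfsgLib.Golay CfsgLib.Golay.AutTwo
open scoped Pointwise

theorem pres11 : ∀ o ∈ [dod0], o < 2 ^ 24 ∧ ∀ g ∈ H12, g • dec o = dec o := fun o ho =>
  ⟨by rw [List.mem_singleton.1 ho]; decide +kernel, H12_pres o ho⟩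

theorem mem_fix11_of {P : ℕ} (h1 : inM24 P = true) (h2 : mimg P dod0 = dod0)
    (h3 : fixes P F23 = true) : toPerm P ∈ fixH H12 F23 := by
  have hv : validP P = true := by simp only [inM24, Bool.and_eq_true] at h1; exact h1.1
  exact mem_fixH.2 ⟨toPerm_mem_H12 h1 h2, fun p hp => fixes_apply hv h3 hp⟩

theorem mem11 : toPerm elt11 ∈ fixH H12 F23 ∧ toPerm y11 ∈ fixH H12 F23 ∧
    toPerm z11 ∈ fixH H12 F23 :=
  ⟨mem_fix11_of (by decide +kernel) (by decide +kernel) (by decide +kernel),
    mem_fix11_of (by decide +kernel) (by decide +kernel) (by decide +kernel),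
    mem_fix11_of (by decide +kernel) (by decide +kernel) (by decide +kernel)⟩

theorem chk11 : octChk y11 (powP y11 2) oct11 1 12713987 5 [1, 7, 10, 11] = true := by
  decide +kernel

theorem cand11 : candOK F23 [dod0] y11 (powP y11 2) [0, 17, 22, 23, 1, 7, 10, 11]
    (candOct F23 [dod0] y11 (powP y11 2) oct11 1 [1, 7, 10, 11]) dom11y
    [mulP (powP y11 3) z11] = true := by
  decide +kernel

theorem rel11 : powP y11 5 = powP y11 0 ∧ mulP y11 elt11 = mulP (powP elt11 3) y11 ∧
    mulP z11 y11 = mulP (powP y11 2) z11 ∧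
    powP (mulP (powP elt11 3) z11) 5 = powP elt11 0 ∧
    ((List.range 11).all fun k => k == 0 || k == 1 ||
      diffP (powP (mulP (powP elt11 (k * 3 % 11)) z11) 5) (powP elt11 0)) = true := by
  decide +kernel

theorem cent11 : conjOK F23 [dod0] elt11 elt11 [0, 6, 17, 23] dom11
    ((List.range 11).map (powP elt11)) = true := by
  decide +kernel

theorem slp11_chk : slpOK [elt11, z11] slp11 = true ∧ ((levs12x.drop 1).all fun L =>
    L.gens.all fun P => ([elt11, z11] ++ slp11.map (fun t => t.2.2)).contains P) = true := by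
  decide +kernel

/-- The stabilizer of a dodecad and one of its points has only inner automorphisms. -/
theorem out11 : Nat.card (Cfsg.Out (fixH H12 F23)) = 1 := by
  obtain ⟨hx, hy, hz⟩ := mem11
  obtain ⟨hy5, hyx, hzy, hrel, hrels⟩ := rel11
  have hvx : validP elt11 = true := by decide +kernel
  have hvy : validP y11 = true := by decide +kernel
  have hvz : validP z11 = true := by decide +kernel
  have hpx := toPerm_powP hvx
  have hpy := toPerm_powP hvy
  haveI : Fact (Nat.Prime 11) := ⟨by norm_num⟩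
  set X : fixH H12 F23 := ⟨toPerm elt11, hx⟩ with hX
  set Y : fixH H12 F23 := ⟨toPerm y11, hy⟩ with hY
  set Z : fixH H12 F23 := ⟨toPerm z11, hz⟩ with hZ
  have hxo : orderOf X = 11 := by
    rw [hX, Subgroup.orderOf_mk]
    refine orderOf_eq_prime ?_ fun h => ?_
    · rw [← (hpx 11).2, show powP elt11 11 = powP elt11 0 by decide +kernel, (hpx 0).2, pow_zero]
    · have := idx_toPerm hvx (pt 1)
      rw [h, Equiv.Perm.one_apply] at this
      revert this; decide +kernel
  have hxy : Y * X = X ^ 3 * Y := Subtype.ext (by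
    simp only [hX, hY, Subgroup.coe_mul, Subgroup.coe_pow]
    rw [← (hpx _).2, ← toPerm_mulP hvy hvx, ← toPerm_mulP (hpx _).1 hvy, hyx])
  have hzy' : Z * Y = Y ^ 2 * Z := Subtype.ext (by
    simp only [hY, hZ, Subgroup.coe_mul, Subgroup.coe_pow]
    rw [← (hpy _).2, ← toPerm_mulP hvz hvy, ← toPerm_mulP (hpy _).1 hvz, hzy])
  have hY5 : Y ^ 5 = 1 := Subtype.ext (by
    simp only [hY, Subgroup.coe_pow, Subgroup.coe_one]
    rw [← (hpy 5).2, hy5, (hpy 0).2, pow_zero])
  refine out_eq_one (p := 11) (n := 720) X Y Z (by rw [natCard_fix11]) (by norm_num) hxo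
    (fun w hw => ?_) 3 hxy (by norm_num) (by norm_num) ?_ ?_ 1 ?_ rfl
  · obtain ⟨P, hP, hPe⟩ := eq_of_conjOK inf_le_left pres11 cent11 w.2 (congrArg Subtype.val hw)
    obtain ⟨k, -, rfl⟩ := List.mem_map.1 hP
    exact ⟨k, Subtype.ext (by rw [hPe, (hpx k).2]; simp [hX])⟩
  · set J := (Subgroup.closure {X, Z}).map (fixH H12 F23).subtype with hJ
    have hJle : J ≤ fixH H12 F23 := Subgroup.map_subtype_le _
    obtain ⟨hs1, hs2⟩ := slp11_chk
    have hC : ∀ L ∈ levs12x.drop 1, Carries J [dod0] L.gens := by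
      intro L hL
      refine ⟨fun g hg => ((mem_fixH.1 (hJle hg)).1).1,
        fun o ho g hg => H12_pres o ho g (mem_fixH.1 (hJle hg)).1, fun P hP => ?_⟩
      refine (slp_mem slp11 _ hs1 ?_ P ?_).2
      · intro Q hQ
        simp only [List.mem_cons, List.not_mem_nil, or_false] at hQ
        rcases hQ with rfl | rfl
        · exact ⟨hvx, X, Subgroup.subset_closure (by simp), rfl⟩
        · exact ⟨hvz, Z, Subgroup.subset_closure (by simp), rfl⟩
      · simpa [List.contains_iff_mem] using List.all_eq_true.1 (List.all_eq_true.1 hs2 L hL) P hP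
    have hJF : fixH J F23 = J := by
      ext g
      rw [mem_fixH]
      exact ⟨fun h => h.1, fun h => ⟨h, (mem_fixH.1 (hJle h)).2⟩⟩
    have hbot : fixH J F6 = ⊥ := by
      rw [eq_bot_iff, ← fixH12_F6]
      exact fun g hg => mem_fixH.2 ⟨(mem_fixH.1 (hJle (mem_fixH.1 hg).1)).1, (mem_fixH.1 hg).2⟩
    have hc := card_chain (levs12x.drop 1) F23 hC (by decide +kernel)
    rw [hJF, show chainBot F23 (levs12x.drop 1) = F6 by decide +kernel, hbot, Subgroup.card_bot,
      mul_one, show chainProd F23 (levs12x.drop 1) = 7920 by decide +kernel,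
      hJ, ← Nat.card_congr (Subgroup.equivMapOfInjective _ _
        (fixH H12 F23).subtype_injective).toEquiv] at hc
    exact Subgroup.eq_top_of_card_eq _ (by rw [hc, natCard_fix11])
  · intro φ hφ
    have h1 : φ Z * Y = Y ^ 2 * φ Z := by
      have := congrArg φ hzy'
      rwa [map_mul, map_mul, map_pow, hφ] at this
    obtain ⟨j, P, hP, hPe⟩ := exists_of_octOK inf_le_left pres11
      (by rw [(hpy 2).2]; exact pow_mem hy 2) chk11 cand11 (φ Z).2
      (by rw [(hpy 2).2]; simpa [hY] using congrArg Subtype.val h1)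
    rw [List.mem_singleton.1 hP, toPerm_mulP (hpy 3).1 hvz, (hpy 3).2, (hpy 2).2] at hPe
    have hval : φ Z = (Y ^ 2) ^ j * (Y ^ 3 * Z) := Subtype.ext (by simpa [hY, hZ] using hPe)
    refine ⟨3 * j + 2, ?_⟩
    have hs : SemiconjBy Z Y (Y ^ 2) := hzy'
    rw [eq_mul_inv_iff_mul_eq, hval, mul_assoc, mul_assoc, (hs.pow_right (3 * j + 2)).eq, ← pow_mul,
      ← pow_mul, ← mul_assoc (Y ^ 3), ← pow_add, ← mul_assoc, ← pow_add]
    congr 1
    rw [show 2 * j + (3 + 2 * (3 * j + 2)) = (3 * j + 2) + 5 * (j + 1) by ring, pow_add, pow_mul,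
      hY5, one_pow, mul_one]
  · intro φ k hk hφx hφz
    refine ⟨1, by simp, ?_⟩
    simp only [one_mul, inv_one, mul_one]
    have hmod : X ^ k = X ^ (k % 11) := by rw [← hxo, pow_mod_orderOf]
    by_contra hne
    push Not at hne
    have hk0 : k % 11 ≠ 0 := fun h => hk (Nat.dvd_of_mod_eq_zero h)
    have h := List.all_eq_true.1 hrels (k % 11) (List.mem_range.2 (Nat.mod_lt _ (by norm_num)))
    simp only [Bool.or_eq_true, beq_iff_eq] at h
    rcases h with (h | h) | h
    · exact hk0 h
    · exact hne.1 (by rw [hmod, h, pow_one])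
    · apply toPerm_ne_of_diffP
        ((toPerm_powP (validP_mulP (hpx (k % 11 * 3 % 11)).1 hvz)) 5).1 (hpx 0).1 h
      have hb : (X ^ 3 * Z) ^ 5 = 1 := Subtype.ext (by
        simp only [hX, hZ, Subgroup.coe_pow, Subgroup.coe_mul, Subgroup.coe_one]
        rw [← (hpx 3).2, ← toPerm_mulP (hpx 3).1 hvz,
          ← ((toPerm_powP (validP_mulP (hpx 3).1 hvz)) 5).2, hrel, (hpx 0).2, pow_zero])
      have hmod3 : (X ^ k) ^ 3 = X ^ (k % 11 * 3 % 11) := by
        rw [hmod, ← pow_mul, ← hxo, pow_mod_orderOf]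
      have := congrArg φ hb
      rw [map_pow, map_mul, map_pow, map_one, hφx, hφz, hmod3] at this
      rw [((toPerm_powP (validP_mulP (hpx (k % 11 * 3 % 11)).1 hvz)) 5).2,
        toPerm_mulP (hpx _).1 hvz, (hpx _).2, (hpx 0).2, pow_zero]
      simpa [hX, hZ] using congrArg Subtype.val this

end CfsgLib.Golay.AutOne
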