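import Cfsg.Agent.Lib.Golay.AutTwoCert

/-!
The groups on 22 points and the stabilizer of a dodecad have outer automorphism group of order two.
-/

set_option autoImplicit false
set_option linter.style.haveILetI false
set_option maxHeartbeats 400000

namespace CfsgLib.Golay.AutTwo

open Cfsg CfsgLib.Golay
open scoped Pointwise

/-- The group on 22 points has outer automorphism group of order two. -/
theorem out22 : Nat.card (Cfsg.Out (fixH M24 F22)) = 2 := by
  obtain ⟨hx, hy, hz⟩ := mem22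
  obtain ⟨hy5, hyx, hzy, hrel, hrels⟩ := rel22
  have hvx : validP elt22 = true := by decide +kernel
  have hvy : validP y22 = true := by decide +kernel
  have hvz : validP z22 = true := by decide +kernel
  have hpx := toPerm_powP hvx
  have hpy := toPerm_powP hvy
  haveI : Fact (Nat.Prime 11) := ⟨by norm_num⟩
  set X : fixH M24 F22 := ⟨toPerm elt22, hx⟩ with hX
  set Y : fixH M24 F22 := ⟨toPerm y22, hy⟩ with hY
  set Z : fixH M24 F22 := ⟨toPerm z22, hz⟩ with hZ
  have hxo : orderOf X = 11 := by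
    rw [hX, Subgroup.orderOf_mk]
    refine orderOf_eq_prime ?_ fun h => ?_
    · rw [← (hpx 11).2, show powP elt22 11 = powP elt22 0 by decide +kernel, (hpx 0).2, pow_zero]
    · have := idx_toPerm hvx (pt 1)
      rw [h, Equiv.Perm.one_apply] at this
      revert this; decide +kernel
  have hcentM : ∀ w : Equiv.Perm GolayPt, w ∈ M24 → w * toPerm elt22 = toPerm elt22 * w →
      w ∈ Subgroup.zpowers (toPerm elt22) := fun w => cent_of_conjOK cent22
  have hxy : Y * X = X ^ 9 * Y := Subtype.ext (by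
    simp only [hX, hY, Subgroup.coe_mul, Subgroup.coe_pow]
    rw [← (hpx _).2, ← toPerm_mulP hvy hvx, ← toPerm_mulP (hpx _).1 hvy, hyx])
  have hzy' : Z * Y = Y ^ 2 * Z := Subtype.ext (by
    simp only [hY, hZ, Subgroup.coe_mul, Subgroup.coe_pow]
    rw [← (hpy _).2, ← toPerm_mulP hvz hvy, ← toPerm_mulP (hpy _).1 hvz, hzy])
  have hY5 : Y ^ 5 = 1 := Subtype.ext (by
    simp only [hY, Subgroup.coe_pow, Subgroup.coe_one]
    rw [← (hpy 5).2, hy5, (hpy 0).2, pow_zero])
  -- conjugation by the swapping element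
  obtain ⟨ht1, ht2, ht3, ht4, ht5⟩ := tau22_chk
  have hvt : validP tau22 = true := by simp only [inM24, Bool.and_eq_true] at ht1; exact ht1.1
  have hvti : validP tauInv22 = true := by simp only [inM24, Bool.and_eq_true] at ht2; exact ht2.1
  set τ := toPerm tau22 with hτ
  have hτM : τ ∈ M24 := toPerm_mem_M24 ht1
  have hτ23 : τ (pt 23) = pt 0 := by rw [hτ, toPerm_apply hvt, idx_pt 23 (by norm_num), ht4]
  have hτ0 : τ (pt 0) = pt 23 := by rw [hτ, toPerm_apply hvt, idx_pt 0 (by norm_num), ht5]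
  have hnorm : ∀ σ : Equiv.Perm GolayPt, σ ∈ M24 → σ (pt 23) = pt 0 → σ (pt 0) = pt 23 →
      ∀ g ∈ fixH M24 F22, σ * g * σ⁻¹ ∈ fixH M24 F22 := by
    intro σ hσ h23 h0 g hg
    obtain ⟨hgM, g1, g2⟩ := mem_fix22_iff.1 hg
    refine mem_fix22_iff.2 ⟨mul_mem (mul_mem hσ hgM) (inv_mem hσ), ?_, ?_⟩
    · conv_lhs => rw [← h0]
      rw [Equiv.Perm.mul_apply, Equiv.Perm.mul_apply, show σ⁻¹ (σ (pt 0)) = pt 0 by simp, g2, h0]
    · conv_lhs => rw [← h23]
      rw [Equiv.Perm.mul_apply, Equiv.Perm.mul_apply, show σ⁻¹ (σ (pt 23)) = pt 23 by simp, g1, h23]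
  let φ0 : MulAut (fixH M24 F22) :=
    { toFun := fun g => ⟨τ * g * τ⁻¹, hnorm τ hτM hτ23 hτ0 g g.2⟩
      invFun := fun g => ⟨τ⁻¹ * g * τ, by
        have := hnorm τ⁻¹ (inv_mem hτM) (by rw [Equiv.Perm.inv_eq_iff_eq, hτ0])
          (by rw [Equiv.Perm.inv_eq_iff_eq, hτ23]) g g.2
        rw [inv_inv] at this
        exact this⟩
      left_inv := fun g => Subtype.ext (by simp [mul_assoc])
      right_inv := fun g => Subtype.ext (by simp [mul_assoc])
      map_mul' := fun g h => Subtype.ext (by simp [mul_assoc]) }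
  refine out_eq_two (p := 11) (n := 40320) X Y Z (by rw [natCard_fix22]) (by norm_num) hxo
    (fun w hw => ?_) 9 hxy (by norm_num) (by norm_num) ?_ ?_ 10 ?_ φ0 ?_
  · obtain ⟨i, hi⟩ := hcentM w (mem_fixH.1 w.2).1 (congrArg Subtype.val hw)
    exact ⟨i, Subtype.ext (by simpa [hX] using hi)⟩
  · -- generation
    set J := (Subgroup.closure {X, Z}).map (fixH M24 F22).subtype with hJ
    have hJle : J ≤ fixH M24 F22 := Subgroup.map_subtype_le _
    obtain ⟨hs1, hs2⟩ := slp22_chk
    have hC : ∀ L ∈ levs24.drop 2, Carries J [] L.gens := by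
      intro L hL
      refine ⟨hJle.trans inf_le_left, by simp, fun P hP => ?_⟩
      refine (slp_mem slp22 _ hs1 ?_ P ?_).2
      · intro Q hQ
        simp only [List.mem_cons, List.not_mem_nil, or_false] at hQ
        rcases hQ with rfl | rfl
        · exact ⟨hvx, X, Subgroup.subset_closure (by simp), rfl⟩
        · exact ⟨hvz, Z, Subgroup.subset_closure (by simp), rfl⟩
      · simpa [List.contains_iff_mem] using List.all_eq_true.1 (List.all_eq_true.1 hs2 L hL) P hP
    have hJF : fixH J F22 = J := by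
      ext g
      rw [mem_fixH]
      exact ⟨fun h => h.1, fun h => ⟨h, (mem_fixH.1 (hJle h)).2⟩⟩
    have hc := card_chain (levs24.drop 2) F22 hC (by decide +kernel)
    rw [hJF, fixH_eq_bot_of_stages (hJle.trans inf_le_left) (St := stages24) (by decide +kernel),
      Subgroup.card_bot, mul_one, show chainProd F22 (levs24.drop 2) = 443520 by decide +kernel,
      hJ, ← Nat.card_congr (Subgroup.equivMapOfInjective _ _
        (fixH M24 F22).subtype_injective).toEquiv] at hc
    exact Subgroup.eq_top_of_card_eq _ (by rw [hc, natCard_fix22])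
  · intro φ hφ
    have h1 : φ Z * Y = Y ^ 2 * φ Z := by
      have := congrArg φ hzy'
      rwa [map_mul, map_mul, map_pow, hφ] at this
    obtain ⟨j, P, hP, hPe⟩ := exists_of_octOK le_rfl (by simp)
      (by rw [(hpy 2).2]; exact pow_mem hy 2) chk22 cand22 (φ Z).2
      (by rw [(hpy 2).2]; simpa [hY] using congrArg Subtype.val h1)
    rw [List.mem_singleton.1 hP, toPerm_mulP (hpy 4).1 hvz, (hpy 4).2, (hpy 2).2] at hPe
    have hval : φ Z = (Y ^ 2) ^ j * (Y ^ 4 * Z) := Subtype.ext (by simpa [hY, hZ] using hPe)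
    refine ⟨3 * j + 1, ?_⟩
    have hs : SemiconjBy Z Y (Y ^ 2) := hzy'
    rw [eq_mul_inv_iff_mul_eq, hval, mul_assoc, mul_assoc, (hs.pow_right (3 * j + 1)).eq, ← pow_mul,
      ← pow_mul, ← mul_assoc (Y ^ 4), ← pow_add, ← mul_assoc, ← pow_add]
    congr 1
    rw [show 2 * j + (4 + 2 * (3 * j + 1)) = (3 * j + 1) + 5 * (j + 1) by ring, pow_add, pow_mul,
      hY5, one_pow, mul_one]
  · intro φ k hk hφx hφz
    refine ⟨1, by simp, ?_⟩
    simp only [one_mul, inv_one, mul_one]
    have hmod : X ^ k = X ^ (k % 11) := by rw [← hxo, pow_mod_orderOf]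
    by_contra hne
    push Not at hne
    have hk0 : k % 11 ≠ 0 := fun h => hk (Nat.dvd_of_mod_eq_zero h)
    have h := List.all_eq_true.1 hrels (k % 11) (List.mem_range.2 (Nat.mod_lt _ (by norm_num)))
    simp only [Bool.or_eq_true, beq_iff_eq] at h
    rcases h with ((h | h) | h) | h
    · exact hk0 h
    · exact hne.1 (by rw [hmod, h, pow_one])
    · exact hne.2 (by rw [hmod, h])
    · apply toPerm_ne_of_diffP ((toPerm_powP (validP_mulP (hpx (k % 11)).1 hvz)) 6).1 (hpx 0).1 h
      have hb : (X * Z) ^ 6 = 1 := Subtype.ext (by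
        simp only [hX, hZ, Subgroup.coe_pow, Subgroup.coe_mul, Subgroup.coe_one]
        rw [← toPerm_mulP hvx hvz, ← ((toPerm_powP (validP_mulP hvx hvz)) 6).2, hrel, (hpx 0).2,
          pow_zero])
      have := congrArg φ hb
      rw [map_pow, map_mul, map_one, hφx, hφz, hmod] at this
      have hv2 := toPerm_powP (validP_mulP (hpx (k % 11)).1 hvz)
      rw [(hv2 6).2, toPerm_mulP (hpx _).1 hvz, (hpx _).2, (hpx 0).2, pow_zero]
      simpa [hX, hZ] using congrArg Subtype.val this
  · rintro ⟨g, hg⟩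
    have h1 : ∀ u : fixH M24 F22, (g : Equiv.Perm GolayPt) * u * (g : Equiv.Perm GolayPt)⁻¹ =
        τ * u * τ⁻¹ := fun u => congrArg (fun ψ : MulAut (fixH M24 F22) => (ψ u).1) hg
    have hcom : ∀ u : fixH M24 F22, ((g : Equiv.Perm GolayPt)⁻¹ * τ) * u =
        u * ((g : Equiv.Perm GolayPt)⁻¹ * τ) := by
      intro u
      calc ((g : Equiv.Perm GolayPt)⁻¹ * τ) * u
          = (g : Equiv.Perm GolayPt)⁻¹ * (τ * u * τ⁻¹) * τ := by group
        _ = _ := by rw [← h1 u]; group
    obtain ⟨i, hi⟩ := hcentM _ (mul_mem (inv_mem (mem_fixH.1 g.2).1) hτM) (hcom X)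
    have hτg : τ = g * toPerm elt22 ^ i := by
      rw [show toPerm elt22 ^ i = (g : Equiv.Perm GolayPt)⁻¹ * τ from hi, mul_inv_cancel_left]
    have hmem : τ ∈ fixH M24 F22 := by rw [hτg]; exact mul_mem g.2 (zpow_mem hx i)
    exact absurd ((mem_fix22_iff.1 hmem).2.1.symm.trans hτ23) (by decide +kernel)

/-- The stabilizer of the base dodecad has outer automorphism group of order two. -/
theorem out12 : Nat.card (Cfsg.Out H12) = 2 := by
  obtain ⟨hx, hy, hz⟩ := mem12
  obtain ⟨hy5, hyx, hzy, hz2, hz1⟩ := rel12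
  have hvx : validP elt11 = true := by decide +kernel
  have hvy : validP y12 = true := by decide +kernel
  have hvz : validP z12 = true := by decide +kernel
  have hpx := toPerm_powP hvx
  have hpy := toPerm_powP hvy
  have hpz := toPerm_powP hvz
  haveI : Fact (Nat.Prime 11) := ⟨by norm_num⟩
  set X : H12 := ⟨toPerm elt11, hx⟩ with hX
  set Y : H12 := ⟨toPerm y12, hy⟩ with hY
  set Z : H12 := ⟨toPerm z12, hz⟩ with hZ
  have hxo : orderOf X = 11 := by
    rw [hX, Subgroup.orderOf_mk]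
    refine orderOf_eq_prime ?_ fun h => ?_
    · rw [← (hpx 11).2, show powP elt11 11 = powP elt11 0 by decide +kernel, (hpx 0).2, pow_zero]
    · have := idx_toPerm hvx (pt 1)
      rw [h, Equiv.Perm.one_apply] at this
      revert this; decide +kernel
  have hcentM : ∀ w : Equiv.Perm GolayPt, w ∈ M24 → w * toPerm elt11 = toPerm elt11 * w →
      w ∈ Subgroup.zpowers (toPerm elt11) := fun w => cent_of_conjOK cent12
  have hxy : Y * X = X ^ 5 * Y := Subtype.ext (by
    simp only [hX, hY, Subgroup.coe_mul, Subgroup.coe_pow]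
    rw [← (hpx _).2, ← toPerm_mulP hvy hvx, ← toPerm_mulP (hpx _).1 hvy, hyx])
  have hzy' : Z * Y = Y * Z := Subtype.ext (by
    simp only [hY, hZ, Subgroup.coe_mul]
    rw [← toPerm_mulP hvz hvy, ← toPerm_mulP hvy hvz, hzy])
  have hY5 : Y ^ 5 = 1 := Subtype.ext (by
    simp only [hY, Subgroup.coe_pow, Subgroup.coe_one]
    rw [← (hpy 5).2, hy5, (hpy 0).2, pow_zero])
  have hZ2 : Z ^ 2 = 1 := Subtype.ext (by
    simp only [hZ, Subgroup.coe_pow, Subgroup.coe_one]
    rw [← (hpz 2).2, hz2, (hpz 0).2, pow_zero])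
  have hZ1 : Z ≠ 1 := by
    intro h
    have h1 : toPerm z12 = 1 := congrArg Subtype.val h
    apply toPerm_ne_of_diffP (hpz 1).1 (hpz 0).1 hz1
    rw [(hpz 1).2, (hpz 0).2, pow_one, pow_zero, h1]
  obtain ⟨ht1, ht2⟩ := tau12_chk
  have hvt : validP tau12 = true := by simp only [inM24, Bool.and_eq_true] at ht1; exact ht1.1
  set τ := toPerm tau12 with hτ
  have hτM : τ ∈ M24 := toPerm_mem_M24 ht1
  have hτD : τ • dec dod0 = (dec dod0)ᶜ := by
    rw [hτ, smul_dec hvt, ht2]
    ext q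
    rw [Finset.mem_compl, mem_dec, mem_dec, Nat.testBit_xor, testBit_fullMask]
    cases h : dod0.testBit (idx q) <;> simp [idx_lt q]
  have hcompl : ∀ (g : Equiv.Perm GolayPt) (s : Finset GolayPt), g • sᶜ = (g • s)ᶜ := by
    intro g s
    ext q
    obtain ⟨r, rfl⟩ := g.surjective q
    rw [show g r = g • r from rfl, Finset.smul_mem_smul_finset_iff, Finset.mem_compl,
      Finset.mem_compl, Finset.smul_mem_smul_finset_iff]
  have hτinv : τ⁻¹ • dec dod0 = (dec dod0)ᶜ := by
    rw [inv_smul_eq_iff, hcompl, hτD, compl_compl]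
  have hnorm : ∀ σ : Equiv.Perm GolayPt, σ ∈ M24 → σ⁻¹ • dec dod0 = (dec dod0)ᶜ →
      ∀ g ∈ H12, σ * g * σ⁻¹ ∈ H12 := by
    intro σ hσ hd g hg
    obtain ⟨hgM, hgd⟩ := mem_H12_iff.1 hg
    refine mem_H12_iff.2 ⟨mul_mem (mul_mem hσ hgM) (inv_mem hσ), ?_⟩
    rw [mul_smul, mul_smul, hd, hcompl, hgd, ← hd, smul_inv_smul]
  let φ0 : MulAut H12 :=
    { toFun := fun g => ⟨τ * g * τ⁻¹, hnorm τ hτM hτinv g g.2⟩
      invFun := fun g => ⟨τ⁻¹ * g * τ, by
        have := hnorm τ⁻¹ (inv_mem hτM) (by rw [inv_inv]; exact hτD) g g.2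
        rw [inv_inv] at this
        exact this⟩
      left_inv := fun g => Subtype.ext (by simp [mul_assoc])
      right_inv := fun g => Subtype.ext (by simp [mul_assoc])
      map_mul' := fun g h => Subtype.ext (by simp [mul_assoc]) }
  refine out_eq_two (p := 11) (n := 8640) X Y Z (by rw [natCard_H12]) (by norm_num) hxo
    (fun w hw => ?_) 5 hxy (by norm_num) (by norm_num) ?_ ?_ 2 ?_ φ0 ?_
  · obtain ⟨i, hi⟩ := hcentM w w.2.1 (congrArg Subtype.val hw)
    exact ⟨i, Subtype.ext (by simpa [hX] using hi)⟩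
  · set J := (Subgroup.closure {X, Z}).map H12.subtype with hJ
    have hJle : J ≤ H12 := Subgroup.map_subtype_le _
    obtain ⟨hs1, hs2⟩ := slp12_chk
    have hC : ∀ L ∈ levs12x, Carries J [dod0] L.gens := by
      intro L hL
      refine ⟨hJle.trans inf_le_left, fun o ho g hg => H12_pres o ho g (hJle hg), fun P hP => ?_⟩
      refine (slp_mem slp12 _ hs1 ?_ P ?_).2
      · intro Q hQ
        simp only [List.mem_cons, List.not_mem_nil, or_false] at hQ
        rcases hQ with rfl | rfl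
        · exact ⟨hvx, X, Subgroup.subset_closure (by simp), rfl⟩
        · exact ⟨hvz, Z, Subgroup.subset_closure (by simp), rfl⟩
      · simpa [List.contains_iff_mem] using List.all_eq_true.1 (List.all_eq_true.1 hs2 L hL) P hP
    have hbot : fixH J F6 = ⊥ := by
      rw [eq_bot_iff, ← fixH12_F6]
      exact fun g hg => mem_fixH.2 ⟨hJle (mem_fixH.1 hg).1, (mem_fixH.1 hg).2⟩
    have hc := card_chain levs12x 0 hC (by decide +kernel)
    rw [fixH_zero, show chainBot 0 levs12x = F6 from rfl, hbot,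
      Subgroup.card_bot, mul_one, show chainProd 0 levs12x = 95040 by decide +kernel,
      hJ, ← Nat.card_congr (Subgroup.equivMapOfInjective _ _ H12.subtype_injective).toEquiv] at hc
    exact Subgroup.eq_top_of_card_eq _ (by rw [hc, natCard_H12])
  · intro φ hφ
    have h1 : φ Z * Y = Y * φ Z := by
      have := congrArg φ hzy'
      rwa [map_mul, map_mul, hφ] at this
    obtain ⟨j, P, hP, hPe⟩ := exists_of_octOK inf_le_left pres12 (by rw [fixH_zero]; exact hy)
      chk12 cand12 (g := ((φ Z : H12) : Equiv.Perm GolayPt)) (by rw [fixH_zero]; exact (φ Z).2)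
      (by simpa [hY] using congrArg Subtype.val h1)
    have hsq : φ Z ^ 2 = 1 := by rw [← map_pow, hZ2, map_one]
    have hjodd : ∀ u : H12, u = Y ^ j → u ^ 2 = 1 → u = 1 := by
      rintro u rfl hu
      have h5 : (Y ^ j) ^ 5 = 1 := by rw [← pow_mul, mul_comm, pow_mul, hY5, one_pow]
      calc Y ^ j = (Y ^ j) ^ 5 * ((Y ^ j) ^ 2)⁻¹ * ((Y ^ j) ^ 2)⁻¹ := by group
        _ = 1 := by rw [h5, hu]; simp
    refine ⟨0, ?_⟩
    simp only [pow_zero, one_mul, inv_one, mul_one]
    simp only [List.mem_cons, List.not_mem_nil, or_false] at hP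
    rcases hP with rfl | rfl
    · exfalso
      rw [(hpy 0).2, pow_zero, mul_one] at hPe
      have hval : φ Z = Y ^ j := Subtype.ext (by simpa [hY] using hPe)
      exact hZ1 ((map_eq_one_iff _ φ.injective).1 (hjodd _ hval hsq))
    · have hval : φ Z = Y ^ j * Z := Subtype.ext (by simpa [hY, hZ] using hPe)
      have hcom : Commute (Y ^ j) Z := ((show Commute Z Y from hzy').pow_right j).symm
      have hu : (Y ^ j) ^ 2 = 1 := by
        rw [hval, hcom.mul_pow, hZ2, mul_one] at hsq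
        exact hsq
      rw [hval, hjodd _ rfl hu, one_mul]
  · intro φ k hk hφx hφz
    have hk0 : k % 11 ≠ 0 := fun h => hk (Nat.dvd_of_mod_eq_zero h)
    obtain ⟨j, -, hj⟩ := squares11 (k % 11) (Nat.mod_lt _ (by norm_num)) hk0
    have hsemi : ∀ j : ℕ, Y ^ j * X = X ^ (5 ^ j) * Y ^ j := by
      intro j
      induction j with
      | zero => simp
      | succ j ih =>
        have hs : SemiconjBy Y X (X ^ 5) := hxy
        rw [pow_succ', mul_assoc, ih, ← mul_assoc, (hs.pow_right (5 ^ j)).eq, ← pow_mul,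
          mul_assoc, pow_succ' (5 : ℕ)]
    refine ⟨Y ^ j, ?_, ?_⟩
    · rw [((show Commute Z Y from hzy').pow_right j).symm.eq, mul_inv_cancel_right]
    · have h1 : Y ^ j * X ^ k * (Y ^ j)⁻¹ = X ^ (5 ^ j * k) := by
        rw [← conj_pow, hsemi, mul_inv_cancel_right, pow_mul]
      rw [h1, ← pow_mod_orderOf, hxo, Nat.mul_mod]
      have hj' : 5 ^ j % 11 * (k % 11) % 11 = 1 ∨ 5 ^ j % 11 * (k % 11) % 11 = 2 := by
        rw [Nat.mul_mod, Nat.mod_mod] at hj
        exact hj
      rcases hj' with h | h <;> rw [h] <;> simp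
  · rintro ⟨g, hg⟩
    have h1 : ∀ u : H12, (g : Equiv.Perm GolayPt) * u * (g : Equiv.Perm GolayPt)⁻¹ =
        τ * u * τ⁻¹ := fun u => congrArg (fun ψ : MulAut H12 => (ψ u).1) hg
    have hcom : ∀ u : H12, ((g : Equiv.Perm GolayPt)⁻¹ * τ) * u =
        u * ((g : Equiv.Perm GolayPt)⁻¹ * τ) := by
      intro u
      calc ((g : Equiv.Perm GolayPt)⁻¹ * τ) * u
          = (g : Equiv.Perm GolayPt)⁻¹ * (τ * u * τ⁻¹) * τ := by group
        _ = _ := by rw [← h1 u]; group
    obtain ⟨i, hi⟩ := hcentM _ (mul_mem (inv_mem g.2.1) hτM) (hcom X)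
    have hτg : τ = g * toPerm elt11 ^ i := by
      rw [show toPerm elt11 ^ i = (g : Equiv.Perm GolayPt)⁻¹ * τ from hi, mul_inv_cancel_left]
    have hmem : τ ∈ H12 := by rw [hτg]; exact mul_mem g.2 (zpow_mem hx i)
    have hq : pt 23 ∈ dec dod0 := by rw [mem_dec]; decide +kernel
    have := (mem_H12_iff.1 hmem).2.symm.trans hτD
    exact (Finset.mem_compl.1 (this ▸ hq)) hq

end CfsgLib.Golay.AutTwo
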