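import Cfsg.Agent.Lib.Golay.AutTwoCore
import Cfsg.Agent.Lib.Golay.AutTwoData

/-!
Certificates for the automorphisms of the groups on 22 points and of the dodecad stabilizer.
-/

set_option autoImplicit false
set_option linter.style.haveILetI false

namespace CfsgLib.Golay.AutTwo

open Cfsg CfsgLib.Golay
open scoped Pointwise

/-! ### The group on 22 points -/

theorem mem22 : toPerm elt22 ∈ fixH M24 F22 ∧ toPerm y22 ∈ fixH M24 F22 ∧
    toPerm z22 ∈ fixH M24 F22 :=
  ⟨toPerm_mem_fix24 (by decide +kernel) (by decide +kernel),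
    toPerm_mem_fix24 (by decide +kernel) (by decide +kernel),
    toPerm_mem_fix24 (by decide +kernel) (by decide +kernel)⟩

theorem chk22 : octChk y22 (powP y22 2) oct22 1 8421387 5 [1, 12, 21, 22] = true := by
  decide +kernel

theorem cand22 : candOK F22 [] y22 (powP y22 2) [0, 3, 15, 23, 1, 12, 21, 22]
    (candOct F22 [] y22 (powP y22 2) oct22 1 [1, 12, 21, 22]) dom22y
    [mulP (powP y22 4) z22] = true := by
  decide +kernel

theorem rel22 : powP y22 5 = powP y22 0 ∧ mulP y22 elt22 = mulP (powP elt22 9) y22 ∧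
    mulP z22 y22 = mulP (powP y22 2) z22 ∧ powP (mulP elt22 z22) 6 = powP elt22 0 ∧
    ((List.range 11).all fun k => k == 0 || k == 1 || k == 10 ||
      diffP (powP (mulP (powP elt22 k) z22) 6) (powP elt22 0)) = true := by
  decide +kernel

theorem cent22 : conjOK 0 [] elt22 elt22 [0, 1, 5, 23] dom22 ((List.range 11).map (powP elt22)) = true := by
  decide +kernel

theorem slp22_chk : slpOK [elt22, z22] slp22 = true ∧ ((levs24.drop 2).all fun L => L.gens.all fun P =>
    ([elt22, z22] ++ slp22.map (fun t => t.2.2)).contains P) = true := by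
  decide +kernel

theorem tau22_chk : inM24 tau22 = true ∧ inM24 tauInv22 = true ∧
    mulP tau22 tauInv22 = powP tau22 0 ∧ ap tau22 23 = 0 ∧ ap tau22 0 = 23 := by
  decide +kernel

/-! ### The stabilizer of the base dodecad -/

theorem pres12 : ∀ o ∈ [dod0], o < 2 ^ 24 ∧ ∀ g ∈ H12, g • dec o = dec o := fun o ho =>
  ⟨by rw [List.mem_singleton.1 ho]; decide +kernel, H12_pres o ho⟩

theorem mem12 : toPerm elt11 ∈ H12 ∧ toPerm y12 ∈ H12 ∧ toPerm z12 ∈ H12 :=
  ⟨toPerm_mem_H12 (by decide +kernel) (by decide +kernel),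
    toPerm_mem_H12 (by decide +kernel) (by decide +kernel),
    toPerm_mem_H12 (by decide +kernel) (by decide +kernel)⟩

theorem chk12 : octChk y12 y12 oct12 1 12713987 5 [1, 7, 10, 11] = true := by
  decide +kernel

theorem cand12 : candOK 0 [dod0] y12 y12 [0, 17, 22, 23, 1, 7, 10, 11]
    (candOct 0 [dod0] y12 y12 oct12 1 [1, 7, 10, 11]) dom12y
    [powP y12 0, z12] = true := by
  decide +kernel

theorem rel12 : powP y12 5 = powP y12 0 ∧ mulP y12 elt11 = mulP (powP elt11 5) y12 ∧
    mulP z12 y12 = mulP y12 z12 ∧ powP z12 2 = powP z12 0 ∧ diffP (powP z12 1) (powP z12 0) = true := by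
  decide +kernel

theorem cent12 : conjOK 0 [] elt11 elt11 [0, 6, 17, 23] dom11 ((List.range 11).map (powP elt11)) = true := by
  decide +kernel

theorem slp12_chk : slpOK [elt11, z12] slp12 = true ∧ (levs12x.all fun L => L.gens.all fun P =>
    ([elt11, z12] ++ slp12.map (fun t => t.2.2)).contains P) = true := by
  decide +kernel

theorem tau12_chk : inM24 tau12 = true ∧ mimg tau12 dod0 = dod0 ^^^ fullMask := by
  decide +kernel

/-- every nonzero multiplier is a power of the given one up to doubling -/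
theorem squares11 : ∀ k < 11, k ≠ 0 → ∃ j < 5,
    5 ^ j * k % 11 = 1 ∨ 5 ^ j * k % 11 = 2 := by
  decide +kernel

end CfsgLib.Golay.AutTwo
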