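import Cfsg.Agent.Lib.Golay.NormCert
import Cfsg.Agent.Lib.Golay.MathieuFacts
import Cfsg.Agent.Lib.Groups.SimpleCrit
import Cfsg.Prelude.Def_KGroupFacts

/-!
A criterion for an outer automorphism group of order two, and certificates using an octad.
-/

set_option autoImplicit false
set_option linter.style.haveILetI false

namespace CfsgLib.Golay.AutTwo

open Cfsg CfsgLib.Golay
open scoped Pointwise

theorem out_congr {G H : Type*} [Group G] [Group H] (e : G ≃* H) :
    Nat.card (Cfsg.Out G) = Nat.card (Cfsg.Out H) := by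
  rw [Cfsg.Out, Cfsg.Out, ← Subgroup.index_eq_card, ← Subgroup.index_eq_card,
    ← Subgroup.index_comap_of_surjective (H := Cfsg.Inn H) (f := (MulAut.congr e).toMonoidHom)
      (MulAut.congr e).surjective]
  congr 1
  ext φ
  simp only [Subgroup.mem_comap, MonoidHom.mem_range]
  constructor
  · rintro ⟨g, rfl⟩
    exact ⟨e g, by ext h; simp [MulAut.congr]⟩
  · rintro ⟨h, hh⟩
    refine ⟨e.symm h, ?_⟩
    ext g
    have := congrArg (fun ψ => e.symm (ψ (e g))) hh
    simpa [MulAut.congr] using this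

/-- After an inner correction an automorphism fixes `z` and sends `x` to one of the allowed powers. -/
theorem exists_normal_form {G : Type*} [Group G] [Finite G] {p n : ℕ} [Fact p.Prime] (x y z : G)
    (hcard : Nat.card G = p * n) (hn : ¬ p ∣ n) (hxo : orderOf x = p)
    (hcent : ∀ w : G, w * x = x * w → w ∈ Subgroup.zpowers x) (m : ℕ) (hyx : y * x = x ^ m * y)
    (hm : (m - 1).Coprime p) (hm1 : 1 ≤ m) (hgen : Subgroup.closure {x, z} = ⊤)
    (hz : ∀ φ : MulAut G, φ y = y → ∃ j : ℕ, φ z = y ^ j * z * (y ^ j)⁻¹)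
    (k0 : ℕ) (hk : ∀ (φ : MulAut G) (k : ℕ), ¬ p ∣ k → φ x = x ^ k → φ z = z →
      ∃ g : G, g * z * g⁻¹ = z ∧ (g * x ^ k * g⁻¹ = x ∨ g * x ^ k * g⁻¹ = x ^ k0))
    (φ : MulAut G) : ∃ g : G, (MulAut.conj g * φ) z = z ∧
      ((MulAut.conj g * φ) x = x ∨ (MulAut.conj g * φ) x = x ^ k0) := by
  classical
  have hxk : ∀ k : ℕ, ¬ p ∣ k → ∀ w : G, w * x ^ k = x ^ k * w → w * x = x * w := by
    intro k hk w hw
    obtain ⟨j, hj⟩ := exists_pow_eq_self_of_coprime (x := x) (n := k)
      (by rw [hxo]; exact ((Nat.Prime.coprime_iff_not_dvd Fact.out).2 hk).symm)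
    rw [← hj]
    exact ((show Commute w (x ^ k) from hw).pow_right j).eq
  have hsyl : ∀ u : G, orderOf u = p → ∃ P : Sylow p G, (P : Subgroup G) = Subgroup.zpowers u := by
    intro u hu
    have h1 : Nat.card (Subgroup.zpowers u) = p ^ 1 := by rw [Nat.card_zpowers, hu, pow_one]
    refine ⟨Sylow.ofCard (Subgroup.zpowers u) ?_, rfl⟩
    rw [h1, hcard, Nat.factorization_mul (Fact.out : p.Prime).ne_zero
      (fun h => hn (by rw [h]; exact dvd_zero p)), Finsupp.add_apply,
      Nat.factorization_eq_zero_of_not_dvd hn, Nat.Prime.factorization_self Fact.out]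
  obtain ⟨P1, hP1⟩ := hsyl x hxo
  obtain ⟨P2, hP2⟩ := hsyl (φ x) ((orderOf_injective φ.toMonoidHom φ.injective x).trans hxo)
  obtain ⟨a, ha⟩ := MulAction.exists_smul_eq G P2 P1
  have hmem : a * φ x * a⁻¹ ∈ Subgroup.zpowers x := by
    rw [← hP1, ← ha, Sylow.coe_subgroup_smul, hP2]
    exact ⟨_, Subgroup.mem_zpowers _, rfl⟩
  obtain ⟨k, hk'⟩ := (isOfFinOrder_of_finite x).mem_powers_iff_mem_zpowers.mpr hmem
  set ψ := MulAut.conj a * φ with hψ
  have hψx : ψ x = x ^ k := hk'.symm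
  have hkp : ¬ p ∣ k := by
    intro hd
    have : ψ x = 1 := by rw [hψx, ← orderOf_dvd_iff_pow_eq_one, hxo]; exact hd
    rw [map_eq_one_iff _ ψ.injective] at this
    rw [this, orderOf_one] at hxo
    exact (Fact.out : p.Prime).one_lt.ne hxo
  -- pin the image of `y`
  have hy : ψ y * x ^ k = x ^ (k * m) * ψ y := by
    rw [pow_mul, ← hψx, ← map_pow, ← map_mul, ← map_mul, hyx]
  have hyk : y * x ^ k = x ^ (k * m) * y := by
    have h1 : SemiconjBy y x (x ^ m) := hyx
    rw [mul_comm k m, pow_mul]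
    exact (h1.pow_right k).eq
  have hcom : (y⁻¹ * ψ y) * x ^ k = x ^ k * (y⁻¹ * ψ y) := by
    rw [mul_assoc, hy, ← mul_assoc, ← mul_assoc]
    refine congrArg (· * ψ y) ?_
    rw [inv_mul_eq_iff_eq_mul, ← mul_assoc, hyk, mul_inv_cancel_right]
  obtain ⟨i, hi⟩ := (isOfFinOrder_of_finite x).mem_powers_iff_mem_zpowers.mpr
    (hcent _ (hxk k hkp _ hcom))
  have hψy : ψ y = x ^ (i * m) * y := by
    have h1 : SemiconjBy y x (x ^ m) := hyx
    have hi' : x ^ i = y⁻¹ * ψ y := hi
    rw [show ψ y = y * x ^ i by rw [hi', mul_inv_cancel_left], mul_comm i m, pow_mul]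
    exact (h1.pow_right i).eq
  obtain ⟨l, hl⟩ := exists_pow_eq_self_of_coprime (x := x) (n := m - 1) (by rw [hxo]; exact hm)
  set j := l * (i * m) with hj
  have hji : x ^ ((m - 1) * j) = x ^ (i * m) := by
    rw [hj, ← mul_assoc, pow_mul, pow_mul x (m - 1) l, hl]
  set χ := MulAut.conj (x ^ j) * ψ with hχ
  have hχy : χ y = y := by
    have h1 : SemiconjBy y x (x ^ m) := hyx
    show x ^ j * ψ y * (x ^ j)⁻¹ = y
    rw [hψy, mul_inv_eq_iff_eq_mul, ← hji, ← mul_assoc, ← pow_add, (h1.pow_right j).eq, ← pow_mul]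
    congr 2
    obtain ⟨m', rfl⟩ := Nat.exists_eq_add_of_le hm1
    rw [Nat.add_sub_cancel_left]; ring
  have hχx : χ x = x ^ k := by
    show x ^ j * ψ x * (x ^ j)⁻¹ = x ^ k
    rw [hψx, ← pow_add, add_comm, pow_add, mul_inv_cancel_right]
  obtain ⟨e, he⟩ := hz χ hχy
  set θ := MulAut.conj (y ^ e)⁻¹ * χ with hθ
  have hθz : θ z = z := by
    show (y ^ e)⁻¹ * χ z * (y ^ e)⁻¹⁻¹ = z
    rw [he]; group
  obtain ⟨k', hk''⟩ : ∃ k' : ℕ, θ x = x ^ k' ∧ ¬ p ∣ k' := by
    have hpow : ∀ e : ℕ, ∃ e' : ℕ, (y ^ e)⁻¹ * x * y ^ e = x ^ e' := by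
      intro e
      have h1 : SemiconjBy y x (x ^ m) := hyx
      have hcop : (m).Coprime (orderOf x) := by
        rw [hxo]
        refine ((Nat.Prime.coprime_iff_not_dvd Fact.out).2 fun hd => ?_).symm
        have : x ^ m = 1 := by rw [← orderOf_dvd_iff_pow_eq_one, hxo]; exact hd
        have h2 := h1.eq
        rw [this, one_mul] at h2
        rw [mul_eq_left.1 h2, orderOf_one] at hxo
        exact (Fact.out : p.Prime).one_lt.ne hxo
      obtain ⟨r, hr⟩ := exists_pow_eq_self_of_coprime hcop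
      have hc : y⁻¹ * x * y = x ^ r := by
        conv_lhs => rw [← hr]
        rw [mul_assoc, inv_mul_eq_iff_eq_mul]
        exact ((h1.pow_right r).eq).symm
      induction e with
      | zero => exact ⟨1, by simp⟩
      | succ e ih =>
        obtain ⟨e', he'⟩ := ih
        refine ⟨r * e', ?_⟩
        rw [pow_mul, ← hc, pow_succ]
        have : (y⁻¹ * x * y) ^ e' = y⁻¹ * x ^ e' * y := by
          simpa using (conj_pow (i := e') (a := y⁻¹) (b := x))
        rw [this, ← he']; group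
    obtain ⟨e', he'⟩ := hpow e
    have hθx : θ x = x ^ (e' * k) := by
      show (y ^ e)⁻¹ * χ x * (y ^ e)⁻¹⁻¹ = _
      rw [hχx, inv_inv, pow_mul, ← he']
      simpa using (conj_pow (i := k) (a := (y ^ e)⁻¹) (b := x)).symm
    refine ⟨e' * k, hθx, fun hd => ?_⟩
    have : θ x = 1 := by rw [hθx, ← orderOf_dvd_iff_pow_eq_one, hxo]; exact hd
    rw [map_eq_one_iff _ θ.injective] at this
    rw [this, orderOf_one] at hxo
    exact (Fact.out : p.Prime).one_lt.ne hxo
  obtain ⟨g, hgz, hgx⟩ := hk θ k' hk''.2 hk''.1 hθz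
  refine ⟨g * (y ^ e)⁻¹ * x ^ j * a, ?_⟩
  have e0 : MulAut.conj (g * (y ^ e)⁻¹ * x ^ j * a) * φ = MulAut.conj g * θ := by
    simp only [hθ, hχ, hψ, map_mul, mul_assoc]
  rw [e0]
  refine ⟨?_, ?_⟩
  · show g * θ z * g⁻¹ = z
    rw [hθz, hgz]
  · show g * θ x * g⁻¹ = x ∨ g * θ x * g⁻¹ = x ^ k0
    rwa [hk''.1]

/-- A group generated by two elements `x`, `z`, the second pinned by an element normalizing the
self-centralizing subgroup of prime order generated by the first, has at most one class of outer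
automorphisms when only two images of `x` remain. -/
theorem out_eq_two {G : Type*} [Group G] [Finite G] {p n : ℕ} [Fact p.Prime] (x y z : G)
    (hcard : Nat.card G = p * n) (hn : ¬ p ∣ n) (hxo : orderOf x = p)
    (hcent : ∀ w : G, w * x = x * w → w ∈ Subgroup.zpowers x) (m : ℕ) (hyx : y * x = x ^ m * y)
    (hm : (m - 1).Coprime p) (hm1 : 1 ≤ m) (hgen : Subgroup.closure {x, z} = ⊤)
    (hz : ∀ φ : MulAut G, φ y = y → ∃ j : ℕ, φ z = y ^ j * z * (y ^ j)⁻¹)
    (k0 : ℕ) (hk : ∀ (φ : MulAut G) (k : ℕ), ¬ p ∣ k → φ x = x ^ k → φ z = z →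
      ∃ g : G, g * z * g⁻¹ = z ∧ (g * x ^ k * g⁻¹ = x ∨ g * x ^ k * g⁻¹ = x ^ k0))
    (φ0 : MulAut G) (h0 : φ0 ∉ Cfsg.Inn G) : Nat.card (Cfsg.Out G) = 2 := by
  classical
  have hnf : ∀ φ : MulAut G, ∃ g : G, (MulAut.conj g * φ) z = z ∧
      ((MulAut.conj g * φ) x = x ∨ (MulAut.conj g * φ) x = x ^ k0) :=
    exists_normal_form x y z hcard hn hxo hcent m hyx hm hm1 hgen hz k0 hk
  have hext : ∀ φ χ : MulAut G, φ x = χ x → φ z = χ z → φ = χ := by
    intro φ χ h1 h2
    have h := MonoidHom.eq_of_eqOn_dense (f := φ.toMonoidHom) (g := χ.toMonoidHom) hgen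
      (by rintro w (rfl | rfl) <;> assumption)
    exact MulEquiv.ext fun w => DFunLike.congr_fun h w
  have hconj : ∀ g : G, MulAut.conj g ∈ Cfsg.Inn G := fun g => ⟨g, rfl⟩
  have hsame : ∀ φ χ : MulAut G, φ ∉ Cfsg.Inn G → χ ∉ Cfsg.Inn G → φ * χ⁻¹ ∈ Cfsg.Inn G := by
    intro φ χ hφ hχ
    have hnon : ∀ θ : MulAut G, θ ∉ Cfsg.Inn G → ∃ g : G,
        (MulAut.conj g * θ) z = z ∧ (MulAut.conj g * θ) x = x ^ k0 := by
      intro θ hθ
      obtain ⟨g, h1, h2 | h2⟩ := hnf θ
      · refine absurd ?_ hθ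
        have h3 : θ = (MulAut.conj g)⁻¹ :=
          eq_inv_of_mul_eq_one_right (hext _ 1 h2 h1)
        rw [h3]; exact inv_mem (hconj g)
      · exact ⟨g, h1, h2⟩
    obtain ⟨g, g1, g2⟩ := hnon φ hφ
    obtain ⟨h, h1, h2⟩ := hnon χ hχ
    have he := hext _ _ (g2.trans h2.symm) (g1.trans h1.symm)
    have e1 : φ = (MulAut.conj g)⁻¹ * (MulAut.conj h * χ) := by rw [← he, inv_mul_cancel_left]
    rw [e1, mul_assoc, mul_assoc, mul_inv_cancel, mul_one]
    exact mul_mem (inv_mem (hconj g)) (hconj h)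
  rw [Cfsg.Out, ← Subgroup.index_eq_card, Subgroup.index_eq_two_iff]
  refine ⟨φ0, fun b => ?_⟩
  by_cases hb : b ∈ Cfsg.Inn G
  · exact Or.inr ⟨hb, fun h => h0 ((Subgroup.mul_mem_cancel_left _ hb).1 h)⟩
  · refine Or.inl ⟨?_, hb⟩
    simpa using hsame b φ0⁻¹ hb fun h => h0 (inv_mem_iff.1 h)

/-- With a single allowed power every automorphism is inner. -/
theorem out_eq_one {G : Type*} [Group G] [Finite G] {p n : ℕ} [Fact p.Prime] (x y z : G)
    (hcard : Nat.card G = p * n) (hn : ¬ p ∣ n) (hxo : orderOf x = p)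
    (hcent : ∀ w : G, w * x = x * w → w ∈ Subgroup.zpowers x) (m : ℕ) (hyx : y * x = x ^ m * y)
    (hm : (m - 1).Coprime p) (hm1 : 1 ≤ m) (hgen : Subgroup.closure {x, z} = ⊤)
    (hz : ∀ φ : MulAut G, φ y = y → ∃ j : ℕ, φ z = y ^ j * z * (y ^ j)⁻¹)
    (k0 : ℕ) (hk : ∀ (φ : MulAut G) (k : ℕ), ¬ p ∣ k → φ x = x ^ k → φ z = z →
      ∃ g : G, g * z * g⁻¹ = z ∧ (g * x ^ k * g⁻¹ = x ∨ g * x ^ k * g⁻¹ = x ^ k0))
    (hk0 : k0 = 1) : Nat.card (Cfsg.Out G) = 1 := by
  have hall : ∀ φ : MulAut G, φ ∈ Cfsg.Inn G := by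
    intro φ
    obtain ⟨g, h1, h2⟩ := exists_normal_form x y z hcard hn hxo hcent m hyx hm hm1 hgen hz k0 hk φ
    rw [hk0, pow_one, or_self] at h2
    have he : MulAut.conj g * φ = 1 := by
      have h := MonoidHom.eq_of_eqOn_dense (f := (MulAut.conj g * φ).toMonoidHom)
        (g := MonoidHom.id G) hgen (by rintro w (rfl | rfl) <;> assumption)
      exact MulEquiv.ext fun w => DFunLike.congr_fun h w
    rw [eq_inv_of_mul_eq_one_right he]
    exact inv_mem ⟨g, rfl⟩
  rw [Cfsg.Out, ← Subgroup.index_eq_card, show Cfsg.Inn G = ⊤ from eq_top_iff.2 fun φ _ => hall φ,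
    Subgroup.index_top]

/-! ### Certificates -/

/-- the candidate images inside an octad -/
def candOct (F : ℕ) (inv : List ℕ) (x y O c : ℕ) (first : List ℕ) (r : ℕ) : List ℕ :=
  if r == c then first else (candImgs F [] x y r).filter fun i =>
    (!O.testBit r || O.testBit i) && inv.all fun o => o.testBit r == o.testBit i

/-- the octad conditions -/
def octChk (x y O c E p : ℕ) (first : List ℕ) : Bool :=
  inC O && pop 24 O == 8 && decide (c < 24) && O.testBit c && ap x c != c &&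
    first.all (fun f => decide (f < 24) && O.testBit f) && decide (5 ≤ pop 24 E) &&
    ((List.range 24).all fun i => !E.testBit i || (ap x i == i && O.testBit i) || i == c) &&
    ((List.range 24).all fun i => ap y i != i || O.testBit i) &&
    ((List.range 24).all fun i => ap y i == i ||
      first.any fun f => (List.range p).any fun k => apN y k f == i)

theorem exists_of_octOK {H : Subgroup (Equiv.Perm GolayPt)} {F : ℕ} {inv : List ℕ}
    {x y O c E p : ℕ} {first reps : List ℕ} {dom : List (ℕ × ℕ)} {ok : List ℕ} (hH : H ≤ M24)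
    (hpres : ∀ o ∈ inv, o < 2 ^ 24 ∧ ∀ g ∈ H, g • dec o = dec o) (hy : toPerm y ∈ fixH H F)
    (hchk : octChk x y O c E p first = true)
    (hok : candOK F inv x y reps (candOct F inv x y O c first) dom ok = true)
    {g : Equiv.Perm GolayPt} (hg : g ∈ fixH H F) (hconj : g * toPerm x = toPerm y * g) :
    ∃ j : ℕ, ∃ P ∈ ok, g = toPerm y ^ j * toPerm P := by
  have hparts := hok
  simp only [candOK, domOK, Bool.and_eq_true, List.all_eq_true, decide_eq_true_eq] at hparts
  obtain ⟨⟨⟨⟨⟨hvx, hreps⟩, -⟩, -⟩, hvy⟩, -⟩ := hparts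
  simp only [octChk, Bool.and_eq_true, List.all_eq_true, Bool.or_eq_true, List.any_eq_true,
    decide_eq_true_eq, beq_iff_eq, bne_iff_ne, List.mem_range, Bool.not_eq_true'] at hchk
  obtain ⟨⟨⟨⟨⟨⟨⟨⟨⟨hOc, hO8⟩, hc⟩, hcO⟩, hxc⟩, hfirst⟩, hE5⟩, hE⟩, hyO⟩, hcov⟩ := hchk
  rcases hcov (idx (g (pt c))) (idx_lt _) with h | ⟨f, hf, k, hk, hfk⟩
  · exfalso
    apply hxc
    have h1 : toPerm y (g (pt c)) = g (pt c) := idx_injective (by rw [idx_toPerm hvy, h])
    have h3 := congrArg idx (g.injective ((Equiv.ext_iff.1 hconj (pt c)).trans h1))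
    rwa [idx_toPerm hvx, idx_pt c hc] at h3
  set w := (toPerm y ^ k)⁻¹ * g with hw
  have hcom : w * toPerm x = toPerm y * w := by
    rw [hw, mul_assoc, hconj, ← mul_assoc, ← mul_assoc]
    exact congrArg (· * g) ((Commute.refl (toPerm y)).pow_left k).inv_left.eq
  have hwH : w ∈ fixH H F := mul_mem (inv_mem (pow_mem hy k)) hg
  have hwM : w ∈ M24 := hH (mem_fixH.1 hwH).1
  have hwc : w (pt c) = pt f := by
    rw [hw, Equiv.Perm.mul_apply, Equiv.Perm.inv_eq_iff_eq]
    exact idx_injective (by rw [idx_toPerm_pow hvy, idx_pt f (hfirst f hf).1, hfk])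
  clear_value w
  have hoct := dec_mem_octads hOc hO8
  have hwO : w • dec O = dec O := by
    refine octad_eq_of_five (smul_mem_octads hwM hoct) hoct (le_trans hE5 ?_)
    rw [pop_eq_card, ← Finset.card_smul_finset w (dec E)]
    refine Finset.card_le_card fun q hq => ?_
    obtain ⟨p', hp', rfl⟩ := Finset.mem_smul_finset.1 hq
    rw [mem_dec] at hp'
    rcases hE (idx p') (idx_lt p') with (h | ⟨h1, h2⟩) | h
    · simp [h] at hp'
    · refine Finset.mem_inter.2 ⟨Finset.smul_mem_smul_finset (mem_dec.2 h2), ?_⟩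
      have e : toPerm x p' = p' := idx_injective (by rw [idx_toPerm hvx, h1])
      have e2 : toPerm y (w p') = w p' :=
        ((Equiv.ext_iff.1 hcom p').symm.trans (by rw [Equiv.Perm.mul_apply, e]) : _)
      refine mem_dec.2 ((hyO _ (idx_lt _)).resolve_left (not_not.2 ?_))
      rw [← idx_toPerm hvy]; exact congrArg idx e2
    · have e : p' = pt c := by rw [← h, pt_idx]
      subst e
      refine Finset.mem_inter.2 ⟨Finset.smul_mem_smul_finset (show pt c ∈ dec O from mem_dec.2 (by rw [idx_pt c hc]; exact hcO)), ?_⟩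
      rw [Equiv.Perm.smul_def, hwc, mem_dec, idx_pt f (hfirst f hf).1]
      exact (hfirst f hf).2
  obtain ⟨P, hP, hgP⟩ := eq_of_candOK hH hpres hok hwH hcom fun r hr => by
    unfold candOct
    split
    · next h =>
      rw [beq_iff_eq] at h
      subst h
      rw [hwc, idx_pt f (hfirst f hf).1]
      exact hf
    · rw [List.mem_filter]
      refine ⟨mem_candImgs hvx hvy (hreps r hr) (mem_fixH.1 hwH).2 hcom, ?_⟩
      have hset : ∀ o : ℕ, w • dec o = dec o → (o.testBit r ↔ o.testBit (idx (w (pt r)))) := by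
        intro o ho
        have h1 : w • pt r ∈ w • dec o ↔ pt r ∈ dec o := Finset.smul_mem_smul_finset_iff w
        rw [ho, mem_dec, mem_dec, idx_pt r (hreps r hr)] at h1
        exact h1.symm
      simp only [Bool.and_eq_true, Bool.or_eq_true, Bool.not_eq_true', List.all_eq_true, beq_iff_eq]
      refine ⟨?_, fun o ho => Bool.eq_iff_iff.2 (hset o ((hpres o ho).2 w (mem_fixH.1 hwH).1))⟩
      cases hb : O.testBit r
      · exact Or.inl rfl
      · exact Or.inr ((hset O hwO).1 hb)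
  exact ⟨k, P, hP, by rw [← hgP, hw, mul_inv_cancel_left]⟩

/-- the elements of the group of the code commuting with `x` are its powers -/
theorem cent_of_conjOK {x p : ℕ} {reps : List ℕ} {dom : List (ℕ × ℕ)}
    (hc : conjOK 0 [] x x reps dom ((List.range p).map (powP x)) = true) {w : Equiv.Perm GolayPt}
    (hw : w ∈ M24) (hcom : w * toPerm x = toPerm x * w) : w ∈ Subgroup.zpowers (toPerm x) := by
  obtain ⟨P, hP, rfl⟩ := eq_of_conjOK (H := M24) (F := 0) le_rfl (by simp) hc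
    (by rw [fixH_zero]; exact hw) hcom
  obtain ⟨k, -, rfl⟩ := List.mem_map.1 hP
  have hvx : validP x = true := by
    simp only [conjOK, domOK, Bool.and_eq_true] at hc; exact hc.1.1.1.1.1
  rw [(toPerm_powP hvx k).2]
  exact pow_mem (Subgroup.mem_zpowers _) k

/-- the test that two packed permutations differ at some position -/
def diffP (P Q : ℕ) : Bool := (List.range 24).any fun i => ap P i != ap Q i

theorem packed_eq {P Q : ℕ} (hP : validP P = true) (hQ : validP Q = true)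
    (h : toPerm P = toPerm Q) (i : ℕ) (hi : i < 24) : ap P i = ap Q i := by
  have := congrArg idx (Equiv.ext_iff.1 h (pt i))
  rwa [idx_toPerm hP, idx_toPerm hQ, idx_pt i hi] at this

theorem toPerm_ne_of_diffP {P Q : ℕ} (hP : validP P = true) (hQ : validP Q = true)
    (h : diffP P Q = true) : toPerm P ≠ toPerm Q := by
  intro he
  obtain ⟨i, hi, hne⟩ := List.any_eq_true.1 h
  rw [bne_iff_ne] at hne
  exact hne (packed_eq hP hQ he i (List.mem_range.1 hi))

end CfsgLib.Golay.AutTwo
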