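import Cfsg.Agent.Lib.Golay.Perm

/-!
Certified stabilizer chains for subgroups of the automorphism group of the code.
-/

set_option autoImplicit false

namespace CfsgLib.Golay

open Cfsg
open scoped Pointwise

/-- the all-ones mask -/
def fullMask : ℕ := 16777215

theorem testBit_fullMask (i : ℕ) : fullMask.testBit i = decide (i < 24) := by
  rw [fullMask, show (16777215 : ℕ) = 2 ^ 24 - 1 from rfl, Nat.testBit_two_pow_sub_one]

theorem dec_fullMask : dec fullMask = Finset.univ := by
  ext p; simp [testBit_fullMask, idx_lt p]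

theorem mem_dec_two_pow {b : ℕ} (hb : b < 24) {p : GolayPt} : p ∈ dec (2 ^ b) ↔ p = pt b := by
  rw [mem_dec, Nat.testBit_two_pow, decide_eq_true_eq]
  constructor
  · rintro rfl; rw [pt_idx]
  · rintro rfl; rw [idx_pt b hb]

theorem mem_dec_or {m n : ℕ} {p : GolayPt} : p ∈ dec (m ||| n) ↔ p ∈ dec m ∨ p ∈ dec n := by
  simp [mem_dec, Nat.testBit_or]

theorem dec_or (m n : ℕ) : dec (m ||| n) = dec m ∪ dec n := by
  ext p; simp [mem_dec_or]

theorem dec_two_pow {b : ℕ} (hb : b < 24) : dec (2 ^ b) = {pt b} := by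
  ext p; simp only [mem_dec_two_pow hb, Finset.mem_singleton]

theorem dec_and (m n : ℕ) : dec (m &&& n) = dec m ∩ dec n := by
  ext p; simp [mem_dec, Nat.testBit_and]

theorem pop_eq_card (m : ℕ) : pop 24 m = (dec m).card := (card_dec_eq_pop m).symm

/-- pointwise stabilizer in `H` of the points of the mask `F` -/
noncomputable def fixH (H : Subgroup (Equiv.Perm GolayPt)) (F : ℕ) : Subgroup (Equiv.Perm GolayPt) :=
  H ⊓ fixingSubgroup (Equiv.Perm GolayPt) (dec F : Set GolayPt)

theorem mem_fixH {H : Subgroup (Equiv.Perm GolayPt)} {F : ℕ} {g : Equiv.Perm GolayPt} :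
    g ∈ fixH H F ↔ g ∈ H ∧ ∀ p ∈ dec F, g p = p := by
  simp [fixH, Subgroup.mem_inf, mem_fixingSubgroup_iff, Equiv.Perm.smul_def]

theorem fixH_zero (H : Subgroup (Equiv.Perm GolayPt)) : fixH H 0 = H := by
  ext g; simp [mem_fixH, mem_dec]

/-- the test that a packed permutation fixes a mask pointwise -/
def fixes (P F : ℕ) : Bool := (List.range 24).all fun i => !F.testBit i || ap P i == i

theorem fixes_apply {P F : ℕ} (hv : validP P = true) (h : fixes P F = true) {p : GolayPt}
    (hp : p ∈ dec F) : toPerm P p = p := by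
  have := List.all_eq_true.1 h (idx p) (List.mem_range.2 (idx_lt p))
  rw [mem_dec] at hp
  simp only [hp, Bool.not_true, Bool.false_or, beq_iff_eq] at this
  rw [toPerm_apply hv, this, pt_idx]

/-- the points that can be images of `p` when the complement of `F` and every set of `l` is preserved -/
def atom (F : ℕ) : List ℕ → ℕ → ℕ
  | [], _ => F ^^^ fullMask
  | o :: os, p => (if o.testBit p then o else o ^^^ fullMask) &&& atom F os p

theorem mem_atom {F : ℕ} {g : Equiv.Perm GolayPt} (hF : ∀ p ∈ dec F, g p = p) (l : List ℕ)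
    (hl : ∀ o ∈ l, g • dec o = dec o) {p : GolayPt} (hp : p ∉ dec F) :
    g p ∈ dec (atom F l (idx p)) := by
  induction l with
  | nil =>
    simp only [atom, mem_dec, Nat.testBit_xor, testBit_fullMask, idx_lt, decide_true,
      Bool.bne_true, Bool.not_eq_true']
    by_contra hc
    simp only [Bool.not_eq_false] at hc
    exact hp (by simpa [g.injective (hF _ (mem_dec.2 hc))] using mem_dec.2 hc)
  | cons o os ih =>
    simp only [List.mem_cons, forall_eq_or_imp] at hl
    rw [atom, dec_and, Finset.mem_inter]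
    refine ⟨?_, ih hl.2⟩
    have hiff : g p ∈ dec o ↔ p ∈ dec o := by
      conv_lhs => rw [← hl.1]
      exact Finset.smul_mem_smul_finset_iff g
    split
    · next hb => exact hiff.2 (mem_dec.2 hb)
    · next hb =>
      rw [mem_dec, Nat.testBit_xor, testBit_fullMask]
      simp only [idx_lt, decide_true, Bool.bne_true, Bool.not_eq_true']
      by_contra hc
      simp only [Bool.not_eq_false] at hc
      exact hb (mem_dec.1 (hiff.1 (mem_dec.2 hc)))

/-- an octad meeting `F` in at least five points -/
def octFor (F o : ℕ) : Bool := inC o && pop 24 o == 8 && decide (5 ≤ pop 24 (o &&& F))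

theorem dec_mem_octads {o : ℕ} (h : inC o = true) (h8 : pop 24 o = 8) : dec o ∈ octads :=
  ⟨⟨wd o, wd_mem_of_inC h, support_wd o⟩, by rw [card_dec_eq_pop, h8]⟩

theorem smul_mem_octads {g : Equiv.Perm GolayPt} (hg : g ∈ M24) {s : Finset GolayPt}
    (hs : s ∈ octads) : g • s ∈ octads :=
  ⟨smul_mem_supports hg hs.1, by rw [Finset.card_smul_finset]; exact hs.2⟩

theorem smul_mem_dodecads {g : Equiv.Perm GolayPt} (hg : g ∈ M24) {s : Finset GolayPt}
    (hs : s ∈ dodecads) : g • s ∈ dodecads :=
  ⟨smul_mem_supports hg hs.1, by rw [Finset.card_smul_finset]; exact hs.2⟩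

theorem octFor_preserved {g : Equiv.Perm GolayPt} (hg : g ∈ M24) {F o : ℕ} (ho : octFor F o = true)
    (hF : ∀ p ∈ dec F, g p = p) : g • dec o = dec o := by
  simp only [octFor, Bool.and_eq_true, beq_iff_eq, decide_eq_true_eq] at ho
  obtain ⟨⟨hc, h8⟩, h5⟩ := ho
  have hoct := dec_mem_octads hc h8
  refine octad_eq_of_five (smul_mem_octads hg hoct) hoct (le_trans h5 ?_)
  rw [pop_eq_card, dec_and]
  refine Finset.card_le_card fun p hp => ?_
  rw [Finset.mem_inter] at hp ⊢
  refine ⟨?_, hp.1⟩
  rw [← hF p hp.2]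
  exact Finset.smul_mem_smul_finset hp.1

/-- repeated enlargement of a mask by the images under a list of packed permutations -/
def closeUp (gens : List ℕ) : ℕ → ℕ → ℕ
  | 0, m => m
  | k + 1, m => closeUp gens k (gens.foldl (fun a g => a ||| mimg g a) m)

theorem foldl_subset {G : Subgroup (Equiv.Perm GolayPt)} {x : GolayPt} :
    ∀ (gens : List ℕ) (m : ℕ), (∀ P ∈ gens, validP P = true ∧ toPerm P ∈ G) →
      (∀ p ∈ dec m, ∃ g ∈ G, g x = p) →
      ∀ p ∈ dec (gens.foldl (fun a g => a ||| mimg g a) m), ∃ g ∈ G, g x = p := by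
  intro gens
  induction gens with
  | nil => intro m _ hm; exact hm
  | cons P Ps ih =>
    intro m h hm
    simp only [List.mem_cons, forall_eq_or_imp] at h
    rw [List.foldl_cons]
    refine ih _ h.2 fun p hp => ?_
    rcases mem_dec_or.1 hp with hp | hp
    · exact hm p hp
    · obtain ⟨q, rfl⟩ := (toPerm P).surjective p
      rw [mem_dec_mimg h.1.1] at hp
      obtain ⟨g, hg, hgx⟩ := hm q hp
      exact ⟨toPerm P * g, G.mul_mem h.1.2 hg, by simp [hgx]⟩

theorem closeUp_subset {G : Subgroup (Equiv.Perm GolayPt)} {gens : List ℕ}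
    (hv : ∀ P ∈ gens, validP P = true) (hG : ∀ P ∈ gens, toPerm P ∈ G) {x : GolayPt} :
    ∀ k m, (∀ p ∈ dec m, ∃ g ∈ G, g x = p) → ∀ p ∈ dec (closeUp gens k m), ∃ g ∈ G, g x = p := by
  intro k
  induction k with
  | zero => exact fun m hm => hm
  | succ k ih => exact fun m hm => ih _ (foldl_subset gens m (fun P hP => ⟨hv P hP, hG P hP⟩) hm)

/-- one level of a chain: the point, the sets known to be preserved, and the generators -/
structure Lev where
  /-- the point whose orbit is computed -/
  b : ℕ
  /-- the preserved sets -/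
  inv : List ℕ
  /-- the generators -/
  gens : List ℕ

/-- check of one level below the mask `F`; `extra` lists sets preserved by the whole group -/
def Lev.ok (extra : List ℕ) (F : ℕ) (L : Lev) : Bool :=
  decide (L.b < 24) && !F.testBit L.b
    && L.inv.all (fun o => extra.contains o || octFor F o)
    && L.gens.all (fun g => validP g && fixes g F)
    && closeUp L.gens 24 (2 ^ L.b) == atom F L.inv L.b

/-- check of a chain -/
def chainOK (extra : List ℕ) : ℕ → List Lev → Bool
  | _, [] => true
  | F, L :: Ls => L.ok extra F && chainOK extra (F ||| 2 ^ L.b) Ls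

/-- orbit sizes of a chain -/
def chainSizes : ℕ → List Lev → List ℕ
  | _, [] => []
  | F, L :: Ls => pop 24 (atom F L.inv L.b) :: chainSizes (F ||| 2 ^ L.b) Ls

/-- product of orbit sizes -/
def chainProd (F : ℕ) (Ls : List Lev) : ℕ := (chainSizes F Ls).prod

/-- the mask at the bottom of a chain -/
def chainBot : ℕ → List Lev → ℕ
  | F, [] => F
  | F, L :: Ls => chainBot (F ||| 2 ^ L.b) Ls

/-- the hypotheses on a group carrying a chain -/
structure Carries (H : Subgroup (Equiv.Perm GolayPt)) (extra : List ℕ) (gens : List ℕ) : Prop where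
  le : H ≤ M24
  pres : ∀ o ∈ extra, ∀ g ∈ H, g • dec o = dec o
  mem : ∀ P ∈ gens, toPerm P ∈ H

theorem orbit_level {H : Subgroup (Equiv.Perm GolayPt)} {extra : List ℕ} {F : ℕ} {L : Lev}
    (hC : Carries H extra L.gens) (hL : L.ok extra F = true) (p : GolayPt) :
    (∃ g ∈ fixH H F, g (pt L.b) = p) ↔ p ∈ dec (atom F L.inv L.b) := by
  simp only [Lev.ok, Bool.and_eq_true, decide_eq_true_eq, Bool.not_eq_true', List.all_eq_true,
    Bool.or_eq_true, List.contains_iff_mem, beq_iff_eq] at hL
  obtain ⟨⟨⟨⟨hb, hbF⟩, hinv⟩, hgens⟩, hclose⟩ := hL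
  constructor
  · rintro ⟨g, hg, rfl⟩
    obtain ⟨hgH, hgF⟩ := mem_fixH.1 hg
    have hl : ∀ o ∈ L.inv, g • dec o = dec o := by
      intro o ho
      rcases hinv o ho with h | h
      · exact hC.pres o h g hgH
      · exact octFor_preserved (hC.le hgH) h hgF
    have hp : pt L.b ∉ dec F := by simp [mem_dec, idx_pt _ hb, hbF]
    simpa [idx_pt _ hb] using mem_atom hgF L.inv hl hp
  · intro hp
    rw [← hclose] at hp
    refine closeUp_subset (G := fixH H F) (fun P hP => (hgens P hP).1) (fun P hP => ?_) 24 _ ?_ p hp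
    · exact mem_fixH.2 ⟨hC.mem P hP, fun q hq => fixes_apply (hgens P hP).1 (hgens P hP).2 hq⟩
    · intro q hq
      exact ⟨1, one_mem _, by simp [(mem_dec_two_pow hb).1 hq]⟩

theorem card_level {H : Subgroup (Equiv.Perm GolayPt)} {extra : List ℕ} {F : ℕ} {L : Lev}
    (hC : Carries H extra L.gens) (hL : L.ok extra F = true) :
    Nat.card (fixH H F) =
      pop 24 (atom F L.inv L.b) * Nat.card (fixH H (F ||| 2 ^ L.b)) := by
  have hb : L.b < 24 := by
    simp only [Lev.ok, Bool.and_eq_true, decide_eq_true_eq] at hL; exact hL.1.1.1.1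
  have horb : MulAction.orbit (fixH H F) (pt L.b) = (dec (atom F L.inv L.b) : Set GolayPt) := by
    ext p
    rw [Finset.mem_coe, ← orbit_level hC hL, MulAction.mem_orbit_iff]
    simp [Subgroup.smul_def]
  have h1 : Nat.card (MulAction.orbit (fixH H F) (pt L.b)) = pop 24 (atom F L.inv L.b) := by
    rw [horb, Nat.card_coe_set_eq, Set.ncard_coe_finset, pop_eq_card]
  have h2 : Nat.card (MulAction.stabilizer (fixH H F) (pt L.b)) =
      Nat.card (fixH H (F ||| 2 ^ L.b)) := by
    refine Nat.card_congr
      { toFun := fun g => ⟨(g.1 : Equiv.Perm GolayPt), ?_⟩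
        invFun := fun g => ⟨⟨g.1, ?_⟩, ?_⟩
        left_inv := fun g => rfl
        right_inv := fun g => rfl }
    · obtain ⟨hH, hF⟩ := mem_fixH.1 g.1.2
      refine mem_fixH.2 ⟨hH, fun p hp => ?_⟩
      rcases mem_dec_or.1 hp with hp | hp
      · exact hF p hp
      · rw [(mem_dec_two_pow hb).1 hp]; exact g.2
    · obtain ⟨hH, hF⟩ := mem_fixH.1 g.2
      exact mem_fixH.2 ⟨hH, fun p hp => hF p (mem_dec_or.2 (Or.inl hp))⟩
    · exact (mem_fixH.1 g.2).2 _ (mem_dec_or.2 (Or.inr ((mem_dec_two_pow hb).2 rfl)))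
  rw [← h1, ← h2, ← Nat.card_prod]
  exact Nat.card_congr (MulAction.orbitProdStabilizerEquivGroup (fixH H F) (pt L.b)).symm

theorem card_chain {H : Subgroup (Equiv.Perm GolayPt)} {extra : List ℕ} :
    ∀ (Ls : List Lev) (F : ℕ), (∀ L ∈ Ls, Carries H extra L.gens) → chainOK extra F Ls = true →
      Nat.card (fixH H F) = chainProd F Ls * Nat.card (fixH H (chainBot F Ls)) := by
  intro Ls
  induction Ls with
  | nil => intro F _ _; simp [chainProd, chainSizes, chainBot]
  | cons L Ls ih =>
    intro F hC hok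
    simp only [List.mem_cons, forall_eq_or_imp] at hC
    simp only [chainOK, Bool.and_eq_true] at hok
    rw [card_level hC.1 hok.1, ih _ hC.2 hok.2, chainProd, chainProd, chainSizes, chainBot,
      List.prod_cons, mul_assoc]

/-- each round of a chain is a full complement, so the group is transitive on tuples from `A` -/
def chainFull (A : ℕ) : ℕ → List Lev → Bool
  | _, [] => true
  | F, L :: Ls => atom F L.inv L.b == (A &&& (F ^^^ fullMask)) && chainFull A (F ||| 2 ^ L.b) Ls

theorem exists_map_chain {H : Subgroup (Equiv.Perm GolayPt)} {extra : List ℕ} {A : ℕ} :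
    ∀ (Ls : List Lev) (F : ℕ) (g : Equiv.Perm GolayPt) (y : List GolayPt),
      (∀ L ∈ Ls, Carries H extra L.gens) → chainOK extra F Ls = true → chainFull A F Ls = true →
      g ∈ H → g • dec A = dec A → y.length = Ls.length → y.Nodup →
      (∀ p ∈ y, p ∈ dec A ∧ p ∉ g • dec F) →
      (∀ h ∈ H, h • dec A = dec A) →
      ∃ h ∈ H, (∀ p ∈ dec F, h p = g p) ∧ Ls.map (fun L => h (pt L.b)) = y := by
  intro Ls
  induction Ls with
  | nil =>
    intro F g y _ _ _ hg _ hlen _ _ _
    exact ⟨g, hg, fun p _ => rfl, by simpa using (List.length_eq_zero_iff.1 hlen).symm⟩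
  | cons L Ls ih =>
    intro F g y hC hok hfull hg hgA hlen hnd hy hA
    cases y with
    | nil => simp at hlen
    | cons q qs =>
      simp only [List.mem_cons, forall_eq_or_imp] at hC hy
      simp only [chainOK, Bool.and_eq_true] at hok
      simp only [chainFull, Bool.and_eq_true, beq_iff_eq] at hfull
      have hb : L.b < 24 := by
        have := hok.1
        simp only [Lev.ok, Bool.and_eq_true, decide_eq_true_eq] at this; exact this.1.1.1.1
      have hq : g⁻¹ q ∈ dec (atom F L.inv L.b) := by
        rw [hfull.1, dec_and, Finset.mem_inter]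
        constructor
        · have h1 : g⁻¹ • q ∈ g⁻¹ • dec A := Finset.smul_mem_smul_finset hy.1.1
          rw [hA _ (H.inv_mem hg)] at h1
          exact h1
        · rw [mem_dec, Nat.testBit_xor, testBit_fullMask]
          simp only [idx_lt, decide_true, Bool.bne_true, Bool.not_eq_true']
          by_contra hc
          simp only [Bool.not_eq_false] at hc
          refine hy.1.2 ?_
          have h1 : g • (g⁻¹ q) ∈ g • dec F := Finset.smul_mem_smul_finset (mem_dec.2 hc)
          simpa [Equiv.Perm.smul_def] using h1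
      obtain ⟨k, hk, hkb⟩ := (orbit_level hC.1 hok.1 _).2 hq
      obtain ⟨hkH, hkF⟩ := mem_fixH.1 hk
      rw [List.nodup_cons] at hnd
      obtain ⟨h, hh, hhF, hhmap⟩ := ih (F ||| 2 ^ L.b) (g * k) qs hC.2 hok.2 hfull.2
        (H.mul_mem hg hkH) (hA _ (H.mul_mem hg hkH)) (by simpa using hlen) hnd.2
        (fun p hp => by
          refine ⟨(hy.2 p hp).1, fun hc => ?_⟩
          obtain ⟨r, hr, rfl⟩ := Finset.mem_smul_finset.1 hc
          rcases mem_dec_or.1 hr with hr | hr
          · refine (hy.2 _ hp).2 ?_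
            rw [show (g * k) • r = g • r by simp [Equiv.Perm.smul_def, hkF r hr]]
            exact Finset.smul_mem_smul_finset hr
          · refine hnd.1 ?_
            rw [(mem_dec_two_pow hb).1 hr] at hp
            simpa [Equiv.Perm.smul_def, hkb] using hp) hA
      refine ⟨h, hh, fun p hp => ?_, ?_⟩
      · rw [hhF p (mem_dec_or.2 (Or.inl hp))]; simp [hkF p hp]
      · rw [List.map_cons, hhmap, hhF _ (mem_dec_or.2 (Or.inr ((mem_dec_two_pow hb).2 rfl)))]
        simp [hkb]

/-- a stage of the triviality certificate: new points and the octads separating them -/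
def stagesOK : ℕ → List (List ℕ × List ℕ) → Bool
  | F, [] => F == fullMask
  | F, (ps, os) :: rest =>
    os.all (octFor F) && ps.all (fun p => decide (p < 24) && !F.testBit p && atom F os p == 2 ^ p)
      && stagesOK (ps.foldl (fun a p => a ||| 2 ^ p) F) rest

theorem eq_one_of_stages {g : Equiv.Perm GolayPt} (hg : g ∈ M24) :
    ∀ (St : List (List ℕ × List ℕ)) (F : ℕ), stagesOK F St = true → (∀ p ∈ dec F, g p = p) → g = 1 := by
  intro St
  induction St with
  | nil =>
    intro F h hF
    simp only [stagesOK, beq_iff_eq] at h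
    subst h
    exact Equiv.ext fun p => hF p (by rw [dec_fullMask]; exact Finset.mem_univ p)
  | cons s rest ih =>
    obtain ⟨ps, os⟩ := s
    intro F h hF
    simp only [stagesOK, Bool.and_eq_true, List.all_eq_true, decide_eq_true_eq, Bool.not_eq_true',
      beq_iff_eq] at h
    obtain ⟨⟨hos, hps⟩, hrest⟩ := h
    refine ih _ hrest ?_
    have hfix : ∀ i ∈ ps, g (pt i) = pt i := by
      intro i hi
      obtain ⟨⟨hlt, hiF⟩, hat⟩ := hps i hi
      have := mem_atom hF os (fun o ho => octFor_preserved hg (hos o ho) hF)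
        (p := pt i) (by simp [mem_dec, idx_pt _ hlt, hiF])
      rw [idx_pt _ hlt, hat, mem_dec_two_pow hlt] at this
      exact this
    have hlt : ∀ i ∈ ps, i < 24 := fun i hi => (hps i hi).1.1
    clear hps hrest hos
    induction ps generalizing F with
    | nil => exact hF
    | cons i is ihi =>
      simp only [List.mem_cons, forall_eq_or_imp] at hfix hlt
      rw [List.foldl_cons]
      refine ihi _ (fun p hp => ?_) hfix.2 hlt.2
      rcases mem_dec_or.1 hp with hp | hp
      · exact hF p hp
      · rw [(mem_dec_two_pow hlt.1).1 hp]; exact hfix.1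

theorem fixH_eq_bot_of_stages {H : Subgroup (Equiv.Perm GolayPt)} (hH : H ≤ M24) {F : ℕ}
    {St : List (List ℕ × List ℕ)} (h : stagesOK F St = true) : fixH H F = ⊥ := by
  rw [Subgroup.eq_bot_iff_forall]
  intro g hg
  exact eq_one_of_stages (hH (mem_fixH.1 hg).1) St F h (mem_fixH.1 hg).2

/-- check of a straight-line program over a list of already available elements -/
def slpOK : List ℕ → List (ℕ × ℕ × ℕ) → Bool
  | _, [] => true
  | vals, (i, j, P) :: rest =>
    decide (i < vals.length) && decide (j < vals.length) && P == mulP (vals.getD i 0) (vals.getD j 0)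
      && slpOK (vals ++ [P]) rest

theorem slp_mem {H : Subgroup (Equiv.Perm GolayPt)} :
    ∀ (prog : List (ℕ × ℕ × ℕ)) (vals : List ℕ), slpOK vals prog = true →
      (∀ P ∈ vals, validP P = true ∧ toPerm P ∈ H) →
      ∀ P ∈ vals ++ prog.map (fun t => t.2.2), validP P = true ∧ toPerm P ∈ H := by
  intro prog
  induction prog with
  | nil => intro vals _ h; simpa using h
  | cons t rest ih =>
    obtain ⟨i, j, P⟩ := t
    intro vals hok h
    simp only [slpOK, Bool.and_eq_true, decide_eq_true_eq, beq_iff_eq] at hok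
    obtain ⟨⟨⟨hi, hj⟩, hP⟩, hrest⟩ := hok
    have hi' : vals.getD i 0 ∈ vals := by
      rw [List.getD_eq_getElem?_getD, List.getElem?_eq_getElem hi]; exact List.getElem_mem hi
    have hj' : vals.getD j 0 ∈ vals := by
      rw [List.getD_eq_getElem?_getD, List.getElem?_eq_getElem hj]; exact List.getElem_mem hj
    have h' : ∀ Q ∈ vals ++ [P], validP Q = true ∧ toPerm Q ∈ H := by
      intro Q hQ
      rcases List.mem_append.1 hQ with hQ | hQ
      · exact h Q hQ
      · rw [List.mem_singleton.1 hQ, hP]
        exact ⟨validP_mulP (h _ hi').1 (h _ hj').1, by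
          rw [toPerm_mulP (h _ hi').1 (h _ hj').1]; exact H.mul_mem (h _ hi').2 (h _ hj').2⟩
    intro Q hQ
    exact ih (vals ++ [P]) hrest h' Q (by simpa using hQ)

end CfsgLib.Golay
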