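import Cfsg.Agent.Lib.Golay.Chain

/-!
Certified enumeration of the elements carrying one packed permutation to another by conjugation.
-/

set_option autoImplicit false

namespace CfsgLib.Golay

open Cfsg
open scoped Pointwise

/-- iterated image of a position -/
def apN (x : ℕ) : ℕ → ℕ → ℕ
  | 0, c => c
  | k + 1, c => ap x (apN x k c)

/-- packing of a list of images -/
def packList : List ℕ → ℕ
  | [] => 0
  | a :: as => a + 32 * packList as

theorem ap_packList : ∀ (l : List ℕ) (i : ℕ), (∀ a ∈ l, a < 32) → i < l.length →
    ap (packList l) i = l.getD i 0 := by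
  intro l
  induction l with
  | nil => intro i _ h; simp at h
  | cons a as ih =>
    intro i hl hi
    simp only [List.mem_cons, forall_eq_or_imp] at hl
    cases i with
    | zero => rw [packList, ap_zero, Nat.add_mul_mod_self_left, Nat.mod_eq_of_lt hl.1]; rfl
    | succ i =>
      rw [packList, ap_succ, Nat.add_mul_div_left _ _ (by norm_num : 0 < 32),
        Nat.div_eq_of_lt hl.1, zero_add, ih i hl.2 (by simpa using hi), List.getD_cons_succ]

theorem validP_of_eq {P : ℕ} (g : Equiv.Perm GolayPt) (hg : ∀ p, idx (g p) = ap P (idx p)) :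
    validP P = true := by
  have hap : ∀ i, i < 24 → ap P i = idx (g (pt i)) := fun i hi => by rw [hg, idx_pt i hi]
  simp only [validP, Bool.and_eq_true, List.all_eq_true, List.mem_range, decide_eq_true_eq,
    beq_iff_eq]
  refine ⟨fun i hi => by rw [hap i hi]; exact idx_lt _, ?_⟩
  apply Nat.eq_of_testBit_eq
  intro j
  rw [show (16777215 : ℕ) = 2 ^ 24 - 1 from rfl, Nat.testBit_two_pow_sub_one, Bool.eq_iff_iff,
    decide_eq_true_eq, mimg, testBit_mimgAux]
  constructor
  · rintro ⟨i, hi, -, rfl⟩; rw [hap i hi]; exact idx_lt _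
  · intro hj
    refine ⟨idx (g.symm (pt j)), idx_lt _, ?_, ?_⟩
    · rw [Nat.testBit_two_pow_sub_one]; simpa using idx_lt _
    · rw [hap _ (idx_lt _), pt_idx, g.apply_symm_apply, idx_pt j hj]

theorem inM24_of_mem {P : ℕ} (hv : validP P = true) (h : toPerm P ∈ M24) : inM24 P = true := by
  simp only [inM24, hv, Bool.true_and, List.all_eq_true]
  intro r hr
  have hr' : dec r ∈ supports (golayCode : Set (GolayPt → ZMod 2)) :=
    ⟨wd r, rows_mem r hr, support_wd r⟩
  have := smul_mem_supports h hr'
  rw [smul_dec hv] at this
  exact (dec_mem_supports_iff (mimg_lt hv r)).1 this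

/-- powers of a packed permutation -/
def powP (x : ℕ) : ℕ → ℕ
  | 0 => packList (List.range 24)
  | k + 1 => mulP x (powP x k)

theorem toPerm_powP {x : ℕ} (hx : validP x = true) :
    ∀ k, validP (powP x k) = true ∧ toPerm (powP x k) = toPerm x ^ k := by
  intro k
  induction k with
  | zero =>
    have h1 : ∀ p : GolayPt, idx ((1 : Equiv.Perm GolayPt) p) = ap (powP x 0) (idx p) := by
      intro p
      rw [Equiv.Perm.one_apply, powP, ap_packList _ _ (fun a ha => by
        have := List.mem_range.1 ha; omega) (by simpa using idx_lt p)]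
      simp [idx_lt p]
    exact ⟨validP_of_eq _ h1, by rw [pow_zero]; exact (eq_toPerm (validP_of_eq _ h1) _ h1).symm⟩
  | succ k ih =>
    exact ⟨validP_mulP hx ih.1, by rw [powP, toPerm_mulP hx ih.1, ih.2, pow_succ']⟩

/-- all choices from a list of lists -/
def choices : List (List ℕ) → List (List ℕ)
  | [] => [[]]
  | l :: ls => l.flatMap fun a => (choices ls).map fun as => a :: as

theorem mem_choices : ∀ (ls : List (List ℕ)) (cs : List ℕ), List.Forall₂ (fun c l => c ∈ l) cs ls →
    cs ∈ choices ls := by
  intro ls
  induction ls with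
  | nil => intro cs h; cases h; simp [choices]
  | cons l ls ih =>
    intro cs h
    cases h with
    | cons h1 h2 => exact List.mem_flatMap.2 ⟨_, h1, List.mem_map.2 ⟨_, ih _ h2, rfl⟩⟩

/-- possible images of `r` under an element fixing `F` and the sets of `inv` -/
def candImgs (F : ℕ) (inv : List ℕ) (x y r : ℕ) : List ℕ :=
  if F.testBit r then [r]
  else (List.range 24).filter fun c => (atom F inv r).testBit c && ((ap y c == c) == (ap x r == r))

/-- the permutation determined by the images `cs` of the representatives -/
def candP (y : ℕ) (dom : List (ℕ × ℕ)) (cs : List ℕ) : ℕ :=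
  packList (dom.map fun t => apN y t.2 (cs.getD t.1 0))

/-- data check: `dom` writes every position as an image of a representative under a power of `x` -/
def domOK (x : ℕ) (reps : List ℕ) (dom : List (ℕ × ℕ)) : Bool :=
  validP x && reps.all (fun r => decide (r < 24)) &&
    dom.map (fun t => apN x t.2 (reps.getD t.1 0)) == List.range 24 &&
    dom.all (fun t => decide (t.1 < reps.length))

/-- every element fixing `F` pointwise and `inv` setwise that conjugates `x` to `y` is in `ok` -/
def conjOK (F : ℕ) (inv : List ℕ) (x y : ℕ) (reps : List ℕ) (dom : List (ℕ × ℕ)) (ok : List ℕ) :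
    Bool :=
  domOK x reps dom && validP y && (choices (reps.map (candImgs F inv x y))).all fun cs =>
    let P := candP y dom cs
    ok.contains P || !(inv.all (fun o => mimg P o == o) && fixes P F && inM24 P)

theorem eq_of_conjOK {H : Subgroup (Equiv.Perm GolayPt)} {F : ℕ} {inv : List ℕ} {x y : ℕ}
    {reps : List ℕ} {dom : List (ℕ × ℕ)} {ok : List ℕ} (hH : H ≤ M24)
    (hpres : ∀ o ∈ inv, o < 2 ^ 24 ∧ ∀ g ∈ H, g • dec o = dec o)
    (hok : conjOK F inv x y reps dom ok = true) {g : Equiv.Perm GolayPt} (hg : g ∈ fixH H F)
    (hconj : g * toPerm x = toPerm y * g) : ∃ P ∈ ok, g = toPerm P := by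
  simp only [conjOK, domOK, Bool.and_eq_true, List.all_eq_true, decide_eq_true_eq,
    beq_iff_eq] at hok
  obtain ⟨⟨⟨⟨⟨hvx, hreps⟩, hdom⟩, hdomlt⟩, hvy⟩, hall⟩ := hok
  obtain ⟨hgH, hgF⟩ := mem_fixH.1 hg
  have hstep : ∀ p, g (toPerm x p) = toPerm y (g p) := fun p => Equiv.ext_iff.1 hconj p
  have hiter : ∀ k r, r < 24 → apN x k r < 24 ∧ idx (g (pt (apN x k r))) = apN y k (idx (g (pt r))) := by
    intro k r hr
    induction k with
    | zero => exact ⟨hr, rfl⟩
    | succ k ih =>
      refine ⟨validP_lt hvx ih.1, ?_⟩
      show idx (g (pt (ap x (apN x k r)))) = ap y (apN y k (idx (g (pt r))))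
      have h1 : toPerm x (pt (apN x k r)) = pt (ap x (apN x k r)) := by
        rw [toPerm_apply hvx, idx_pt _ ih.1]
      rw [← h1, hstep, idx_toPerm hvy, ih.2]
  set cs := reps.map (fun r => idx (g (pt r))) with hcs
  have hcand : cs ∈ choices (reps.map (candImgs F inv x y)) := by
    apply mem_choices
    rw [hcs, List.forall₂_map_left_iff, List.forall₂_map_right_iff, List.forall₂_same]
    intro r hr
    unfold candImgs
    split
    · next hb =>
      have : pt r ∈ dec F := by rw [mem_dec, idx_pt r (hreps r hr)]; exact hb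
      simp [hgF _ this, idx_pt r (hreps r hr)]
    · next hb =>
      rw [List.mem_filter]
      refine ⟨List.mem_range.2 (idx_lt _), ?_⟩
      rw [Bool.and_eq_true]
      constructor
      · have := mem_atom hgF inv (fun o ho => (hpres o ho).2 g hgH) (p := pt r)
          (by rw [mem_dec, idx_pt r (hreps r hr)]; exact hb)
        rwa [mem_dec, idx_pt r (hreps r hr)] at this
      · rw [beq_iff_eq, Bool.eq_iff_iff, beq_iff_eq, beq_iff_eq]
        have h1 : idx (g (pt (ap x r))) = ap y (idx (g (pt r))) := (hiter 1 r (hreps r hr)).2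
        rw [← h1]
        constructor
        · intro h
          exact pt_injOn (validP_lt hvx (hreps r hr)) (hreps r hr)
            (g.injective (idx_injective h))
        · intro h; rw [h]
  have key : ∀ p, idx (g p) = ap (candP y dom cs) (idx p) := by
    intro p
    have hi : idx p < dom.length := by
      have := congrArg List.length hdom
      simp only [List.length_map, List.length_range] at this
      rw [this]; exact idx_lt p
    have hlt : ∀ a ∈ dom.map (fun t => apN y t.2 (cs.getD t.1 0)), a < 32 := by
      intro a ha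
      obtain ⟨t, ht, rfl⟩ := List.mem_map.1 ha
      have ht1 := hdomlt t ht
      have : cs.getD t.1 0 = idx (g (pt (reps.getD t.1 0))) := by
        simp [hcs, List.getD_eq_getElem?_getD, List.getElem?_eq_getElem ht1]
      rw [this, ← (hiter t.2 _ (hreps _ (by
        rw [List.getD_eq_getElem?_getD, List.getElem?_eq_getElem ht1]; exact List.getElem_mem ht1))).2]
      have := idx_lt (g (pt (apN x t.2 (reps.getD t.1 0))))
      omega
    rw [candP, ap_packList _ _ hlt (by simpa using hi)]
    have ht1 := hdomlt _ (List.getElem_mem hi)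
    have hp : apN x (dom[idx p]).2 (reps.getD (dom[idx p]).1 0) = idx p := by
      have := congrArg (fun l => l.getD (idx p) 0) hdom
      simpa [List.getD_eq_getElem?_getD, List.getElem?_eq_getElem hi, idx_lt p] using this
    have hr : reps.getD (dom[idx p]).1 0 < 24 := hreps _ (by
      rw [List.getD_eq_getElem?_getD, List.getElem?_eq_getElem ht1]; exact List.getElem_mem ht1)
    have := (hiter (dom[idx p]).2 _ hr).2
    rw [hp, pt_idx] at this
    rw [this]
    simp [List.getD_eq_getElem?_getD, List.getElem?_eq_getElem hi, hcs,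
      List.getElem?_eq_getElem ht1]
  have hvP := validP_of_eq g key
  have hgP : g = toPerm (candP y dom cs) := eq_toPerm hvP g key
  refine ⟨candP y dom cs, ?_, hgP⟩
  have := hall cs hcand
  simp only [Bool.or_eq_true, List.contains_iff_mem, Bool.not_eq_true', Bool.and_eq_false_iff] at this
  rcases this with h | ((h | h) | h)
  · exact h
  · refine absurd h (Bool.eq_false_iff.not.2 (not_not.2 ?_))
    rw [List.all_eq_true]
    intro o ho
    rw [beq_iff_eq]
    exact dec_inj (mimg_lt hvP o) (hpres o ho).1 (by rw [← smul_dec hvP, ← hgP]; exact (hpres o ho).2 g hgH)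
  · refine absurd h (Bool.eq_false_iff.not.2 (not_not.2 ?_))
    rw [fixes, List.all_eq_true]
    intro i hi
    rw [List.mem_range] at hi
    by_cases hb : F.testBit i = true
    · have hm : pt i ∈ dec F := by rw [mem_dec, idx_pt i hi]; exact hb
      have := key (pt i)
      rw [hgF _ hm, idx_pt i hi] at this
      simp [← this]
    · simp [hb]
  · rw [inM24_of_mem hvP (hgP ▸ hH hgH)] at h
    exact absurd h (by simp)

end CfsgLib.Golay
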