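import Cfsg.Prelude.Def_Sporadic_a
import Mathlib

/-!
Bitmask model of the length-24 binary code `Cfsg.golayCode`: position `x : ZMod 23` is bit `x.val`,
the extra point is bit 23.  The twelve low bits of a codeword determine it.
-/

set_option autoImplicit false

namespace CfsgLib.Golay

open Cfsg
open scoped Pointwise

/-- bit position of a point -/
def idx : GolayPt → ℕ
  | none => 23
  | some x => x.val

/-- point at a bit position -/
def pt (i : ℕ) : GolayPt := if i = 23 then none else some (i : ZMod 23)

theorem idx_lt (p : GolayPt) : idx p < 24 := by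
  cases p with
  | none => simp [idx]
  | some x => have := ZMod.val_lt x; simp only [idx]; omega

theorem pt_idx (p : GolayPt) : pt (idx p) = p := by revert p; decide +kernel

theorem idx_pt (i : ℕ) (h : i < 24) : idx (pt i) = i := by revert i; decide +kernel

theorem idx_injective : Function.Injective idx := Function.LeftInverse.injective pt_idx

theorem pt_injOn {i j : ℕ} (hi : i < 24) (hj : j < 24) (h : pt i = pt j) : i = j := by
  rw [← idx_pt i hi, h, idx_pt j hj]

/-- the set of points of a mask -/
def dec (m : ℕ) : Finset GolayPt := Finset.univ.filter fun p => m.testBit (idx p)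

/-- the word of a mask -/
def wd (m : ℕ) (p : GolayPt) : ZMod 2 := if m.testBit (idx p) then 1 else 0

@[simp] theorem mem_dec {m : ℕ} {p : GolayPt} : p ∈ dec m ↔ m.testBit (idx p) = true := by simp [dec]

theorem wd_eq_one_iff {m : ℕ} {p : GolayPt} : wd m p ≠ 0 ↔ m.testBit (idx p) = true := by
  unfold wd; split <;> simp_all

theorem support_wd (m : ℕ) : support₂ (wd m) = dec m := by
  ext p; simp [support₂, wd_eq_one_iff]

theorem wd_xor (m n : ℕ) : wd (m ^^^ n) = wd m + wd n := by
  funext p
  simp only [wd, Pi.add_apply, Nat.testBit_xor]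
  rcases m.testBit (idx p) <;> rcases n.testBit (idx p) <;> decide

theorem wd_zero : wd 0 = 0 := by funext p; simp [wd]

theorem dec_inj {m n : ℕ} (hm : m < 2 ^ 24) (hn : n < 2 ^ 24) (h : dec m = dec n) : m = n := by
  apply Nat.eq_of_testBit_eq
  intro i
  by_cases hi : i < 24
  · have := congrArg (fun s : Finset GolayPt => decide (pt i ∈ s)) h
    simpa [idx_pt i hi] using this
  · have hle : 2 ^ 24 ≤ 2 ^ i := Nat.pow_le_pow_right (by norm_num) (by omega)
    rw [Nat.testBit_lt_two_pow (lt_of_lt_of_le hm hle), Nat.testBit_lt_two_pow (lt_of_lt_of_le hn hle)]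

theorem exists_mask (s : Finset GolayPt) : ∃ m, m < 2 ^ 24 ∧ dec m = s := by
  induction s using Finset.induction_on with
  | empty => exact ⟨0, by norm_num, by ext; simp⟩
  | insert a s _ ih =>
    obtain ⟨m, hm, rfl⟩ := ih
    refine ⟨m ||| 2 ^ idx a, Nat.or_lt_two_pow hm (Nat.pow_lt_pow_right (by norm_num) (idx_lt a)), ?_⟩
    ext p
    simp only [mem_dec, Nat.testBit_or, Nat.testBit_two_pow, Bool.or_eq_true, decide_eq_true_eq,
      Finset.mem_insert]
    rw [or_comm, idx_injective.eq_iff, eq_comm]

theorem exists_mask_word (w : GolayPt → ZMod 2) : ∃ m, m < 2 ^ 24 ∧ wd m = w := by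
  obtain ⟨m, hm, h⟩ := exists_mask (support₂ w)
  refine ⟨m, hm, funext fun p => ?_⟩
  have h1 := Finset.ext_iff.1 h p
  simp only [mem_dec, support₂, Finset.mem_filter, Finset.mem_univ, true_and] at h1
  unfold wd
  revert h1
  generalize w p = v
  rcases m.testBit (idx p) <;> revert v <;> decide

theorem wd_inj {m n : ℕ} (hm : m < 2 ^ 24) (hn : n < 2 ^ 24) (h : wd m = wd n) : m = n :=
  dec_inj hm hn (by rw [← support_wd, ← support_wd, h])

/-- systematic basis of the code -/
def rows : List ℕ := [13062145, 4845570, 13938692, 7221256, 10170384, 11952160, 15515712, 2019456,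
  4038912, 8077824, 11654144, 14919680]

/-- the combination of a list of masks given by the low bits of `m` -/
def comb : List ℕ → ℕ → ℕ
  | [], _ => 0
  | r :: rs, m => (if m % 2 = 1 then r else 0) ^^^ comb rs (m / 2)

theorem comb_xor (l : List ℕ) (m n : ℕ) : comb l (m ^^^ n) = comb l m ^^^ comb l n := by
  induction l generalizing m n with
  | nil => simp [comb]
  | cons r rs ih =>
    have h2 : (m ^^^ n) / 2 = m / 2 ^^^ n / 2 := Nat.xor_div_two
    have h1 : (m ^^^ n) % 2 = 1 ↔ ¬(m % 2 = 1 ↔ n % 2 = 1) := by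
      have := Nat.testBit_xor m n 0
      simp only [Nat.testBit_zero] at this
      by_cases a : m % 2 = 1 <;> by_cases b : n % 2 = 1 <;> simp_all
    simp only [comb, h2, ih]
    by_cases a : m % 2 = 1 <;> by_cases b : n % 2 = 1 <;>
      simp_all [Nat.xor_assoc, Nat.xor_comm, Nat.xor_left_comm]

/-- membership of a mask in the code -/
def inC (m : ℕ) : Bool := comb rows m == m

theorem inC_xor {m n : ℕ} (hm : inC m = true) (hn : inC n = true) : inC (m ^^^ n) = true := by
  simp only [inC, beq_iff_eq] at *
  rw [comb_xor, hm, hn]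

/-- the masks of the translates of the squares and of the all-ones word -/
def gensMasks : List ℕ := [340831, 681662, 1363324, 2726648, 5453296, 2517985, 5035970, 1683333,
  3366666, 6733332, 5078057, 1767507, 3535014, 7070028, 5751449, 3114291, 6228582, 4068557, 8137114,
  7885621, 7382635, 6376663, 4364719, 16777215]

theorem qrWord_eq (t : ZMod 23) : qrWord t = wd (gensMasks[t.val]!) := by
  revert t; decide +kernel

theorem one_eq : (1 : GolayPt → ZMod 2) = wd (gensMasks[23]!) := by decide +kernel

theorem wd_mask_mem_gens (i : ℕ) : wd (gensMasks[i]!) ∈ golayCode := by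
  by_cases h : i < 23
  · have := qrWord_eq (i : ZMod 23)
    rw [ZMod.val_natCast_of_lt h] at this
    rw [← this]; exact Submodule.subset_span (Or.inl ⟨_, rfl⟩)
  · by_cases h' : i = 23
    · subst h'; rw [← one_eq]; exact Submodule.subset_span (Or.inr rfl)
    · have hlen : gensMasks.length ≤ i := by simp only [gensMasks, List.length]; omega
      simp [hlen, wd_zero, show (default : ℕ) = 0 from rfl]

theorem wd_comb_mem (l : List ℕ) (h : ∀ r ∈ l, wd r ∈ golayCode) (m : ℕ) :
    wd (comb l m) ∈ golayCode := by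
  induction l generalizing m with
  | nil => simp [comb, wd_zero]
  | cons r rs ih =>
    simp only [List.mem_cons, forall_eq_or_imp] at h
    rw [comb, wd_xor]
    refine add_mem ?_ (ih h.2 _)
    split
    · exact h.1
    · simp [wd_zero]

theorem rows_mem : ∀ r ∈ rows, wd r ∈ golayCode := by
  have key : ∀ r ∈ rows, ∃ c ∈ [8390313, 280, 8389785, 1400, 8390330, 8390551, 8390093, 2000, 1347,
      101, 8390243, 8390181], comb gensMasks c = r := by decide +kernel
  intro r hr
  obtain ⟨c, _, rfl⟩ := key r hr
  refine wd_comb_mem _ (fun g hg => ?_) c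
  obtain ⟨i, hi, rfl⟩ := List.getElem_of_mem hg
  have := wd_mask_mem_gens i
  rwa [getElem!_pos gensMasks i hi] at this

theorem wd_mem_of_inC {m : ℕ} (h : inC m = true) : wd m ∈ golayCode := by
  simp only [inC, beq_iff_eq] at h
  rw [← h]; exact wd_comb_mem _ rows_mem m

theorem gens_inC : ∀ g ∈ gensMasks, inC g = true := by decide +kernel

/-- the code, as the set of words of its masks -/
theorem mem_golayCode {w : GolayPt → ZMod 2} :
    w ∈ golayCode ↔ ∃ m, m < 2 ^ 24 ∧ inC m = true ∧ wd m = w := by
  constructor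
  · intro hw
    refine Submodule.span_induction
      (p := fun w _ => ∃ m, m < 2 ^ 24 ∧ inC m = true ∧ wd m = w) ?_ ?_ ?_ ?_ hw
    · rintro x (⟨t, rfl⟩ | rfl)
      · refine ⟨gensMasks[t.val]!, ?_, ?_, (qrWord_eq t).symm⟩
        · revert t; decide +kernel
        · revert t; decide +kernel
      · exact ⟨gensMasks[23]!, by decide, by decide +kernel, one_eq.symm⟩
    · exact ⟨0, by norm_num, by decide, wd_zero⟩
    · rintro x y _ _ ⟨m, hm, hmc, rfl⟩ ⟨n, hn, hnc, rfl⟩
      exact ⟨m ^^^ n, Nat.xor_lt_two_pow hm hn, inC_xor hmc hnc, wd_xor m n⟩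
    · rintro c x _ hx
      have hc : c = 0 ∨ c = 1 := by revert c; decide
      rcases hc with rfl | rfl
      · exact ⟨0, by norm_num, by decide, by simp [wd_zero]⟩
      · simpa using hx
  · rintro ⟨m, -, hc, rfl⟩; exact wd_mem_of_inC hc

theorem wd_mem_iff {m : ℕ} (hm : m < 2 ^ 24) : wd m ∈ golayCode ↔ inC m = true := by
  refine ⟨fun h => ?_, wd_mem_of_inC⟩
  obtain ⟨n, hn, hc, he⟩ := mem_golayCode.1 h
  rwa [← wd_inj hn hm he]

theorem mem_supports {s : Finset GolayPt} :
    s ∈ supports (golayCode : Set (GolayPt → ZMod 2)) ↔ ∃ m, m < 2 ^ 24 ∧ inC m = true ∧ dec m = s := by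
  constructor
  · rintro ⟨w, hw, rfl⟩
    obtain ⟨m, hm, hc, rfl⟩ := mem_golayCode.1 hw
    exact ⟨m, hm, hc, (support_wd m).symm⟩
  · rintro ⟨m, -, hc, rfl⟩; exact ⟨wd m, wd_mem_of_inC hc, support_wd m⟩

theorem dec_mem_supports_iff {m : ℕ} (hm : m < 2 ^ 24) :
    dec m ∈ supports (golayCode : Set (GolayPt → ZMod 2)) ↔ inC m = true := by
  refine ⟨fun h => ?_, fun h => mem_supports.2 ⟨m, hm, h, rfl⟩⟩
  obtain ⟨n, hn, hc, he⟩ := mem_supports.1 h
  rwa [← dec_inj hn hm he]

/-- number of points in a mask -/
def pop : ℕ → ℕ → ℕ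
  | 0, _ => 0
  | k + 1, m => m % 2 + pop k (m / 2)

/-- the 4096 codewords -/
def codeList : List ℕ := (List.range 4096).map (comb rows)

theorem inC_iff_mem_codeList {m : ℕ} : inC m = true ↔ m ∈ codeList := by
  have hall' : ∀ (l : List ℕ), (∀ r ∈ l, inC r = true) → ∀ i, inC (comb l i) = true := by
    intro l
    induction l with
    | nil => intro _ i; simp only [comb]; decide +kernel
    | cons r rs ih =>
      intro h i
      simp only [List.mem_cons, forall_eq_or_imp] at h
      rw [comb]
      refine inC_xor ?_ (ih h.2 _)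
      split
      · exact h.1
      · decide +kernel
  have hall : ∀ i, inC (comb rows i) = true := hall' rows (by decide +kernel)
  have hcomb : ∀ (l : List ℕ) (a : ℕ), comb l a = comb l (a % 2 ^ l.length) := by
    intro l
    induction l with
    | nil => simp [comb]
    | cons r rs ih =>
      intro a
      simp only [comb, List.length_cons]
      rw [ih (a / 2), ih ((a % 2 ^ (rs.length + 1)) / 2)]
      have h1 : a % 2 ^ (rs.length + 1) % 2 = a % 2 :=
        Nat.mod_mod_of_dvd _ (dvd_pow_self 2 (by omega))
      have h2 : (a % 2 ^ (rs.length + 1)) / 2 % 2 ^ rs.length = a / 2 % 2 ^ rs.length := by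
        rw [pow_succ', Nat.mod_mul_right_div_self, Nat.mod_mod]
      simp only [h1, h2]
  constructor
  · intro h
    simp only [inC, beq_iff_eq] at h
    refine List.mem_map.2 ⟨m % 4096, List.mem_range.2 (Nat.mod_lt _ (by norm_num)), ?_⟩
    rw [show (4096 : ℕ) = 2 ^ rows.length from rfl, ← hcomb, h]
  · intro h
    obtain ⟨i, hi, rfl⟩ := List.mem_map.1 h
    exact hall i

theorem card_dec {m : ℕ} : (dec m).card = (List.range 24).countP fun i => m.testBit i := by
  rw [List.countP_eq_length_filter]
  rw [← List.toFinset_card_of_nodup (List.Nodup.filter _ List.nodup_range)]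
  refine Finset.card_bij (fun p _ => idx p) (fun p hp => ?_) (fun a _ b _ h => idx_injective h)
    (fun i hi => ⟨pt i, ?_⟩)
  · simp [mem_dec.1 hp, idx_lt p]
  · simp only [List.mem_toFinset, List.mem_filter, List.mem_range] at hi
    exact ⟨by simp [idx_pt i hi.1, hi.2], idx_pt i hi.1⟩

theorem countP_testBit (k : ℕ) : ∀ m, (List.range k).countP (fun i => m.testBit i) = pop k m := by
  induction k with
  | zero => intro m; simp [pop]
  | succ k ih =>
    intro m
    rw [List.range_succ_eq_map, List.countP_cons, List.countP_map, pop, ← ih (m / 2)]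
    have hf : ((fun i => m.testBit i) ∘ Nat.succ) = fun i => (m / 2).testBit i := by
      funext i; simp [Nat.testBit_succ]
    rw [hf, Nat.testBit_zero]
    rcases Nat.mod_two_eq_zero_or_one m with h | h <;> simp [h, Nat.add_comm]

theorem card_dec_eq_pop (m : ℕ) : (dec m).card = pop 24 m := by rw [card_dec, countP_testBit]

end CfsgLib.Golay
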