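import Cfsg.Agent.Lib.Golay.OrbitFacts

/-!
Certificate for the invariant subspaces of the binary permutation module.
-/

set_option autoImplicit false

namespace CfsgLib.Golay.Invariant

open Cfsg CfsgLib.Golay

/-- no nonconstant codeword is fixed up to complementation by the stabilizer of a pair -/
theorem pair_chk : (gensT22.all fun P => inM24 P && fixes P F22) = true ∧
    (codeList.all fun m => m == 0 || m == fullMask ||
      gensT22.any fun P => mimg P m != m && mimg P m != m ^^^ fullMask) = true := by
  decide +kernel

end CfsgLib.Golay.Invariant
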