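import Cfsg.Agent.Lib.Golay.OrbitFacts
import Cfsg.Agent.Lib.Golay.MathieuFacts
import Cfsg.Agent.Lib.Golay.InvariantCert

/-!
The subspaces of the binary permutation module on 24 points invariant under the group of the code.
-/

set_option autoImplicit false
set_option linter.style.haveILetI false

namespace CfsgLib.Golay.Invariant

open Cfsg CfsgLib.Golay
open scoped Pointwise

/-- the translate of a word by a permutation -/
def act (σ : Equiv.Perm GolayPt) (w : GolayPt → ZMod 2) : GolayPt → ZMod 2 := fun p => w (σ.symm p)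

theorem act_add (σ : Equiv.Perm GolayPt) (v w : GolayPt → ZMod 2) :
    act σ (v + w) = act σ v + act σ w := rfl

theorem act_mul (σ τ : Equiv.Perm GolayPt) (w : GolayPt → ZMod 2) :
    act (σ * τ) w = act σ (act τ w) := rfl

theorem act_mem_code {σ : Equiv.Perm GolayPt} (hσ : σ ∈ M24) {w : GolayPt → ZMod 2}
    (hw : w ∈ golayCode) : act σ w ∈ golayCode := by
  obtain ⟨v, hv, he⟩ := smul_mem_supports hσ ⟨w, hw, rfl⟩
  rw [← support₂_comp_symm] at he
  unfold act
  rwa [← support₂_injective he]

theorem add_self (w : GolayPt → ZMod 2) : w + w = 0 := by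
  funext p; exact CharTwo.add_self_eq_zero (w p)

/-- the indicator word of a set -/
def ind (s : Finset GolayPt) : GolayPt → ZMod 2 := fun p => if p ∈ s then 1 else 0

theorem act_ind (σ : Equiv.Perm GolayPt) (s : Finset GolayPt) : act σ (ind s) = ind (σ • s) := by
  funext p
  show (if σ.symm p ∈ s then (1 : ZMod 2) else 0) = _
  have : p ∈ σ • s ↔ σ.symm p ∈ s := by
    rw [← Finset.inv_smul_mem_iff]; rfl
  simp [ind, this]

theorem ind_dec (m : ℕ) : ind (dec m) = wd m := by
  funext p
  unfold ind wd
  simp only [mem_dec]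

theorem ind_support (w : GolayPt → ZMod 2) : ind (support₂ w) = w := by
  funext p
  unfold ind support₂
  simp only [Finset.mem_filter, Finset.mem_univ, true_and]
  generalize w p = a; revert a; decide

theorem ind_symmDiff (s t : Finset GolayPt) : ind (symmDiff s t) = ind s + ind t := by
  funext p
  by_cases h : p ∈ s <;> by_cases h' : p ∈ t <;>
    simp [ind, Finset.mem_symmDiff, h, h', CharTwo.add_self_eq_zero]

theorem act_wd {P : ℕ} (hv : validP P = true) (m : ℕ) : act (toPerm P) (wd m) = wd (mimg P m) := by
  rw [← ind_dec, act_ind, smul_dec hv, ind_dec]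

theorem wd_full : wd fullMask = fun _ => 1 := by
  funext p
  simp [wd, testBit_fullMask, idx_lt p]

theorem one_mem_code : (fun _ : GolayPt => (1 : ZMod 2)) ∈ golayCode :=
  Submodule.subset_span (Or.inr rfl)

/-- Every word is congruent modulo the code to one of weight at most four. -/
theorem exists_small (s : Finset GolayPt) :
    ∃ r : Finset GolayPt, r.card ≤ 4 ∧ ind s + ind r ∈ golayCode := by
  induction h : s.card using Nat.strong_induction_on generalizing s with
  | _ n ih =>
    by_cases hn : n ≤ 4
    · exact ⟨s, h ▸ hn, by rw [add_self]; exact zero_mem _⟩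
    obtain ⟨t, hts, ht⟩ := Finset.exists_subset_card_eq (show 5 ≤ s.card by omega)
    obtain ⟨o, ⟨ho, hto⟩, -⟩ := octads_steiner.2 t ht
    have hlt : (symmDiff s o).card < n := by
      have h5 : 5 ≤ (s ∩ o).card := ht ▸ Finset.card_le_card (Finset.subset_inter hts hto)
      have h1 := Finset.card_sdiff_add_card_inter s o
      have h2 := Finset.card_sdiff_add_card_inter o s
      rw [Finset.inter_comm o s, ho.2] at h2
      have h3 : (symmDiff s o).card ≤ (s \ o).card + (o \ s).card := Finset.card_union_le _ _
      omega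
    obtain ⟨r, hr, hmem⟩ := ih _ hlt _ rfl
    refine ⟨r, hr, ?_⟩
    obtain ⟨⟨w, hw, hwo⟩, -⟩ := ho
    rw [ind_symmDiff, ← hwo, ind_support] at hmem
    have e : ind s + ind r = (ind s + w + ind r) + w := by
      rw [show ind s + w + ind r + w = ind s + ind r + (w + w) by abel, add_self, add_zero]
    rw [e]
    exact add_mem hmem hw

theorem mem_F22' {r : GolayPt} (h : r = pt 23 ∨ r = pt 0) : r ∈ dec F22 := by
  rw [show F22 = 2 ^ 23 ||| 2 ^ 0 from rfl, mem_dec_or, mem_dec_two_pow (by norm_num),
    mem_dec_two_pow (by norm_num)]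
  exact h

theorem wd_eq_of {m n : ℕ} (hm : m < 2 ^ 24) (hn : n < 2 ^ 24) (h : wd m = wd n) : m = n :=
  dec_inj hm hn (by rw [← support_wd, h, support_wd])

variable {W : Submodule (ZMod 2) (GolayPt → ZMod 2)}

/-- The property of being invariant under the group of the code. -/
def Inv (W : Submodule (ZMod 2) (GolayPt → ZMod 2)) : Prop :=
  ∀ σ ∈ M24, ∀ w ∈ W, act σ w ∈ W

theorem octad_of_diff {W : Submodule (ZMod 2) (GolayPt → ZMod 2)} (hW : Inv W) {m P : ℕ}
    (h : (inM24 P && inC (m ^^^ mimg P m) && pop 24 (m ^^^ mimg P m) == 8) = true)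
    (hm : wd m ∈ W) : ∃ o ∈ octads, ind o ∈ W := by
  simp only [Bool.and_eq_true, beq_iff_eq] at h
  obtain ⟨⟨hM, hC⟩, h8⟩ := h
  have hv : validP P = true := by simp only [inM24, Bool.and_eq_true] at hM; exact hM.1
  refine ⟨_, dec_mem_octads hC h8, ?_⟩
  rw [ind_dec, wd_xor, ← act_wd hv]
  exact add_mem hm (hW _ (toPerm_mem_M24 hM) _ hm)

/-- permutations moving a dodecad and the complement of an octad at distance eight -/
theorem diff_dod : (inM24 963760669645693030866671344004699542 &&
    inC (dod0 ^^^ mimg 963760669645693030866671344004699542 dod0) &&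
    pop 24 (dod0 ^^^ mimg 963760669645693030866671344004699542 dod0) == 8) = true := by
  decide +kernel

theorem diff_sixteen : (inM24 970332197157246789695388660682393632 &&
    inC ((oct0 ^^^ fullMask) ^^^ mimg 970332197157246789695388660682393632 (oct0 ^^^ fullMask)) &&
    pop 24 ((oct0 ^^^ fullMask) ^^^ mimg 970332197157246789695388660682393632 (oct0 ^^^ fullMask)) == 8) = true := by
  decide +kernel

theorem code_le_of_octad (hW : Inv W) {o : Finset GolayPt} (ho : o ∈ octads) (hmem : ind o ∈ W) :
    golayCode ≤ W := by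
  have hall : ∀ o' ∈ octads, ind o' ∈ W := by
    intro o' ho'
    obtain ⟨g, hg⟩ := octad_transitive ho ho'
    rw [← hg, Subgroup.smul_def, ← act_ind]
    exact hW _ g.2 _ hmem
  have hrow : ∀ r ∈ rows, wd r ∈ W := fun r hr => by
    rw [← ind_dec]
    exact hall _ (dec_mem_octads (rows_weight r hr).2 (rows_weight r hr).1)
  have hcomb : ∀ (l : List ℕ), (∀ r ∈ l, wd r ∈ W) → ∀ m, wd (comb l m) ∈ W := by
    intro l
    induction l with
    | nil => intro _ m; rw [show comb [] m = 0 from rfl, wd_zero]; exact zero_mem _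
    | cons r rs ih =>
      intro h m
      simp only [List.mem_cons, forall_eq_or_imp] at h
      rw [comb, wd_xor]
      refine add_mem ?_ (ih h.2 _)
      split
      · exact h.1
      · rw [wd_zero]; exact zero_mem _
  intro w hw
  obtain ⟨m, -, hc, rfl⟩ := mem_golayCode.1 hw
  rw [inC, beq_iff_eq] at hc
  rw [← hc]
  exact hcomb rows hrow m

/-- An invariant subspace containing a nonconstant codeword contains the code. -/
theorem code_le_of_mem (hW : Inv W) {w : GolayPt → ZMod 2} (hw : w ∈ W) (hc : w ∈ golayCode)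
    (h0 : w ≠ 0) (h1 : w ≠ fun _ => 1) : golayCode ≤ W := by
  have hs : support₂ w ∈ supports (golayCode : Set (GolayPt → ZMod 2)) := ⟨w, hc, rfl⟩
  have hfin : ∀ o ∈ octads, ind o ∈ W → golayCode ≤ W := fun o ho h => code_le_of_octad hW ho h
  rcases card_supports hs with h | h | h | h | h
  · refine absurd ?_ h0
    rw [← ind_support w, Finset.card_eq_zero.1 h]
    funext p; simp [ind]
  · exact hfin _ ⟨hs, h⟩ (by rwa [ind_support])
  · obtain ⟨g, hg⟩ := dodecad_transitive (d := support₂ w) ⟨hs, h⟩ dod0_mem
    have hm : wd dod0 ∈ W := by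
      rw [← ind_dec, ← hg, Subgroup.smul_def, ← act_ind, ind_support]
      exact hW _ g.2 _ hw
    obtain ⟨o, ho, hom⟩ := octad_of_diff hW diff_dod hm
    exact hfin o ho hom
  · have ho : (support₂ w)ᶜ ∈ octads := ⟨compl_mem_supports hs, by
      rw [Finset.card_compl, h]; rfl⟩
    obtain ⟨g, hg⟩ := octad_transitive ho oct0_mem
    have hm : wd (oct0 ^^^ fullMask) ∈ W := by
      have h2 : ind (((g : Equiv.Perm GolayPt)) • support₂ w) ∈ W := by
        rw [← act_ind, ind_support]; exact hW _ g.2 _ hw
      have h3 : dec (oct0 ^^^ fullMask) = (g : Equiv.Perm GolayPt) • support₂ w := by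
        rw [Subgroup.smul_def] at hg
        ext q
        have h4 := Finset.inv_smul_mem_iff (a := (g : Equiv.Perm GolayPt)) (b := q) (s := (support₂ w)ᶜ)
        rw [hg, Finset.mem_compl, Finset.inv_smul_mem_iff, mem_dec] at h4
        rw [mem_dec, Nat.testBit_xor, testBit_fullMask]
        by_cases hb : oct0.testBit (idx q) = true
        · simp [hb, idx_lt q, h4.2 hb]
        · rw [Bool.not_eq_true] at hb
          simp [hb, idx_lt q]
          by_contra hne
          exact absurd (h4.1 hne) (by simp [hb])
      rwa [← ind_dec, h3]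
    obtain ⟨o, ho', hom⟩ := octad_of_diff hW diff_sixteen hm
    exact hfin o ho' hom
  · refine absurd ?_ h1
    rw [← ind_support w, Finset.eq_univ_of_card _ (show (support₂ w).card = Fintype.card GolayPt from h)]
    funext p; simp [ind]

theorem ind_pair_mem_of_small {V : Submodule (ZMod 2) (GolayPt → ZMod 2)} (hV : Inv V)
    {r : Finset GolayPt} (hr : r.card ≤ 4) (hne : r.Nonempty) (hmem : ind r ∈ V) :
    ∃ p q : GolayPt, p ≠ q ∧ ind {p, q} ∈ V := by
  obtain ⟨p, hp⟩ := hne
  obtain ⟨q, hq⟩ : ∃ q, q ∉ r := by
    by_contra hno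
    push Not at hno
    have := Finset.card_le_card (fun x _ => hno x : Finset.univ ⊆ r)
    rw [Finset.card_univ, show Fintype.card GolayPt = 24 from rfl] at this
    omega
  haveI := five_pretransitive
  have hlt : r.card ≤ 5 := by omega
  haveI : MulAction.IsMultiplyPretransitive M24 GolayPt r.card :=
    MulAction.isMultiplyPretransitive_of_le (n := 5) hlt (by simp)
  let e := r.equivFin.symm
  let x : Fin r.card ↪ GolayPt := e.toEmbedding.trans (Function.Embedding.subtype _)
  have hy : Function.Injective fun i => if (e i : GolayPt) = p then q else (e i : GolayPt) := by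
    intro i j hij
    by_cases hi : (e i : GolayPt) = p <;> by_cases hj : (e j : GolayPt) = p
    · exact e.injective (Subtype.ext (hi.trans hj.symm))
    · simp only [if_pos hi, if_neg hj] at hij
      exact absurd (hij ▸ (e j).2) hq
    · simp only [if_neg hi, if_pos hj] at hij
      exact absurd (hij.symm ▸ (e i).2) hq
    · simp only [if_neg hi, if_neg hj] at hij
      exact e.injective (Subtype.ext hij)
  obtain ⟨g, hg⟩ := MulAction.exists_smul_eq M24 x ⟨_, hy⟩
  have himg : (g : Equiv.Perm GolayPt) • r = insert q (r.erase p) := by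
    refine Finset.eq_of_subset_of_card_le (fun z hz => ?_) ?_
    · obtain ⟨w, hw, rfl⟩ := Finset.mem_smul_finset.1 hz
      have h1 := DFunLike.congr_fun hg (r.equivFin ⟨w, hw⟩)
      simp only [Function.Embedding.smul_apply, x, e, Function.Embedding.trans_apply,
        Equiv.coe_toEmbedding, Equiv.symm_apply_apply, Function.Embedding.subtype_apply,
        Function.Embedding.coeFn_mk] at h1
      rw [show (g : Equiv.Perm GolayPt) • w = g • w from rfl, h1]
      split
      · exact Finset.mem_insert_self _ _
      · next h => exact Finset.mem_insert_of_mem (Finset.mem_erase.2 ⟨h, hw⟩)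
    · rw [Finset.card_smul_finset]
      refine (Finset.card_insert_le _ _).trans ?_
      rw [Finset.card_erase_of_mem hp]
      have := Finset.card_pos.2 ⟨p, hp⟩
      omega
  refine ⟨p, q, fun e => hq (e ▸ hp), ?_⟩
  have h2 : symmDiff r (insert q (r.erase p)) = {p, q} := by
    ext z
    simp only [Finset.mem_symmDiff, Finset.mem_insert, Finset.mem_erase, Finset.mem_singleton]
    by_cases hzp : z = p
    · subst hzp; simp [hp, show z ≠ q from fun e => hq (e ▸ hp)]
    · by_cases hzq : z = q
      · subst hzq; simp [hq]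
      · simp [hzp, hzq]
  rw [← h2, ind_symmDiff, ← himg, ← act_ind]
  exact add_mem hmem (hV _ g.2 _ hmem)

theorem all_pairs {V : Submodule (ZMod 2) (GolayPt → ZMod 2)} (hV : Inv V) {p q : GolayPt}
    (hpq : p ≠ q) (h : ind {p, q} ∈ V) {a b : GolayPt} (hab : a ≠ b) : ind {a, b} ∈ V := by
  obtain ⟨g, hg, g1, g2⟩ := exists_map_pair hpq
  obtain ⟨k, hk, k1, k2⟩ := exists_map_pair hab
  have hgk : k * g⁻¹ ∈ M24 := mul_mem hk (inv_mem hg)
  have hp : (k * g⁻¹) p = a := by rw [Equiv.Perm.mul_apply, ← g1]; simp [k1]
  have hq : (k * g⁻¹) q = b := by rw [Equiv.Perm.mul_apply, ← g2]; simp [k2]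
  have e : ({a, b} : Finset GolayPt) = (k * g⁻¹) • ({p, q} : Finset GolayPt) := by
    rw [Finset.smul_finset_insert, Finset.smul_finset_singleton, Equiv.Perm.smul_def,
      Equiv.Perm.smul_def, hp, hq]
  rw [e, ← act_ind]
  exact hV _ hgk _ h

theorem even_mem_of_pairs {V : Submodule (ZMod 2) (GolayPt → ZMod 2)}
    (h : ∀ a b : GolayPt, a ≠ b → ind {a, b} ∈ V) {w : GolayPt → ZMod 2} (hw : ∑ p, w p = 0) :
    w ∈ V := by
  have hkey : w = ∑ p, w p • ind ({p} : Finset GolayPt) + (∑ p, w p) • ind ({pt 0} : Finset GolayPt) := by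
    rw [hw, zero_smul, add_zero]
    funext q
    rw [Finset.sum_apply]
    simp [ind]
  rw [hkey, Finset.sum_smul, ← Finset.sum_add_distrib]
  refine sum_mem fun p _ => ?_
  rw [← smul_add]
  refine Submodule.smul_mem _ _ ?_
  by_cases hp : p = pt 0
  · rw [hp, add_self]; exact zero_mem _
  · rw [← ind_symmDiff, show symmDiff ({p} : Finset GolayPt) {pt 0} = {p, pt 0} by
      ext z
      simp only [Finset.mem_symmDiff, Finset.mem_singleton, Finset.mem_insert]
      by_cases hz : z = p
      · subst hz; simp [hp]
      · simp [hz]]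
    exact h p _ hp

theorem sum_code {w : GolayPt → ZMod 2} (hw : w ∈ golayCode) : ∑ p, w p = 0 := by
  have h := self_orthogonal one_mem_code hw
  simpa [dotProduct] using h

/-- The invariant subspaces. -/
theorem classify (hW : Inv W) :
    W = ⊥ ∨ W = Submodule.span (ZMod 2) {fun _ => 1} ∨ W = golayCode ∨
      (W : Set (GolayPt → ZMod 2)) = {w | ∑ p, w p = 0} ∨ W = ⊤ := by
  by_cases hsub : W ≤ golayCode
  · by_cases hc : ∀ w ∈ W, w = 0 ∨ w = fun _ => 1
    · by_cases h1 : (fun _ => (1 : ZMod 2)) ∈ W
      · refine Or.inr (Or.inl (le_antisymm (fun w hw => ?_) ?_))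
        · rcases hc w hw with rfl | rfl
          · exact zero_mem _
          · exact Submodule.mem_span_singleton_self _
        · rwa [Submodule.span_singleton_le_iff_mem]
      · refine Or.inl ((Submodule.eq_bot_iff _).2 fun w hw => (hc w hw).resolve_right fun e => h1 (e ▸ hw))
    · push Not at hc
      obtain ⟨w, hw, h0, h1⟩ := hc
      exact Or.inr (Or.inr (Or.inl (le_antisymm hsub (code_le_of_mem hW hw (hsub hw) h0 h1))))
  right; right; right
  -- a pair in the sum with the code
  obtain ⟨w, hw, hwC⟩ := Set.not_subset.1 hsub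
  have hinv : Inv (W ⊔ golayCode) := by
    intro σ hσ v hv
    obtain ⟨a, ha, b, hb, rfl⟩ := Submodule.mem_sup.1 hv
    rw [act_add]
    exact Submodule.add_mem_sup (hW σ hσ a ha) (act_mem_code hσ hb)
  obtain ⟨r, hr, hmem⟩ := exists_small (support₂ w)
  rw [ind_support] at hmem
  have hrne : r.Nonempty := by
    rw [Finset.nonempty_iff_ne_empty]
    rintro rfl
    refine hwC ?_
    have h0 : ind (∅ : Finset GolayPt) = 0 := by funext p; simp [ind]
    rwa [h0, add_zero] at hmem
  have hrV : ind r ∈ W ⊔ golayCode := by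
    rw [show ind r = w + (w + ind r) by rw [← add_assoc, add_self, zero_add]]
    exact Submodule.add_mem_sup hw hmem
  obtain ⟨p, q, hpq, hpqV⟩ := ind_pair_mem_of_small hinv hr hrne hrV
  have hbase : ind {pt 23, pt 0} ∈ W ⊔ golayCode := all_pairs hinv hpq hpqV (by decide +kernel)
  obtain ⟨a, ha, c, hc, hac⟩ := Submodule.mem_sup.1 hbase
  -- the code lies in the subspace or the pair does
  have hpairW : ∃ p q : GolayPt, p ≠ q ∧ ind {p, q} ∈ W := by
    by_cases hle : golayCode ≤ W
    · exact ⟨pt 23, pt 0, by decide +kernel, hac ▸ add_mem ha (hle hc)⟩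
    have hcases : c = 0 ∨ c = fun _ => 1 := by
      obtain ⟨m, hm, rfl⟩ := mem_golayCode_codeList.1 hc
      obtain ⟨hgens, hall⟩ := pair_chk
      have h := List.all_eq_true.1 hall m hm
      simp only [Bool.or_eq_true, beq_iff_eq, List.any_eq_true, Bool.and_eq_true, bne_iff_ne] at h
      rcases h with (h | h) | ⟨P, hP, h1, h2⟩
      · exact Or.inl (by rw [h, wd_zero])
      · exact Or.inr (by rw [h, wd_full])
      · exfalso
        have hPc := List.all_eq_true.1 hgens P hP
        rw [Bool.and_eq_true] at hPc
        have hv : validP P = true := by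
          have := hPc.1
          simp only [inM24, Bool.and_eq_true] at this
          exact this.1
        have hfixP : act (toPerm P) (ind {pt 23, pt 0}) = ind {pt 23, pt 0} := by
          rw [act_ind]
          refine congrArg ind ?_
          rw [Finset.smul_finset_insert, Finset.smul_finset_singleton, Equiv.Perm.smul_def,
            Equiv.Perm.smul_def, fixes_apply hv hPc.2 (mem_F22' (Or.inl rfl)),
            fixes_apply hv hPc.2 (mem_F22' (Or.inr rfl))]
        have hWmem : wd m + wd (mimg P m) ∈ W := by
          rw [← hac, act_add, act_wd hv] at hfixP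
          have h3 : wd m + wd (mimg P m) = a + act (toPerm P) a := by
            have h4 : a + wd m + (act (toPerm P) a + wd (mimg P m)) = 0 := by rw [hfixP, add_self]
            calc wd m + wd (mimg P m)
                = (a + wd m + (act (toPerm P) a + wd (mimg P m))) + (a + act (toPerm P) a) := by
                  rw [show a + wd m + (act (toPerm P) a + wd (mimg P m)) + (a + act (toPerm P) a) =
                    wd m + wd (mimg P m) + ((a + a) + (act (toPerm P) a + act (toPerm P) a)) by abel,
                    add_self, add_self, add_zero, add_zero]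
              _ = _ := by rw [h4, zero_add]
          rw [h3]
          exact add_mem ha (hW _ (toPerm_mem_M24 hPc.1) _ ha)
        refine hle (code_le_of_mem hW hWmem (add_mem hc ?_) ?_ ?_)
        · rw [← act_wd hv]; exact act_mem_code (toPerm_mem_M24 hPc.1) hc
        · intro h5
          rw [← wd_xor, ← wd_zero] at h5
          have h6 := wd_eq_of (Nat.xor_lt_two_pow (codeList_lt hm) (mimg_lt hv m)) (by norm_num) h5
          exact h1 (Nat.xor_eq_zero_iff.1 h6).symm
        · intro h5
          rw [← wd_xor, ← wd_full] at h5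
          have h6 := wd_eq_of (Nat.xor_lt_two_pow (codeList_lt hm) (mimg_lt hv m))
            (show fullMask < 2 ^ 24 by norm_num [fullMask]) h5
          apply h2
          rw [← h6, ← Nat.xor_assoc, Nat.xor_self, Nat.zero_xor]
    rcases hcases with rfl | rfl
    · exact ⟨pt 23, pt 0, by decide +kernel, by rw [← hac, add_zero]; exact ha⟩
    · -- two complements of pairs give a pair
      have haW : a = ind ({pt 23, pt 0} : Finset GolayPt) + fun _ => 1 := by
        rw [← hac, add_assoc, add_self, add_zero]
      obtain ⟨g, hg, g1, g2⟩ := exists_map_pair (p := pt 23) (q := pt 1) (by decide +kernel)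
      refine ⟨pt 0, pt 1, by decide +kernel, ?_⟩
      have himg : act g (ind ({pt 23, pt 0} : Finset GolayPt)) = ind {pt 23, pt 1} := by
        rw [act_ind, Finset.smul_finset_insert, Finset.smul_finset_singleton, Equiv.Perm.smul_def,
          Equiv.Perm.smul_def, g1, g2]
      have h4 := add_mem ha (hW g hg a ha)
      rw [haW, act_add, himg, show act g (fun _ => (1 : ZMod 2)) = fun _ => 1 from rfl] at h4
      rw [show ind ({pt 23, pt 0} : Finset GolayPt) + (fun _ => 1) + (ind {pt 23, pt 1} + fun _ => 1) =
        ind ({pt 23, pt 0} : Finset GolayPt) + ind {pt 23, pt 1} + ((fun _ => (1 : ZMod 2)) + fun _ => 1) by abel,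
        add_self, add_zero, ← ind_symmDiff] at h4
      rwa [show symmDiff ({pt 23, pt 0} : Finset GolayPt) {pt 23, pt 1} = {pt 0, pt 1} by decide +kernel] at h4
  obtain ⟨p', q', hne, hmemW⟩ := hpairW
  have heven : ∀ v : GolayPt → ZMod 2, ∑ x, v x = 0 → v ∈ W := fun v hv =>
    even_mem_of_pairs (fun x y hxy => all_pairs hW hne hmemW hxy) hv
  by_cases hodd : ∀ v ∈ W, ∑ x, v x = 0
  · exact Or.inl (Set.ext fun v => ⟨hodd v, heven v⟩)
  · push Not at hodd
    obtain ⟨v, hv, hv1⟩ := hodd
    refine Or.inr (eq_top_iff.2 fun u _ => ?_)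
    have hv1' : ∑ x, v x = 1 := by
      revert hv1; generalize ∑ x, v x = t; revert t; decide
    by_cases hu : ∑ x, u x = 0
    · exact heven u hu
    · have hu1 : ∑ x, u x = 1 := by
        revert hu; generalize ∑ x, u x = t; revert t; decide
      have : u + v ∈ W := heven _ (by simp [Finset.sum_add_distrib, hu1, hv1']; decide)
      rw [show u = (u + v) + v by rw [add_assoc, add_self, add_zero]]
      exact add_mem this hv

end CfsgLib.Golay.Invariant
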