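import Cfsg.Agent.Lib.Golay.CodeAutCert
import Cfsg.Agent.Lib.Golay.Invariant

/-!
A linear map of the code that keeps every orbit of the group of the code modulo the all-ones word is
induced by that group.
-/

set_option autoImplicit false

namespace CfsgLib.Golay.CodeAut

open Cfsg CfsgLib.Golay CfsgLib.Golay.Invariant
open scoped Pointwise

/-- the all-ones word -/
def one : GolayPt → ZMod 2 := fun _ => 1

/-- equality of words up to the all-ones word -/
def E (v w : GolayPt → ZMod 2) : Prop := v = w ∨ v = w + one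

theorem E.refl (v : GolayPt → ZMod 2) : E v v := Or.inl rfl

theorem E.symm {v w : GolayPt → ZMod 2} (h : E v w) : E w v := by
  rcases h with rfl | rfl
  · exact Or.inl rfl
  · exact Or.inr (by rw [add_assoc, add_self, add_zero])

theorem E.trans {u v w : GolayPt → ZMod 2} (h : E u v) (h' : E v w) : E u w := by
  rcases h with rfl | rfl <;> rcases h' with rfl | rfl
  · exact Or.inl rfl
  · exact Or.inr rfl
  · exact Or.inr rfl
  · exact Or.inl (by rw [add_assoc, add_self, add_zero])

theorem E.add {a b c d : GolayPt → ZMod 2} (h : E a b) (h' : E c d) : E (a + c) (b + d) := by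
  rcases h with rfl | rfl <;> rcases h' with rfl | rfl
  · exact Or.inl rfl
  · exact Or.inr (by rw [add_assoc])
  · exact Or.inr (by abel)
  · exact Or.inl (by rw [show b + one + (d + one) = b + d + (one + one) by abel, add_self, add_zero])

theorem E.act {v w : GolayPt → ZMod 2} (h : E v w) (σ : Equiv.Perm GolayPt) :
    E (Invariant.act σ v) (Invariant.act σ w) := by
  rcases h with rfl | rfl
  · exact Or.inl rfl
  · exact Or.inr rfl

theorem E_of_modEq {a b : ℕ} (h : modEq a b = true) : E (wd a) (wd b) := by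
  rw [modEq, Bool.or_eq_true, beq_iff_eq, beq_iff_eq] at h
  rcases h with rfl | rfl
  · exact Or.inl rfl
  · exact Or.inr (by rw [wd_xor, wd_full]; rfl)

/-- the weight up to complementation of a word -/
def clsW (w : GolayPt → ZMod 2) : ℕ := min (support₂ w).card (24 - (support₂ w).card)

theorem clsW_wd (m : ℕ) : clsW (wd m) = cls m := by
  rw [clsW, support_wd, card_dec_eq_pop]; rfl

theorem clsW_act (σ : Equiv.Perm GolayPt) (w : GolayPt → ZMod 2) : clsW (Invariant.act σ w) = clsW w := by
  unfold clsW
  have h : support₂ (Invariant.act σ w) = σ • support₂ w := support₂_comp_symm σ w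
  rw [h, Finset.card_smul_finset]

theorem clsW_eq_of_E {v w : GolayPt → ZMod 2} (h : E v w) : clsW v = clsW w := by
  rcases h with rfl | rfl
  · rfl
  · have hs : support₂ (w + one) = (support₂ w)ᶜ := by
      ext p
      rw [Finset.mem_compl]
      unfold support₂
      rw [Finset.mem_filter, Finset.mem_filter]
      simp only [Finset.mem_univ, true_and, Pi.add_apply, one]
      generalize w p = a; revert a; decide
    have hle : (support₂ w).card ≤ 24 := Finset.card_le_univ _
    rw [clsW, clsW, hs, Finset.card_compl, show Fintype.card GolayPt = 24 from rfl]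
    omega

/-- the hypothesis on the map: additive, and each image lies in the orbit of its argument -/
def Good (y : (GolayPt → ZMod 2) → (GolayPt → ZMod 2)) : Prop :=
  (∀ a b, a ∈ golayCode → b ∈ golayCode → y (a + b) = y a + y b) ∧
    ∀ c ∈ golayCode, ∃ k ∈ M24, E (y c) (Invariant.act k c)

theorem good_zero {y : (GolayPt → ZMod 2) → (GolayPt → ZMod 2)} (h : Good y) : y 0 = 0 := by
  have := h.1 0 0 (zero_mem _) (zero_mem _)
  rw [add_zero] at this
  simpa using this

theorem inC_comb : ∀ (l : List ℕ), (∀ r ∈ l, inC r = true) → ∀ j, inC (comb l j) = true := by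
  intro l
  induction l with
  | nil => intro _ j; exact (by decide +kernel : inC 0 = true)
  | cons r rs ih =>
    intro h j
    simp only [List.mem_cons, forall_eq_or_imp] at h
    rw [comb]
    refine inC_xor ?_ (ih h.2 _)
    split
    · exact h.1
    · decide +kernel

theorem comb_E {y : (GolayPt → ZMod 2) → (GolayPt → ZMod 2)} (h : Good y)
    (σ : Equiv.Perm GolayPt) : ∀ (l : List ℕ), (∀ r ∈ l, inC r = true) →
      (∀ r ∈ l, E (y (wd r)) (Invariant.act σ (wd r))) →
      ∀ j, E (y (wd (comb l j))) (Invariant.act σ (wd (comb l j))) := by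
  intro l
  induction l with
  | nil => intro _ _ j; rw [show comb [] j = 0 from rfl, wd_zero, good_zero h]; exact E.refl _
  | cons r rs ih =>
    intro hC hl j
    simp only [List.mem_cons, forall_eq_or_imp] at hC hl
    rw [comb, wd_xor, h.1 _ _ ?_ (wd_mem_of_inC (inC_comb rs hC.2 _)), Invariant.act_add]
    · refine E.add ?_ (ih hC.2 hl.2 _)
      split
      · exact hl.1
      · rw [wd_zero, good_zero h]; exact E.refl _
    · split
      · exact wd_mem_of_inC hC.1
      · rw [wd_zero]; exact zero_mem _

theorem exists_perm {y : (GolayPt → ZMod 2) → (GolayPt → ZMod 2)} (h : Good y) :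
    ∀ (ts : List (ℕ × List ℕ)) (prev : List ℕ), okSteps prev ts = true →
      (∀ r ∈ prev, inC r = true) → ∀ σ ∈ M24, (∀ r ∈ prev, E (y (wd r)) (Invariant.act σ (wd r))) →
      ∃ τ ∈ M24, ∀ r ∈ prev ++ ts.map (fun s => s.1),
        inC r = true ∧ E (y (wd r)) (Invariant.act τ (wd r)) := by
  intro ts
  induction ts with
  | nil => intro prev _ hC σ hσ hl; exact ⟨σ, hσ, fun r hr => by simp at hr; exact ⟨hC r hr, hl r hr⟩⟩
  | cons t ts ih =>
    intro prev hok hC σ hσ hl
    simp only [okSteps, okStep, Bool.and_eq_true, List.all_eq_true, decide_eq_true_eq,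
      beq_iff_eq] at hok
    obtain ⟨⟨⟨⟨⟨hOC, hO8⟩, hOlt⟩, hlen⟩, hall⟩, hrest⟩ := hok
    obtain ⟨O, Ts⟩ := t
    set z := Invariant.act σ⁻¹ (y (wd O)) with hz
    obtain ⟨k, hk, hkE⟩ := h.2 _ (wd_mem_of_inC hOC)
    have hko : (σ⁻¹ * k) • dec O ∈ octads :=
      smul_mem_octads (mul_mem (inv_mem hσ) hk) (dec_mem_octads hOC hO8)
    obtain ⟨v, hv, hvdec⟩ := mem_octads.1 hko
    rw [octList_eq_octLit] at hv
    have hzv : E z (wd v) := by
      rw [hz, ← ind_dec v, hvdec, ← act_ind, ind_dec, act_mul]
      exact hkE.act _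
    have hvmem : v ∈ cands prev O := by
      refine List.mem_filter.2 ⟨hv, List.all_eq_true.2 fun j _ => beq_iff_eq.2 ?_⟩
      have hP := comb_E h σ prev hC hl j
      have hcm : wd (comb prev j) ∈ golayCode := wd_mem_of_inC (inC_comb prev hC j)
      obtain ⟨k', -, hk'E⟩ := h.2 _ (add_mem (wd_mem_of_inC hOC) hcm)
      rw [h.1 _ _ (wd_mem_of_inC hOC) hcm] at hk'E
      have h1 : E (Invariant.act σ⁻¹ (y (wd O) + y (wd (comb prev j)))) (wd v + wd (comb prev j)) := by
        rw [Invariant.act_add]
        refine E.add hzv ?_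
        have := hP.act σ⁻¹
        rwa [← act_mul, inv_mul_cancel] at this
      rw [← clsW_wd, ← clsW_wd, wd_xor, wd_xor, ← clsW_eq_of_E h1, clsW_act, clsW_eq_of_E hk'E,
        clsW_act]
    obtain ⟨i, hi, hiv⟩ := List.getElem_of_mem hvmem
    have hzip : (v, Ts[i]'(hlen ▸ hi)) ∈ (cands prev O).zip Ts := by
      rw [List.mem_iff_getElem]
      exact ⟨i, by rw [List.length_zip, hlen, min_self]; exact hlen ▸ hi, by simp [hiv]⟩
    obtain ⟨⟨hTM, hTO⟩, hTp⟩ := hall _ hzip
    set T := Ts[i]'(hlen ▸ hi)
    have hvT : validP T = true := by simp only [inM24, Bool.and_eq_true] at hTM; exact hTM.1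
    have hnew : ∀ r ∈ prev ++ [O], inC r = true ∧
        E (y (wd r)) (Invariant.act (σ * toPerm T) (wd r)) := by
      intro r hr
      rcases List.mem_append.1 hr with hr | hr
      · refine ⟨hC r hr, (hl r hr).trans ?_⟩
        rw [act_mul, act_wd hvT]
        exact ((E_of_modEq (hTp r hr)).symm).act σ
      · rw [List.mem_singleton] at hr
        subst hr
        refine ⟨hOC, ?_⟩
        rw [act_mul, act_wd hvT]
        have h2 := (hzv.trans (E_of_modEq hTO).symm).act σ
        rwa [hz, ← act_mul, mul_inv_cancel] at h2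
    obtain ⟨τ, hτ, hτl⟩ := ih (prev ++ [O]) hrest (fun r hr => (hnew r hr).1) (σ * toPerm T)
      (mul_mem hσ (toPerm_mem_M24 hTM)) (fun r hr => (hnew r hr).2)
    exact ⟨τ, hτ, fun r hr => hτl r (by simpa [List.append_assoc] using hr)⟩

/-- A good map agrees, up to the all-ones word, with an element of the group of the code. -/
theorem exists_induced {y : (GolayPt → ZMod 2) → (GolayPt → ZMod 2)} (h : Good y)
    (hone : y one = one) : ∃ σ ∈ M24, ∀ c ∈ golayCode, E (y c) (Invariant.act σ c) := by
  obtain ⟨σ, hσ, hl⟩ := exists_perm h steps [] steps_chk (by simp) 1 (one_mem _) (by simp)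
  refine ⟨σ, hσ, fun c hc => ?_⟩
  set B := steps.map (fun s => s.1) ++ [fullMask]
  have hB : ∀ r ∈ B, inC r = true ∧ E (y (wd r)) (Invariant.act σ (wd r)) := by
    intro r hr
    rcases List.mem_append.1 hr with hr | hr
    · exact hl r (by simpa using hr)
    · rw [List.mem_singleton] at hr
      subst hr
      refine ⟨by decide +kernel, ?_⟩
      rw [wd_full]
      show E (y one) _
      rw [hone]
      exact Or.inl rfl
  obtain ⟨m, -, hmC, rfl⟩ := mem_golayCode.1 hc
  rw [inC, beq_iff_eq] at hmC
  rw [← hmC]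
  have hrows : ∀ r ∈ rows, inC r = true ∧ E (y (wd r)) (Invariant.act σ (wd r)) := by
    intro r hr
    obtain ⟨i, hi, rfl⟩ := List.getElem_of_mem hr
    obtain ⟨hall, hlen⟩ := coefs_chk
    have hz : (rows[i], coefs[i]'(hlen ▸ hi)) ∈ rows.zip coefs := by
      rw [List.mem_iff_getElem]
      exact ⟨i, by rw [List.length_zip, hlen, min_self]; exact hlen ▸ hi, by simp⟩
    have h1 := beq_iff_eq.1 (List.all_eq_true.1 hall _ hz)
    dsimp only at h1
    rw [← h1]
    exact ⟨inC_comb B (fun r hr => (hB r hr).1) _,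
      comb_E h σ B (fun r hr => (hB r hr).1) (fun r hr => (hB r hr).2) _⟩
  exact comb_E h σ rows (fun r hr => (hrows r hr).1) (fun r hr => (hrows r hr).2) m

end CfsgLib.Golay.CodeAut
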