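import Cfsg.Agent.Lib.Golay.OrbitData
import Cfsg.Agent.Lib.Golay.CodeLists
import Cfsg.Agent.Lib.Golay.MathieuFacts

/-!
Orbits of point, octad and dodecad stabilizers on octads and dodecads.
-/

set_option autoImplicit false
set_option maxRecDepth 20000

namespace CfsgLib.Golay

open Cfsg
open scoped Pointwise

theorem card_inter_dec (a b : ℕ) : (dec a ∩ dec b).card = pop 24 (a &&& b) := by
  rw [← dec_and, card_dec_eq_pop]

/-- a walk for each intersection size with `ref`, for the masks of `lit` passing `f` -/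
def classesOK (gens : List ℕ) (ref : ℕ) (f : ℕ → Bool) (lit : List ℕ)
    (ws : List (ℕ × ℕ × ℕ × ℕ × ℕ)) : Bool :=
  (ws.all fun w => inC w.2.1 && orbOK gens keyC w.2
    (lit.filter fun m => f m && pop 24 (m &&& ref) == w.1)) &&
  lit.all fun m => !f m || (ws.map fun w => w.1).contains (pop 24 (m &&& ref))

theorem exists_smul_of_orbOK {F : ℕ} {inv gens : List ℕ} {w : ℕ × ℕ × ℕ × ℕ} {lit : List ℕ}
    {f : ℕ → Bool} (hlit : ∀ m ∈ lit, m ∈ codeList) (hg : gensOK F inv gens = true)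
    (h : (inC w.1 && orbOK gens keyC w (lit.filter f)) = true) {m : ℕ}
    (hm : m ∈ lit) (hf : f m = true) : ∃ g ∈ stabH F inv, g • dec w.1 = dec m := by
  rw [Bool.and_eq_true] at h
  exact exists_code_orbit hg h.2 h.1 (List.mem_filter.2 ⟨hm, hf⟩) (hlit m hm)

theorem exists_smul_of_classesOK {F : ℕ} {inv gens : List ℕ} {ref : ℕ} {f : ℕ → Bool} {lit : List ℕ}
    {ws : List (ℕ × ℕ × ℕ × ℕ × ℕ)} (hlit : ∀ m ∈ lit, m ∈ codeList) (hg : gensOK F inv gens = true)
    (h : classesOK gens ref f lit ws = true) {a b : ℕ} (ha : a ∈ lit) (hb : b ∈ lit)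
    (hfa : f a = true) (hfb : f b = true) (he : pop 24 (a &&& ref) = pop 24 (b &&& ref)) :
    ∃ g ∈ stabH F inv, g • dec a = dec b := by
  simp only [classesOK, Bool.and_eq_true, List.all_eq_true] at h
  have h2 := h.2 a ha
  simp only [hfa, Bool.not_true, Bool.false_or, List.contains_iff_mem, List.mem_map] at h2
  obtain ⟨w, hw, hwe⟩ := h2
  have hw' := Bool.and_eq_true_iff.mpr (h.1 w hw)
  obtain ⟨g, hg1, hga⟩ := exists_smul_of_orbOK hlit hg hw' ha (by simp [hfa, hwe])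
  obtain ⟨g', hg2, hgb⟩ := exists_smul_of_orbOK hlit hg hw' hb (by simp [hfb, hwe, he])
  exact ⟨g' * g⁻¹, mul_mem hg2 (inv_mem hg1), by rw [mul_smul, ← hga, inv_smul_smul, hgb]⟩

theorem mem_octLit_iff {m : ℕ} : m ∈ octLit ↔ m ∈ codeList ∧ pop 24 m = 8 := by
  rw [← octList_eq_octLit, octList, List.mem_filter, beq_iff_eq]

theorem mem_dodLit_iff {m : ℕ} : m ∈ dodLit ↔ m ∈ codeList ∧ pop 24 m = 12 := by
  rw [← dodList_eq_dodLit, dodList, List.mem_filter, beq_iff_eq]

theorem octLit_sub : ∀ m ∈ octLit, m ∈ codeList := fun _ h => (mem_octLit_iff.1 h).1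

theorem dodLit_sub : ∀ m ∈ dodLit, m ∈ codeList := fun _ h => (mem_dodLit_iff.1 h).1

theorem ncard_code_filter {n : ℕ} {lit : List ℕ} (hlit : lit = codeList.filter fun m => pop 24 m == n)
    {q : Finset GolayPt → Prop} (f : ℕ → Bool) (h : ∀ m, q (dec m) ↔ f m = true) :
    {s | s ∈ wordsOfWeight (golayCode : Set (GolayPt → ZMod 2)) n ∧ q s}.ncard =
      (lit.filter f).length := by
  have he : {s | s ∈ wordsOfWeight (golayCode : Set (GolayPt → ZMod 2)) n ∧ q s} =
      dec '' {m | m ∈ lit.filter f} := by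
    ext s
    simp only [Set.mem_setOf_eq, Set.mem_image, wordsOfWeight_eq, List.mem_filter, hlit]
    constructor
    · rintro ⟨⟨m, hm, rfl⟩, hq⟩
      exact ⟨m, ⟨hm, (h m).1 hq⟩, rfl⟩
    · rintro ⟨m, ⟨hm, hf⟩, rfl⟩
      exact ⟨⟨m, hm, rfl⟩, (h m).2 hf⟩
  have hsub : ∀ m ∈ lit.filter f, m ∈ codeList := fun m hm => by
    have := (List.mem_filter.1 hm).1
    rw [hlit] at this
    exact (List.mem_filter.1 this).1
  rw [he, Set.InjOn.ncard_image (s := {m | m ∈ lit.filter f}) fun a ha b hb e =>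
      dec_inj (codeList_lt (hsub a ha)) (codeList_lt (hsub b hb)) e,
    ← List.toFinset_card_of_nodup (l := lit.filter f)
      (by rw [hlit]; exact (codeList_nodup.filter _).filter _),
    ← Set.ncard_coe_finset]
  congr 1
  ext k
  simp

theorem octad_mask {o : Finset GolayPt} (ho : o ∈ octads) :
    ∃ m ∈ octLit, pop 24 m = 8 ∧ dec m = o := by
  obtain ⟨m, hm, rfl⟩ := mem_octads.1 ho
  simp only [octList, List.mem_filter, beq_iff_eq] at hm
  exact ⟨m, mem_octLit_iff.2 hm, hm.2, rfl⟩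

theorem dodecad_mask {d : Finset GolayPt} (hd : d ∈ dodecads) :
    ∃ m ∈ dodLit, pop 24 m = 12 ∧ dec m = d := by
  obtain ⟨m, hm, rfl⟩ := mem_dodecads.1 hd
  simp only [dodList, List.mem_filter, beq_iff_eq] at hm
  exact ⟨m, mem_dodLit_iff.2 hm, hm.2, rfl⟩

theorem fix_smul {F : ℕ} {inv : List ℕ} {g : Equiv.Perm GolayPt} (hg : g ∈ stabH F inv) {i : ℕ}
    (hi : i < 24) (hF : F.testBit i = true) : g (pt i) = pt i :=
  (mem_stabH.1 hg).1.2 _ (by rw [mem_dec, idx_pt i hi]; exact hF)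

/-- octad test with the point `i` inside -/
def octIn (i : ℕ) (m : ℕ) : Bool := pop 24 m == 8 && m.testBit i

/-- octad test with the point `i` outside -/
def octOut (i : ℕ) (m : ℕ) : Bool := pop 24 m == 8 && !m.testBit i

/-- octad test with the points `i` inside and `j` inside -/
def octIn2 (i j : ℕ) (m : ℕ) : Bool := pop 24 m == 8 && m.testBit i && m.testBit j

/-- octad test with the point `i` inside and `j` outside -/
def octInOut (i j : ℕ) (m : ℕ) : Bool := pop 24 m == 8 && m.testBit i && !m.testBit j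

theorem clsOct : gensOK 0 [oct0] gensOct = true ∧ classesOK gensOct oct0 (fun m => pop 24 m == 8) octLit
    [(0, walkOct0), (2, walkOct2), (4, walkOct4), (8, walkOct8)] = true := by decide +kernel

theorem clsDod : gensOK 0 [dod0] gensDod = true ∧ classesOK gensDod dod0 (fun m => pop 24 m == 12) dodLit
    [(0, walkDod0), (4, walkDod4), (6, walkDod6), (8, walkDod8), (12, walkDod12)] = true := by
  decide +kernel

theorem clsO23 : gensOK (2 ^ 23) [oct0] gensO23 = true ∧ classesOK gensO23 oct0 (octIn 23) octLit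
    [(2, walkO232), (4, walkO234), (8, walkO238)] = true := by decide +kernel

theorem clsO4 : gensOK (2 ^ 4) [oct0] gensO4 = true ∧ classesOK gensO4 oct0 (octOut 4) octLit
    [(0, walkO40), (2, walkO42), (4, walkO44), (8, walkO48)] = true := by decide +kernel

theorem clsD23 : gensOK (2 ^ 23) [dod0] gensD23 = true ∧ classesOK gensD23 dod0
    (fun m => pop 24 m == 12 && m.testBit 23) dodLit
    [(4, walkD234), (6, walkD236), (8, walkD238), (12, walkD2312)] = true := by decide +kernel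

theorem clsO22 : gensOK F22 [oct0] gensO22 = true ∧ classesOK gensO22 oct0 (octIn2 23 0) octLit
    [(2, walkO222), (4, walkO224), (8, walkO228)] = true := by decide +kernel

theorem clsO22b : gensOK F22 [oct1] gensO22b = true ∧ classesOK gensO22b oct1 (octInOut 23 0) octLit
    [(2, walkO22b2), (4, walkO22b4), (8, walkO22b8)] = true := by decide +kernel

theorem orbT23 : gensOK (2 ^ 23) [] gensT23 = true ∧
    (inC walkT23.1 && orbOK gensT23 keyC walkT23 (octLit.filter (octIn 23))) = true ∧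
    walkT23.1 = oct0 := by decide +kernel

theorem orbT4 : gensOK (2 ^ 4) [] gensT4 = true ∧
    (inC walkT4.1 && orbOK gensT4 keyC walkT4 (octLit.filter (octOut 4))) = true ∧
    walkT4.1 = oct0 := by decide +kernel

theorem orbT22 : gensOK F22 [] gensT22 = true ∧
    (inC walkT22.1 && orbOK gensT22 keyC walkT22 (octLit.filter (octIn2 23 0))) = true ∧
    walkT22.1 = oct0 := by decide +kernel

theorem orbT22b : gensOK F22 [] gensT22b = true ∧
    (inC walkT22b.1 && orbOK gensT22b keyC walkT22b (octLit.filter (octInOut 23 0))) = true ∧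
    walkT22b.1 = oct1 := by decide +kernel

theorem smul_card_inter (g : Equiv.Perm GolayPt) (s t : Finset GolayPt) :
    (g • s ∩ g • t).card = (s ∩ t).card := by
  rw [← Finset.smul_finset_inter, Finset.card_smul_finset]

theorem conj_point {g k : Equiv.Perm GolayPt} {a p : GolayPt} (hg : g a = p) (hk : k a = a) :
    (g * k * g⁻¹) p = p := by
  rw [← hg, Equiv.Perm.mul_apply, Equiv.Perm.mul_apply, Equiv.Perm.inv_def, Equiv.symm_apply_apply, hk]

theorem conj_set {g k : Equiv.Perm GolayPt} {a b d e : Finset GolayPt} (hd : g • a = d)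
    (he : g • b = e) (hk : k • a = b) : (g * k * g⁻¹) • d = e := by
  rw [← hd, mul_smul, inv_smul_smul, mul_smul, hk, he]

theorem mem_smul_iff (g : Equiv.Perm GolayPt) (p : GolayPt) (s : Finset GolayPt) :
    g p ∈ g • s ↔ p ∈ s := Finset.smul_mem_smul_finset_iff g

theorem octad_pair_orbit {o o' o'' : Finset GolayPt} (ho : o ∈ octads) (ho' : o' ∈ octads)
    (ho'' : o'' ∈ octads) (h : (o ∩ o').card = (o ∩ o'').card) :
    ∃ g : Equiv.Perm GolayPt, g ∈ M24 ∧ g • o = o ∧ g • o' = o'' := by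
  obtain ⟨g, hg, rfl⟩ := exists_smul_oct0 ho
  obtain ⟨a, ha, hpa, hae⟩ := octad_mask (smul_mem_octads (inv_mem hg) ho')
  obtain ⟨b, hb, hpb, hbe⟩ := octad_mask (smul_mem_octads (inv_mem hg) ho'')
  have he : pop 24 (a &&& oct0) = pop 24 (b &&& oct0) := by
    rw [← card_inter_dec, ← card_inter_dec, hae, hbe]
    have h1 := smul_card_inter g⁻¹ (g • dec oct0) o'
    have h2 := smul_card_inter g⁻¹ (g • dec oct0) o''
    rw [inv_smul_smul] at h1 h2
    rw [Finset.inter_comm, h1, Finset.inter_comm (g⁻¹ • o''), h2, h]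
  obtain ⟨k, hk, hka⟩ := exists_smul_of_classesOK octLit_sub clsOct.1 clsOct.2 ha hb (by simp [hpa]) (by simp [hpb]) he
  refine ⟨g * k * g⁻¹, mul_mem (mul_mem hg (stabH_le _ _ hk)) (inv_mem hg),
    conj_set rfl rfl ((mem_stabH.1 hk).2 oct0 (by simp)),
    conj_set (by rw [hae, smul_inv_smul]) (by rw [hbe, smul_inv_smul]) hka⟩

theorem dodecad_pair_orbit {d d' d'' : Finset GolayPt} (hd : d ∈ dodecads) (hd' : d' ∈ dodecads)
    (hd'' : d'' ∈ dodecads) (h : (d ∩ d').card = (d ∩ d'').card) :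
    ∃ g : Equiv.Perm GolayPt, g ∈ M24 ∧ g • d = d ∧ g • d' = d'' := by
  obtain ⟨g, hg, rfl⟩ := exists_smul_dod0 hd
  obtain ⟨a, ha, hpa, hae⟩ := dodecad_mask (smul_mem_dodecads (inv_mem hg) hd')
  obtain ⟨b, hb, hpb, hbe⟩ := dodecad_mask (smul_mem_dodecads (inv_mem hg) hd'')
  have he : pop 24 (a &&& dod0) = pop 24 (b &&& dod0) := by
    rw [← card_inter_dec, ← card_inter_dec, hae, hbe]
    have h1 := smul_card_inter g⁻¹ (g • dec dod0) d'
    have h2 := smul_card_inter g⁻¹ (g • dec dod0) d''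
    rw [inv_smul_smul] at h1 h2
    rw [Finset.inter_comm, h1, Finset.inter_comm (g⁻¹ • d''), h2, h]
  obtain ⟨k, hk, hka⟩ := exists_smul_of_classesOK dodLit_sub clsDod.1 clsDod.2 ha hb (by simp [hpa]) (by simp [hpb]) he
  refine ⟨g * k * g⁻¹, mul_mem (mul_mem hg (stabH_le _ _ hk)) (inv_mem hg),
    conj_set rfl rfl ((mem_stabH.1 hk).2 dod0 (by simp)),
    conj_set (by rw [hae, smul_inv_smul]) (by rw [hbe, smul_inv_smul]) hka⟩

theorem testBit_of_mem {m : ℕ} {i : ℕ} (hi : i < 24) (h : pt i ∈ dec m) : m.testBit i = true := by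
  rwa [mem_dec, idx_pt i hi] at h

theorem testBit_of_not_mem {m : ℕ} {i : ℕ} (hi : i < 24) (h : pt i ∉ dec m) : m.testBit i = false := by
  rw [mem_dec, idx_pt i hi] at h
  simpa using h

theorem exists_octad_point {o : Finset GolayPt} (ho : o ∈ octads) {x : GolayPt} (hx : x ∈ o) :
    ∃ g ∈ M24, g (pt 23) = x ∧ g • dec oct0 = o := by
  obtain ⟨g, hg, rfl⟩ := exists_map_point x
  obtain ⟨a, ha, hpa, hae⟩ := octad_mask (smul_mem_octads (inv_mem hg) ho)
  have h23 : pt 23 ∈ dec a := by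
    rw [hae, Finset.mem_inv_smul_finset_iff]; exact hx
  obtain ⟨k, hk, hka⟩ := exists_smul_of_orbOK (f := octIn 23) octLit_sub orbT23.1 orbT23.2.1 ha
    (by simp [octIn, hpa, testBit_of_mem (by norm_num) h23])
  rw [orbT23.2.2] at hka
  exact ⟨g * k, mul_mem hg (stabH_le _ _ hk),
    by rw [Equiv.Perm.mul_apply, fix_smul hk (by norm_num) (by decide +kernel)],
    by rw [mul_smul, hka, hae, smul_inv_smul]⟩

theorem exists_octad_avoid {o : Finset GolayPt} (ho : o ∈ octads) {x : GolayPt} (hx : x ∉ o) :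
    ∃ g ∈ M24, g (pt 4) = x ∧ g • dec oct0 = o := by
  obtain ⟨g1, hg1, rfl⟩ := exists_map_point x
  obtain ⟨g2, hg2, hg2x⟩ := exists_map_point (pt 4)
  obtain ⟨a, ha, hpa, hae⟩ := octad_mask (smul_mem_octads (inv_mem (mul_mem hg1 (inv_mem hg2))) ho)
  set g := g1 * g2⁻¹ with hgdef
  have hgx : g (pt 4) = g1 (pt 23) := by
    rw [hgdef, Equiv.Perm.mul_apply, Equiv.Perm.inv_eq_iff_eq.2 hg2x.symm]
  have h4 : pt 4 ∉ dec a := by
    rw [hae, Finset.mem_inv_smul_finset_iff]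
    show g (pt 4) ∉ o
    rw [hgx]; exact hx
  obtain ⟨k, hk, hka⟩ := exists_smul_of_orbOK (f := octOut 4) octLit_sub orbT4.1 orbT4.2.1 ha
    (by simp [octOut, hpa, testBit_of_not_mem (by norm_num) h4])
  rw [orbT4.2.2] at hka
  exact ⟨g * k, mul_mem (mul_mem hg1 (inv_mem hg2)) (stabH_le _ _ hk),
    by rw [Equiv.Perm.mul_apply, fix_smul hk (by norm_num) (by decide +kernel), hgx],
    by rw [mul_smul, hka, hae, smul_inv_smul]⟩

theorem exists_octad_pair_in {o : Finset GolayPt} (ho : o ∈ octads) {p q : GolayPt} (hpq : p ≠ q)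
    (hp : p ∈ o) (hq : q ∈ o) : ∃ g ∈ M24, g (pt 23) = p ∧ g (pt 0) = q ∧ g • dec oct0 = o := by
  obtain ⟨g, hg, rfl, rfl⟩ := exists_map_pair hpq
  obtain ⟨a, ha, hpa, hae⟩ := octad_mask (smul_mem_octads (inv_mem hg) ho)
  have h1 : pt 23 ∈ dec a := by rw [hae, Finset.mem_inv_smul_finset_iff]; exact hp
  have h2 : pt 0 ∈ dec a := by rw [hae, Finset.mem_inv_smul_finset_iff]; exact hq
  obtain ⟨k, hk, hka⟩ := exists_smul_of_orbOK (f := octIn2 23 0) octLit_sub orbT22.1 orbT22.2.1 ha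
    (by simp only [octIn2, hpa, testBit_of_mem (by norm_num : 23 < 24) h1,
      testBit_of_mem (by norm_num : 0 < 24) h2]; rfl)
  rw [orbT22.2.2] at hka
  exact ⟨g * k, mul_mem hg (stabH_le _ _ hk),
    by rw [Equiv.Perm.mul_apply, fix_smul hk (by norm_num) (by decide +kernel)],
    by rw [Equiv.Perm.mul_apply, fix_smul hk (by norm_num) (by decide +kernel)],
    by rw [mul_smul, hka, hae, smul_inv_smul]⟩

theorem exists_octad_pair_sep {o : Finset GolayPt} (ho : o ∈ octads) {p q : GolayPt} (hp : p ∈ o)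
    (hq : q ∉ o) : ∃ g ∈ M24, g (pt 23) = p ∧ g (pt 0) = q ∧ g • dec oct1 = o := by
  obtain ⟨g, hg, rfl, rfl⟩ := exists_map_pair (p := p) (q := q) (fun e => hq (e ▸ hp))
  obtain ⟨a, ha, hpa, hae⟩ := octad_mask (smul_mem_octads (inv_mem hg) ho)
  have h1 : pt 23 ∈ dec a := by rw [hae, Finset.mem_inv_smul_finset_iff]; exact hp
  have h2 : pt 0 ∉ dec a := by rw [hae, Finset.mem_inv_smul_finset_iff]; exact hq
  obtain ⟨k, hk, hka⟩ := exists_smul_of_orbOK (f := octInOut 23 0) octLit_sub orbT22b.1 orbT22b.2.1 ha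
    (by simp only [octInOut, hpa, testBit_of_mem (by norm_num : 23 < 24) h1,
      testBit_of_not_mem (by norm_num : 0 < 24) h2]; rfl)
  rw [orbT22b.2.2] at hka
  exact ⟨g * k, mul_mem hg (stabH_le _ _ hk),
    by rw [Equiv.Perm.mul_apply, fix_smul hk (by norm_num) (by decide +kernel)],
    by rw [Equiv.Perm.mul_apply, fix_smul hk (by norm_num) (by decide +kernel)],
    by rw [mul_smul, hka, hae, smul_inv_smul]⟩

theorem exists_dodecad_point {d : Finset GolayPt} (hd : d ∈ dodecads) {x : GolayPt} (hx : x ∈ d) :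
    ∃ g ∈ M24, g (pt 23) = x ∧ g • dec dod0 = d := by
  obtain ⟨g, hg, h1, h2⟩ := exists_smul_dod0_point hd hx
  exact ⟨g, hg, h2, h1⟩

/-- `x ↦ g x` carries a counted family of code words to another one -/
theorem ncard_transport {n : ℕ} {g : Equiv.Perm GolayPt} (hg : g ∈ M24) {q q' : Finset GolayPt → Prop}
    (h : ∀ s, q s ↔ q' (g • s)) :
    {s | s ∈ wordsOfWeight (golayCode : Set (GolayPt → ZMod 2)) n ∧ q' s}.ncard =
      {s | s ∈ wordsOfWeight (golayCode : Set (GolayPt → ZMod 2)) n ∧ q s}.ncard := by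
  rw [← Set.ncard_smul_set g {s | s ∈ wordsOfWeight (golayCode : Set (GolayPt → ZMod 2)) n ∧ q s}]
  congr 1
  ext s
  simp only [Set.mem_setOf_eq, Set.mem_smul_set_iff_inv_smul_mem]
  rw [h, smul_inv_smul]
  refine and_congr_left fun _ => ⟨fun hs => ?_, fun hs => ?_⟩
  · exact ⟨smul_mem_supports (inv_mem hg) hs.1, by rw [Finset.card_smul_finset]; exact hs.2⟩
  · have := smul_mem_supports hg hs.1
    rw [smul_inv_smul] at this
    exact ⟨this, by have h2 := hs.2; rwa [Finset.card_smul_finset] at h2⟩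

theorem mem_dec_iff {m i : ℕ} (hi : i < 24) : pt i ∈ dec m ↔ m.testBit i = true := by
  rw [mem_dec, idx_pt i hi]

theorem m23_heptads {x : GolayPt} {o : Finset GolayPt} (ho : o ∈ octads) (hx : x ∈ o) :
    {o' : Finset GolayPt | o' ∈ octads ∧ x ∈ o' ∧ (o ∩ o').card = 2}.ncard = 112 ∧
    {o' : Finset GolayPt | o' ∈ octads ∧ x ∈ o' ∧ (o ∩ o').card = 4}.ncard = 140 ∧
    ∀ o' o'' : Finset GolayPt, o' ∈ octads → o'' ∈ octads → x ∈ o' → x ∈ o'' →
      (o ∩ o').card = (o ∩ o'').card →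
      ∃ g : Equiv.Perm GolayPt, g ∈ M24 ∧ g x = x ∧ g • o = o ∧ g • o' = o'' := by
  obtain ⟨g, hg, rfl, rfl⟩ := exists_octad_point ho hx
  have hcount : ∀ k, {o' : Finset GolayPt | o' ∈ octads ∧ g (pt 23) ∈ o' ∧
      (g • dec oct0 ∩ o').card = k}.ncard =
      (octLit.filter fun m => (m.testBit 23 && pop 24 (oct0 &&& m) == k)).length := by
    intro k
    rw [octads, ncard_transport hg (q := fun s => pt 23 ∈ s ∧ (dec oct0 ∩ s).card = k)
      (q' := fun s => g (pt 23) ∈ s ∧ (g • dec oct0 ∩ s).card = k)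
      (fun s => by rw [mem_smul_iff, smul_card_inter])]
    exact ncard_code_filter octList_eq_octLit.symm _ fun m => by
      rw [mem_dec_iff (by norm_num), card_inter_dec, Bool.and_eq_true, beq_iff_eq]
  refine ⟨by rw [hcount]; decide +kernel, by rw [hcount]; decide +kernel, ?_⟩
  intro o' o'' ho' ho'' hx' hx'' h
  obtain ⟨a, ha, hpa, hae⟩ := octad_mask (smul_mem_octads (inv_mem hg) ho')
  obtain ⟨b, hb, hpb, hbe⟩ := octad_mask (smul_mem_octads (inv_mem hg) ho'')
  have ea : g • dec a = o' := by rw [hae, smul_inv_smul]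
  have eb : g • dec b = o'' := by rw [hbe, smul_inv_smul]
  subst ea; subst eb
  rw [mem_smul_iff, mem_dec_iff (by norm_num)] at hx' hx''
  rw [smul_card_inter, smul_card_inter, card_inter_dec, card_inter_dec] at h
  obtain ⟨k, hk, hka⟩ := exists_smul_of_classesOK octLit_sub clsO23.1 clsO23.2 ha hb
    (by simp [octIn, hpa, hx']) (by simp [octIn, hpb, hx''])
    (by rw [Nat.and_comm, h, Nat.and_comm])
  exact ⟨g * k * g⁻¹, mul_mem (mul_mem hg (stabH_le _ _ hk)) (inv_mem hg),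
    conj_point rfl (fix_smul hk (by norm_num) (by decide +kernel)),
    conj_set rfl rfl ((mem_stabH.1 hk).2 oct0 (by simp)), conj_set rfl rfl hka⟩

theorem m23_octads_avoiding {x : GolayPt} {o : Finset GolayPt} (ho : o ∈ octads) (hx : x ∉ o) :
    {o' : Finset GolayPt | o' ∈ octads ∧ x ∉ o' ∧ (o ∩ o').card = 0}.ncard = 15 ∧
    {o' : Finset GolayPt | o' ∈ octads ∧ x ∉ o' ∧ (o ∩ o').card = 4}.ncard = 210 ∧
    {o' : Finset GolayPt | o' ∈ octads ∧ x ∉ o' ∧ (o ∩ o').card = 2}.ncard = 280 ∧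
    ∀ o' o'' : Finset GolayPt, o' ∈ octads → o'' ∈ octads → x ∉ o' → x ∉ o'' →
      (o ∩ o').card = (o ∩ o'').card →
      ∃ g : Equiv.Perm GolayPt, g ∈ M24 ∧ g x = x ∧ g • o = o ∧ g • o' = o'' := by
  obtain ⟨g, hg, rfl, rfl⟩ := exists_octad_avoid ho hx
  have hcount : ∀ k, {o' : Finset GolayPt | o' ∈ octads ∧ g (pt 4) ∉ o' ∧
      (g • dec oct0 ∩ o').card = k}.ncard =
      (octLit.filter fun m => (!m.testBit 4 && pop 24 (oct0 &&& m) == k)).length := by
    intro k
    rw [octads, ncard_transport hg (q := fun s => pt 4 ∉ s ∧ (dec oct0 ∩ s).card = k)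
      (q' := fun s => g (pt 4) ∉ s ∧ (g • dec oct0 ∩ s).card = k)
      (fun s => by rw [mem_smul_iff, smul_card_inter])]
    exact ncard_code_filter octList_eq_octLit.symm _ fun m => by
      rw [mem_dec_iff (by norm_num), card_inter_dec, Bool.and_eq_true, beq_iff_eq, Bool.not_eq_true',
        Bool.not_eq_true]
  refine ⟨by rw [hcount]; decide +kernel, by rw [hcount]; decide +kernel,
    by rw [hcount]; decide +kernel, ?_⟩
  intro o' o'' ho' ho'' hx' hx'' h
  obtain ⟨a, ha, hpa, hae⟩ := octad_mask (smul_mem_octads (inv_mem hg) ho')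
  obtain ⟨b, hb, hpb, hbe⟩ := octad_mask (smul_mem_octads (inv_mem hg) ho'')
  have ea : g • dec a = o' := by rw [hae, smul_inv_smul]
  have eb : g • dec b = o'' := by rw [hbe, smul_inv_smul]
  subst ea; subst eb
  rw [mem_smul_iff, mem_dec_iff (by norm_num), Bool.not_eq_true] at hx' hx''
  rw [smul_card_inter, smul_card_inter, card_inter_dec, card_inter_dec] at h
  obtain ⟨k, hk, hka⟩ := exists_smul_of_classesOK octLit_sub clsO4.1 clsO4.2 ha hb
    (by simp [octOut, hpa, hx']) (by simp [octOut, hpb, hx''])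
    (by rw [Nat.and_comm, h, Nat.and_comm])
  exact ⟨g * k * g⁻¹, mul_mem (mul_mem hg (stabH_le _ _ hk)) (inv_mem hg),
    conj_point rfl (fix_smul hk (by norm_num) (by decide +kernel)),
    conj_set rfl rfl ((mem_stabH.1 hk).2 oct0 (by simp)), conj_set rfl rfl hka⟩

theorem m23_dodecads {x : GolayPt} {d : Finset GolayPt} (hd : d ∈ dodecads) (hx : x ∈ d) :
    {d' : Finset GolayPt | d' ∈ dodecads ∧ x ∈ d' ∧ (d ∩ d').card = 4}.ncard = 165 ∧
    {d' : Finset GolayPt | d' ∈ dodecads ∧ x ∈ d' ∧ (d ∩ d').card = 8}.ncard = 330 ∧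
    {d' : Finset GolayPt | d' ∈ dodecads ∧ x ∈ d' ∧ (d ∩ d').card = 6}.ncard = 792 ∧
    ∀ d' d'' : Finset GolayPt, d' ∈ dodecads → d'' ∈ dodecads → x ∈ d' → x ∈ d'' →
      (d ∩ d').card = (d ∩ d'').card →
      ∃ g : Equiv.Perm GolayPt, g ∈ M24 ∧ g x = x ∧ g • d = d ∧ g • d' = d'' := by
  obtain ⟨g, hg, rfl, rfl⟩ := exists_dodecad_point hd hx
  have hcount : ∀ k, {d' : Finset GolayPt | d' ∈ dodecads ∧ g (pt 23) ∈ d' ∧
      (g • dec dod0 ∩ d').card = k}.ncard =
      (dodLit.filter fun m => (m.testBit 23 && pop 24 (dod0 &&& m) == k)).length := by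
    intro k
    rw [dodecads, ncard_transport hg (q := fun s => pt 23 ∈ s ∧ (dec dod0 ∩ s).card = k)
      (q' := fun s => g (pt 23) ∈ s ∧ (g • dec dod0 ∩ s).card = k)
      (fun s => by rw [mem_smul_iff, smul_card_inter])]
    exact ncard_code_filter dodList_eq_dodLit.symm _ fun m => by
      rw [mem_dec_iff (by norm_num), card_inter_dec, Bool.and_eq_true, beq_iff_eq]
  refine ⟨by rw [hcount]; decide +kernel, by rw [hcount]; decide +kernel,
    by rw [hcount]; decide +kernel, ?_⟩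
  intro d' d'' hd' hd'' hx' hx'' h
  obtain ⟨a, ha, hpa, hae⟩ := dodecad_mask (smul_mem_dodecads (inv_mem hg) hd')
  obtain ⟨b, hb, hpb, hbe⟩ := dodecad_mask (smul_mem_dodecads (inv_mem hg) hd'')
  have ea : g • dec a = d' := by rw [hae, smul_inv_smul]
  have eb : g • dec b = d'' := by rw [hbe, smul_inv_smul]
  subst ea; subst eb
  rw [mem_smul_iff, mem_dec_iff (by norm_num)] at hx' hx''
  rw [smul_card_inter, smul_card_inter, card_inter_dec, card_inter_dec] at h
  obtain ⟨k, hk, hka⟩ := exists_smul_of_classesOK dodLit_sub clsD23.1 clsD23.2 ha hb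
    (by simp [hpa, hx']) (by simp [hpb, hx''])
    (by rw [Nat.and_comm, h, Nat.and_comm])
  exact ⟨g * k * g⁻¹, mul_mem (mul_mem hg (stabH_le _ _ hk)) (inv_mem hg),
    conj_point rfl (fix_smul hk (by norm_num) (by decide +kernel)),
    conj_set rfl rfl ((mem_stabH.1 hk).2 dod0 (by simp)), conj_set rfl rfl hka⟩

theorem m22_hexads {p q : GolayPt} (hpq : p ≠ q) {o o' o'' : Finset GolayPt} (ho : o ∈ octads)
    (ho' : o' ∈ octads) (ho'' : o'' ∈ octads) (hp : p ∈ o ∧ p ∈ o' ∧ p ∈ o'')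
    (hq : q ∈ o ∧ q ∈ o' ∧ q ∈ o'') (h : (o ∩ o').card = (o ∩ o'').card) :
    {x : Finset GolayPt | x ∈ octads ∧ p ∈ x ∧ q ∈ x ∧ (o ∩ x).card = 2}.ncard = 16 ∧
    {x : Finset GolayPt | x ∈ octads ∧ p ∈ x ∧ q ∈ x ∧ (o ∩ x).card = 4}.ncard = 60 ∧
    ∃ g : Equiv.Perm GolayPt, g ∈ M24 ∧ g p = p ∧ g q = q ∧ g • o = o ∧ g • o' = o'' := by
  obtain ⟨g, hg, rfl, rfl, rfl⟩ := exists_octad_pair_in ho hpq hp.1 hq.1
  have hcount : ∀ k, {x : Finset GolayPt | x ∈ octads ∧ g (pt 23) ∈ x ∧ g (pt 0) ∈ x ∧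
      (g • dec oct0 ∩ x).card = k}.ncard =
      (octLit.filter fun m => (m.testBit 23 && (m.testBit 0 && pop 24 (oct0 &&& m) == k))).length := by
    intro k
    rw [octads, ncard_transport hg (q := fun s => pt 23 ∈ s ∧ pt 0 ∈ s ∧ (dec oct0 ∩ s).card = k)
      (q' := fun s => g (pt 23) ∈ s ∧ g (pt 0) ∈ s ∧ (g • dec oct0 ∩ s).card = k)
      (fun s => by rw [mem_smul_iff, mem_smul_iff, smul_card_inter])]
    exact ncard_code_filter octList_eq_octLit.symm _ fun m => by
      rw [mem_dec_iff (by norm_num), mem_dec_iff (by norm_num), card_inter_dec, Bool.and_eq_true,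
        Bool.and_eq_true, beq_iff_eq]
  refine ⟨by rw [hcount]; decide +kernel, by rw [hcount]; decide +kernel, ?_⟩
  obtain ⟨a, ha, hpa, hae⟩ := octad_mask (smul_mem_octads (inv_mem hg) ho')
  obtain ⟨b, hb, hpb, hbe⟩ := octad_mask (smul_mem_octads (inv_mem hg) ho'')
  have ea : g • dec a = o' := by rw [hae, smul_inv_smul]
  have eb : g • dec b = o'' := by rw [hbe, smul_inv_smul]
  subst ea; subst eb
  rw [mem_smul_iff, mem_smul_iff, mem_smul_iff, mem_dec_iff (by norm_num), mem_dec_iff (by norm_num),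
    mem_dec_iff (by norm_num)] at hp hq
  rw [smul_card_inter, smul_card_inter, card_inter_dec, card_inter_dec] at h
  obtain ⟨k, hk, hka⟩ := exists_smul_of_classesOK octLit_sub clsO22.1 clsO22.2 ha hb
    (by simp only [octIn2, hpa, hp.2.1, hq.2.1]; rfl) (by simp only [octIn2, hpb, hp.2.2, hq.2.2]; rfl)
    (by rw [Nat.and_comm, h, Nat.and_comm])
  exact ⟨g * k * g⁻¹, mul_mem (mul_mem hg (stabH_le _ _ hk)) (inv_mem hg),
    conj_point rfl (fix_smul hk (by norm_num) (by decide +kernel)),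
    conj_point rfl (fix_smul hk (by norm_num) (by decide +kernel)),
    conj_set rfl rfl ((mem_stabH.1 hk).2 oct0 (by simp)), conj_set rfl rfl hka⟩

theorem m22_heptads {p q : GolayPt} (hpq : p ≠ q) :
    {x : Finset GolayPt | (x ∈ octads ∧ p ∈ x ∧ q ∉ x)}.ncard = 176 ∧
    (∀ o o' : Finset GolayPt, (o ∈ octads ∧ p ∈ o ∧ q ∉ o) → (o' ∈ octads ∧ p ∈ o' ∧ q ∉ o') →
      ∃ g : Equiv.Perm GolayPt, g ∈ M24 ∧ g p = p ∧ g q = q ∧ g • o = o') ∧
    ∀ o : Finset GolayPt, (o ∈ octads ∧ p ∈ o ∧ q ∉ o) →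
      {x : Finset GolayPt | (x ∈ octads ∧ p ∈ x ∧ q ∉ x) ∧ (o ∩ x).card = 2}.ncard = 70 ∧
      {x : Finset GolayPt | (x ∈ octads ∧ p ∈ x ∧ q ∉ x) ∧ (o ∩ x).card = 4}.ncard = 105 ∧
      ∀ o' o'' : Finset GolayPt, (o' ∈ octads ∧ p ∈ o' ∧ q ∉ o') → (o'' ∈ octads ∧ p ∈ o'' ∧ q ∉ o'') →
        (o ∩ o').card = (o ∩ o'').card →
        ∃ g : Equiv.Perm GolayPt, g ∈ M24 ∧ g p = p ∧ g q = q ∧ g • o = o ∧ g • o' = o'' := by
  refine ⟨?_, ?_, ?_⟩
  · obtain ⟨g, hg, rfl, rfl⟩ := exists_map_pair hpq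
    rw [octads, ncard_transport hg (q := fun s => pt 23 ∈ s ∧ pt 0 ∉ s)
      (q' := fun s => g (pt 23) ∈ s ∧ g (pt 0) ∉ s) (fun s => by rw [mem_smul_iff, mem_smul_iff]),
      ncard_code_filter octList_eq_octLit.symm (fun m => m.testBit 23 && !m.testBit 0) fun m => by
        rw [mem_dec_iff (by norm_num), mem_dec_iff (by norm_num), Bool.and_eq_true, Bool.not_eq_true',
          Bool.not_eq_true]]
    decide +kernel
  · rintro o o' ⟨ho, hpo, hqo⟩ ⟨ho', hpo', hqo'⟩
    obtain ⟨g, hg, hgp, hgq, rfl⟩ := exists_octad_pair_sep ho hpo hqo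
    obtain ⟨k, hk, hkp, hkq, rfl⟩ := exists_octad_pair_sep ho' hpo' hqo'
    refine ⟨k * g⁻¹, mul_mem hk (inv_mem hg), ?_, ?_, by rw [mul_smul, inv_smul_smul]⟩
    · rw [Equiv.Perm.mul_apply, Equiv.Perm.inv_eq_iff_eq.2 hgp.symm, hkp]
    · rw [Equiv.Perm.mul_apply, Equiv.Perm.inv_eq_iff_eq.2 hgq.symm, hkq]
  · rintro o ⟨ho, hpo, hqo⟩
    obtain ⟨g, hg, rfl, rfl, rfl⟩ := exists_octad_pair_sep ho hpo hqo
    have hcount : ∀ k, {x : Finset GolayPt | (x ∈ octads ∧ g (pt 23) ∈ x ∧ g (pt 0) ∉ x) ∧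
        (g • dec oct1 ∩ x).card = k}.ncard =
        (octLit.filter fun m => (m.testBit 23 && (!m.testBit 0 && pop 24 (oct1 &&& m) == k))).length := by
      intro k
      simp only [and_assoc]
      rw [octads, ncard_transport hg (q := fun s => pt 23 ∈ s ∧ pt 0 ∉ s ∧ (dec oct1 ∩ s).card = k)
        (q' := fun s => g (pt 23) ∈ s ∧ g (pt 0) ∉ s ∧ (g • dec oct1 ∩ s).card = k)
        (fun s => by rw [mem_smul_iff, mem_smul_iff, smul_card_inter])]
      exact ncard_code_filter octList_eq_octLit.symm _ fun m => by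
        rw [mem_dec_iff (by norm_num), mem_dec_iff (by norm_num), card_inter_dec, Bool.and_eq_true,
          Bool.and_eq_true, Bool.not_eq_true', Bool.not_eq_true, beq_iff_eq]
    refine ⟨by rw [hcount]; decide +kernel, by rw [hcount]; decide +kernel, ?_⟩
    rintro o' o'' ⟨ho', hpo', hqo'⟩ ⟨ho'', hpo'', hqo''⟩ h
    obtain ⟨a, ha, hpa, hae⟩ := octad_mask (smul_mem_octads (inv_mem hg) ho')
    obtain ⟨b, hb, hpb, hbe⟩ := octad_mask (smul_mem_octads (inv_mem hg) ho'')
    have ea : g • dec a = o' := by rw [hae, smul_inv_smul]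
    have eb : g • dec b = o'' := by rw [hbe, smul_inv_smul]
    subst ea; subst eb
    rw [mem_smul_iff, mem_dec_iff (by norm_num)] at hpo' hpo''
    rw [mem_smul_iff, mem_dec_iff (by norm_num), Bool.not_eq_true] at hqo' hqo''
    rw [smul_card_inter, smul_card_inter, card_inter_dec, card_inter_dec] at h
    obtain ⟨k, hk, hka⟩ := exists_smul_of_classesOK octLit_sub clsO22b.1 clsO22b.2 ha hb
      (by simp only [octInOut, hpa, hpo', hqo']; rfl) (by simp only [octInOut, hpb, hpo'', hqo'']; rfl)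
      (by rw [Nat.and_comm, h, Nat.and_comm])
    exact ⟨g * k * g⁻¹, mul_mem (mul_mem hg (stabH_le _ _ hk)) (inv_mem hg),
      conj_point rfl (fix_smul hk (by norm_num) (by decide +kernel)),
      conj_point rfl (fix_smul hk (by norm_num) (by decide +kernel)),
      conj_set rfl rfl ((mem_stabH.1 hk).2 oct1 (by simp)), conj_set rfl rfl hka⟩

end CfsgLib.Golay
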