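import Cfsg.Agent.Lib.Golay.CodeAutData
import Cfsg.Agent.Lib.Golay.OrbitFacts

/-!
Certificate for the maps of the code that keep the orbits modulo the all-ones word.
-/

set_option autoImplicit false

namespace CfsgLib.Golay.CodeAut

open Cfsg CfsgLib.Golay

/-- equality of masks up to complementation -/
def modEq (a b : ℕ) : Bool := a == b || a == b ^^^ fullMask

/-- the weight up to complementation -/
def cls (m : ℕ) : ℕ := min (pop 24 m) (24 - pop 24 m)

/-- the admissible images of `O` when the earlier octads are fixed -/
def cands (prev : List ℕ) (O : ℕ) : List ℕ :=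
  octLit.filter fun v => (List.range (2 ^ prev.length)).all fun j =>
    cls (v ^^^ comb prev j) == cls (O ^^^ comb prev j)

/-- one step of the certificate -/
def okStep (prev : List ℕ) (t : ℕ × List ℕ) : Bool :=
  inC t.1 && pop 24 t.1 == 8 && decide (t.1 < 2 ^ 24) &&
    (cands prev t.1).length == t.2.length &&
    ((cands prev t.1).zip t.2).all fun vT => inM24 vT.2 && modEq (mimg vT.2 t.1) vT.1 &&
      prev.all fun p => modEq (mimg vT.2 p) p

/-- all steps -/
def okSteps : List ℕ → List (ℕ × List ℕ) → Bool
  | _, [] => true
  | prev, t :: ts => okStep prev t && okSteps (prev ++ [t.1]) ts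

theorem steps_chk : okSteps [] steps = true := by decide +kernel

theorem coefs_chk : ((rows.zip coefs).all fun t =>
    comb (steps.map (fun s => s.1) ++ [fullMask]) t.2 == t.1) = true ∧ rows.length = coefs.length := by
  decide +kernel

end CfsgLib.Golay.CodeAut
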