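import Cfsg.Agent.Lib.Golay.Octads
import Cfsg.Agent.S5623

/-!
Cosets of the Golay code and the punctured code of length 23.
-/

set_option autoImplicit false
set_option maxRecDepth 20000

namespace CfsgLib.Golay

open Cfsg

/-- points numbered by their bit position -/
def ptEquiv : GolayPt ≃ Fin 24 where
  toFun p := ⟨idx p, idx_lt p⟩
  invFun i := pt i
  left_inv := pt_idx
  right_inv i := Fin.ext (idx_pt i i.2)

/-- the transport of words -/
noncomputable def wordEquiv : (GolayPt → ZMod 2) ≃ₗ[ZMod 2] (Fin 24 → ZMod 2) :=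
  LinearEquiv.funCongrLeft (ZMod 2) (ZMod 2) ptEquiv.symm

theorem hammingNorm_comp {ι κ : Type*} [Fintype ι] [Fintype κ] (e : ι ≃ κ) (w : κ → ZMod 2) :
    hammingNorm (fun i => w (e i)) = hammingNorm w := by
  classical
  unfold hammingNorm
  refine Finset.card_bij (fun i _ => e i) (fun i hi => ?_) (fun a _ b _ h => e.injective h) fun b hb => ?_
  · simpa using hi
  · exact ⟨e.symm b, by simpa using hb, e.apply_symm_apply b⟩

theorem hammingNorm_wordEquiv (v : GolayPt → ZMod 2) : hammingNorm (wordEquiv v) = hammingNorm v :=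
  hammingNorm_comp ptEquiv.symm v

theorem hammingNorm_neg_sub (v w : GolayPt → ZMod 2) : w - v = v - w := by
  funext p; simp only [Pi.sub_apply, CharTwo.sub_eq_add, add_comm]

theorem golay_leaders (w : GolayPt → ZMod 2) :
    (∃ v : GolayPt → ZMod 2, {v : GolayPt → ZMod 2 | hammingNorm v ≤ 4 ∧ w - v ∈ golayCode} = {v} ∧
      hammingNorm v ≤ 3) ∨
    ({v : GolayPt → ZMod 2 | hammingNorm v ≤ 4 ∧ w - v ∈ golayCode}.ncard = 6 ∧
      ∀ v ∈ {v : GolayPt → ZMod 2 | hammingNorm v ≤ 4 ∧ w - v ∈ golayCode}, hammingNorm v = 4 ∧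
        ∀ u ∈ {v : GolayPt → ZMod 2 | hammingNorm v ≤ 4 ∧ w - v ∈ golayCode}, v ≠ u →
          ∀ p, v p ≠ 0 → u p = 0) := by
  classical
  have h := Cfsg.Agent.S5623.result (golayCode.map (wordEquiv : (GolayPt → ZMod 2) →ₗ[ZMod 2] _))
    ((wordEquiv.finrank_map_eq _).trans finrank_golayCode) ?_ ?_ (wordEquiv w)
  · have he : {u : Fin 24 → ZMod 2 | u - wordEquiv w ∈
          golayCode.map (wordEquiv : (GolayPt → ZMod 2) →ₗ[ZMod 2] _) ∧ hammingNorm u ≤ 4} =
        wordEquiv '' {v : GolayPt → ZMod 2 | hammingNorm v ≤ 4 ∧ w - v ∈ golayCode} := by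
      ext u
      obtain ⟨v, rfl⟩ := wordEquiv.surjective u
      rw [wordEquiv.injective.mem_set_image]
      simp only [Set.mem_ofPred_eq, Submodule.mem_map_equiv, map_sub, LinearEquiv.symm_apply_apply,
        hammingNorm_wordEquiv, hammingNorm_neg_sub v w, and_comm]
    rw [he] at h
    rcases h with ⟨u, hu, h3⟩ | ⟨hcard, hall⟩
    · obtain ⟨v, rfl⟩ := wordEquiv.surjective u
      rw [hammingNorm_wordEquiv] at h3
      rw [← Set.image_singleton] at hu
      exact Or.inl ⟨v, Set.image_injective.2 wordEquiv.injective hu, h3⟩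
    · rw [Set.ncard_image_of_injective _ wordEquiv.injective] at hcard
      refine Or.inr ⟨hcard, fun v hv => ?_⟩
      obtain ⟨h4, hd⟩ := hall _ (Set.mem_image_of_mem _ hv)
      rw [hammingNorm_wordEquiv] at h4
      refine ⟨h4, fun u hu hne p hp => ?_⟩
      by_contra hq
      exact Finset.disjoint_left.1 (hd _ (Set.mem_image_of_mem _ hu) fun e => hne (wordEquiv.injective e))
        (Finset.mem_filter.2 ⟨Finset.mem_univ (ptEquiv p), (by
          show v (ptEquiv.symm (ptEquiv p)) ≠ 0
          rwa [Equiv.symm_apply_apply])⟩)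
        (Finset.mem_filter.2 ⟨Finset.mem_univ (ptEquiv p), (by
          show u (ptEquiv.symm (ptEquiv p)) ≠ 0
          rwa [Equiv.symm_apply_apply])⟩)
  · rintro _ ⟨v, hv, rfl⟩ _ ⟨u, hu, rfl⟩
    rw [← self_orthogonal hv hu]
    exact Equiv.sum_comp ptEquiv.symm fun p => v p * u p
  · rintro _ ⟨v, hv, rfl⟩ hne
    show 8 ≤ hammingNorm (wordEquiv v)
    rw [hammingNorm_wordEquiv]
    have : hammingNorm v ≠ 0 := fun h0 => hne (by rw [hammingNorm_eq_zero.1 h0, map_zero])
    rcases weight_cases hv with h | h | h | h | h <;> omega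

/-- deleting the extra point -/
def punc (w : GolayPt → ZMod 2) : ZMod 23 → ZMod 2 := fun x => w (some x)

/-- the punctured code -/
def code23 : Set (ZMod 23 → ZMod 2) := {u | ∃ w ∈ golayCode, ∀ x : ZMod 23, u x = w (some x)}

theorem code23_eq : code23 = punc '' (golayCode : Set (GolayPt → ZMod 2)) := by
  ext u
  exact ⟨fun ⟨w, hw, h⟩ => ⟨w, hw, funext fun x => (h x).symm⟩, fun ⟨w, hw, h⟩ => ⟨w, hw, fun x => by rw [← h]; rfl⟩⟩

theorem norm_le_punc (w : GolayPt → ZMod 2) : hammingNorm w ≤ hammingNorm (punc w) + 1 := by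
  classical
  unfold hammingNorm punc
  have : (Finset.univ.filter fun p : GolayPt => w p ≠ 0) ⊆
      insert none ((Finset.univ.filter fun x : ZMod 23 => w (some x) ≠ 0).image some) := by
    intro p hp
    cases p with
    | none => exact Finset.mem_insert_self _ _
    | some x => simpa using hp
  exact (Finset.card_le_card this).trans ((Finset.card_insert_le _ _).trans
    (Nat.add_le_add_right Finset.card_image_le 1))

theorem punc_norm_lt {w : GolayPt → ZMod 2} (h : w none ≠ 0) :
    hammingNorm (punc w) + 1 = hammingNorm w := by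
  classical
  unfold hammingNorm punc
  have : (Finset.univ.filter fun p : GolayPt => w p ≠ 0) =
      insert none ((Finset.univ.filter fun x : ZMod 23 => w (some x) ≠ 0).image some) := by
    ext p
    cases p with
    | none => simp [h]
    | some x => simp
  rw [this, Finset.card_insert_of_notMem (by simp), Finset.card_image_of_injective _ (Option.some_injective _)]

theorem punc_norm_le (w : GolayPt → ZMod 2) : hammingNorm (punc w) ≤ hammingNorm w := by
  classical
  unfold hammingNorm punc
  exact Finset.card_le_card_of_injOn some (fun x hx => by simpa using hx) (Option.some_injective _).injOn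

theorem punc_injOn : Set.InjOn punc (golayCode : Set (GolayPt → ZMod 2)) := by
  intro a ha b hb h
  have hd : punc (a - b) = 0 := funext fun x => sub_eq_zero.2 (congrFun h x)
  have h1 := norm_le_punc (a - b)
  rw [hd, hammingNorm_zero] at h1
  have : hammingNorm (a - b) = 0 := by
    rcases weight_cases (Submodule.sub_mem _ ha hb) with e | e | e | e | e <;> omega
  exact sub_eq_zero.1 (hammingNorm_eq_zero.1 this)

theorem hammingNorm_punc_wd (m : ℕ) : hammingNorm (punc (wd m)) = pop 24 (m &&& 8388607) := by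
  classical
  have hbit : ∀ p : GolayPt, (8388607 : ℕ).testBit (idx p) = decide (p ≠ none) := by decide +kernel
  rw [← card_dec_eq_pop]
  unfold hammingNorm punc
  rw [← Finset.card_image_of_injective _ (Option.some_injective (ZMod 23))]
  congr 1
  ext p
  cases p with
  | none => simp [mem_dec, Nat.testBit_and, hbit]
  | some x => simp [mem_dec, Nat.testBit_and, hbit, wd_eq_one_iff]

theorem code23_min {u : ZMod 23 → ZMod 2} (hu : u ∈ code23) (hne : u ≠ 0) : 7 ≤ hammingNorm u := by
  rw [code23_eq] at hu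
  obtain ⟨w, hw, rfl⟩ := hu
  have : hammingNorm w ≠ 0 := fun h => hne (by rw [hammingNorm_eq_zero.1 h]; rfl)
  have := norm_le_punc w
  rcases weight_cases hw with e | e | e | e | e <;> omega

theorem ncard_code23 (q : (ZMod 23 → ZMod 2) → Prop) (f : ℕ → Bool)
    (h : ∀ m, q (punc (wd m)) ↔ f m = true) : {u | u ∈ code23 ∧ q u}.ncard = (codeList.filter f).length := by
  have he : {u | u ∈ code23 ∧ q u} = (punc ∘ wd) '' {m | m ∈ codeList.filter f} := by
    ext u
    simp only [Set.mem_ofPred_eq, Set.mem_image, code23_eq, List.mem_filter, Function.comp_apply]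
    constructor
    · rintro ⟨⟨w, hw, rfl⟩, hq⟩
      obtain ⟨m, hm, rfl⟩ := mem_golayCode_codeList.1 hw
      exact ⟨m, ⟨hm, (h m).1 hq⟩, rfl⟩
    · rintro ⟨m, ⟨hm, hf⟩, rfl⟩
      exact ⟨⟨wd m, mem_golayCode_codeList.2 ⟨m, hm, rfl⟩, rfl⟩, (h m).2 hf⟩
  rw [he, Set.InjOn.ncard_image (s := {m | m ∈ codeList.filter f}) fun a ha b hb e => ?_,
    ← List.toFinset_card_of_nodup (codeList_nodup.filter f), ← Set.ncard_coe_finset]
  · congr 1; ext; simp
  · have ha' := (List.mem_filter.1 ha).1
    have hb' := (List.mem_filter.1 hb).1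
    exact wd_inj (codeList_lt ha') (codeList_lt hb')
      (punc_injOn (mem_golayCode_codeList.2 ⟨a, ha', rfl⟩) (mem_golayCode_codeList.2 ⟨b, hb', rfl⟩) e)

theorem code23_perfect (u : ZMod 23 → ZMod 2) : ∃! c, c ∈ code23 ∧ hammingDist u c ≤ 3 := by
  classical
  obtain ⟨w0, hw0⟩ : ∃ w0 : GolayPt → ZMod 2, punc w0 = u :=
    ⟨fun p => p.elim 0 u, rfl⟩
  obtain ⟨v, hv, hle⟩ : ∃ v, w0 - v ∈ golayCode ∧ hammingNorm (punc v) ≤ 3 := by
    rcases golay_leaders w0 with ⟨v, hv, h3⟩ | ⟨h6, hall⟩
    · have : v ∈ ({v} : Set (GolayPt → ZMod 2)) := rfl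
      rw [← hv] at this
      exact ⟨v, this.2, (punc_norm_le v).trans h3⟩
    · set S := {v : GolayPt → ZMod 2 | hammingNorm v ≤ 4 ∧ w0 - v ∈ golayCode}
      by_contra hno
      push Not at hno
      have hnone : ∀ v ∈ S, v none = 0 := fun v hv => by
        by_contra hn
        have := punc_norm_lt hn
        have := hno v hv.2
        have := hv.1
        omega
      have hfin : S.Finite := Set.toFinite _
      let T : Finset (GolayPt → ZMod 2) := hfin.toFinset
      have hT : T.card = 6 := by rw [← Set.ncard_eq_toFinset_card S hfin]; exact h6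
      have hd : (T : Set (GolayPt → ZMod 2)).PairwiseDisjoint fun v => Finset.univ.filter fun p => v p ≠ 0 := by
        intro a ha b hb hab
        simp only [Function.onFun, Finset.disjoint_left, Finset.mem_filter, Finset.mem_univ, true_and]
        intro p hp hq
        exact hq ((hall a (hfin.mem_toFinset.1 ha)).2 b (hfin.mem_toFinset.1 hb) hab p hp)
      have hsum := Finset.card_biUnion hd
      have h24 : (T.biUnion fun v => Finset.univ.filter fun p => v p ≠ 0).card ≤ 23 := by
        refine (Finset.card_le_card (t := Finset.univ.erase (none : GolayPt)) fun p hp => ?_).trans (by simp)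
        obtain ⟨v, hv, hp⟩ := Finset.mem_biUnion.1 hp
        refine Finset.mem_erase.2 ⟨fun e => ?_, Finset.mem_univ _⟩
        subst e
        exact (Finset.mem_filter.1 hp).2 (hnone v (hfin.mem_toFinset.1 hv))
      have h4 : ∀ v ∈ T, (Finset.univ.filter fun p => v p ≠ 0).card = 4 :=
        fun v hv => (hall v (hfin.mem_toFinset.1 hv)).1
      rw [hsum, Finset.sum_congr rfl h4, Finset.sum_const, hT] at h24
      simp at h24
  have hdist : hammingDist u (punc (w0 - v)) ≤ 3 := by
    refine le_trans ?_ hle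
    subst hw0
    unfold hammingDist hammingNorm
    refine Finset.card_le_card fun x hx => ?_
    refine Finset.mem_filter.2 ⟨Finset.mem_univ _, fun h0 => (Finset.mem_filter.1 hx).2 ?_⟩
    simp only [punc, Pi.sub_apply] at h0 ⊢
    rw [h0, sub_zero]
  refine ⟨punc (w0 - v), ⟨code23_eq ▸ Set.mem_image_of_mem punc hv, hdist⟩, ?_⟩
  rintro c ⟨hc, hd⟩
  have hmem : c - punc (w0 - v) ∈ code23 := by
    rw [code23_eq] at hc ⊢
    obtain ⟨w, hw, rfl⟩ := hc
    exact ⟨w - (w0 - v), Submodule.sub_mem _ hw hv, rfl⟩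
  by_contra hne
  have h7 := code23_min hmem (sub_ne_zero.2 hne)
  have h2 := hammingDist_triangle c u (punc (w0 - v))
  rw [hammingDist_comm c u] at h2
  rw [← hammingDist_zero_right] at h7
  have : hammingDist c (punc (w0 - v)) = hammingDist (c - punc (w0 - v)) 0 := by
    simp only [hammingDist, Pi.sub_apply, Pi.zero_apply, sub_ne_zero]
  omega

end CfsgLib.Golay
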