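import Cfsg.Agent.Lib.Golay.Code

/-!
Weights of the length-24 code, self-orthogonality, and the octads as a Steiner system S(5,8,24).
-/

set_option autoImplicit false

namespace CfsgLib.Golay

open Cfsg

theorem comb_low_all : (List.range 4096).all (fun i => comb rows i % 4096 == i) = true := by
  decide +kernel

theorem comb_low : ∀ i ∈ List.range 4096, comb rows i % 4096 = i := fun i hi =>
  beq_iff_eq.1 (List.all_eq_true.1 comb_low_all i hi)

theorem codeList_nodup : codeList.Nodup := by
  refine (List.nodup_range.map_on fun a ha b hb h => ?_)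
  rw [← comb_low a ha, ← comb_low b hb, h]

theorem codeList_length : codeList.length = 4096 := by simp [codeList]

theorem codeList_bounds : codeList.all (fun m => decide (m < 2 ^ 24) &&
    (pop 24 m == 0 || pop 24 m == 8 || pop 24 m == 12 || pop 24 m == 16 || pop 24 m == 24)) = true := by
  decide +kernel

attribute [local irreducible] codeList

theorem codeList_lt {m : ℕ} (h : m ∈ codeList) : m < 2 ^ 24 := by
  have := List.all_eq_true.1 codeList_bounds m h
  simp only [Bool.and_eq_true, decide_eq_true_eq] at this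
  exact this.1

theorem codeList_weight {m : ℕ} (h : m ∈ codeList) :
    pop 24 m = 0 ∨ pop 24 m = 8 ∨ pop 24 m = 12 ∨ pop 24 m = 16 ∨ pop 24 m = 24 := by
  have := List.all_eq_true.1 codeList_bounds m h
  simp only [Bool.and_eq_true, Bool.or_eq_true, beq_iff_eq] at this
  obtain ⟨-, (((h | h) | h) | h) | h⟩ := this <;> simp [h]

theorem hammingNorm_eq_card_support₂ (w : GolayPt → ZMod 2) :
    hammingNorm w = (support₂ w).card := rfl

theorem hammingNorm_wd (m : ℕ) : hammingNorm (wd m) = pop 24 m := by
  rw [hammingNorm_eq_card_support₂, support_wd, card_dec_eq_pop]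

theorem mem_golayCode_codeList {w : GolayPt → ZMod 2} :
    w ∈ golayCode ↔ ∃ m ∈ codeList, wd m = w := by
  rw [mem_golayCode]
  constructor
  · rintro ⟨m, -, hc, rfl⟩; exact ⟨m, inC_iff_mem_codeList.1 hc, rfl⟩
  · rintro ⟨m, hm, rfl⟩; exact ⟨m, codeList_lt hm, inC_iff_mem_codeList.2 hm, rfl⟩

theorem weight_cases {w : GolayPt → ZMod 2} (hw : w ∈ golayCode) :
    hammingNorm w = 0 ∨ hammingNorm w = 8 ∨ hammingNorm w = 12 ∨ hammingNorm w = 16 ∨
      hammingNorm w = 24 := by
  obtain ⟨m, hm, rfl⟩ := mem_golayCode_codeList.1 hw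
  rw [hammingNorm_wd]; exact codeList_weight hm

theorem mem_supports_codeList {s : Finset GolayPt} :
    s ∈ supports (golayCode : Set (GolayPt → ZMod 2)) ↔ ∃ m ∈ codeList, dec m = s := by
  constructor
  · rintro ⟨w, hw, rfl⟩
    obtain ⟨m, hm, rfl⟩ := mem_golayCode_codeList.1 hw
    exact ⟨m, hm, (support_wd m).symm⟩
  · rintro ⟨m, hm, rfl⟩
    exact ⟨wd m, wd_mem_of_inC (inC_iff_mem_codeList.2 hm), support_wd m⟩

theorem card_supports {s : Finset GolayPt} (hs : s ∈ supports (golayCode : Set (GolayPt → ZMod 2))) :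
    s.card = 0 ∨ s.card = 8 ∨ s.card = 12 ∨ s.card = 16 ∨ s.card = 24 := by
  obtain ⟨m, hm, rfl⟩ := mem_supports_codeList.1 hs
  rw [card_dec_eq_pop]; exact codeList_weight hm

theorem symmDiff_mem_supports {s t : Finset GolayPt}
    (hs : s ∈ supports (golayCode : Set (GolayPt → ZMod 2)))
    (ht : t ∈ supports (golayCode : Set (GolayPt → ZMod 2))) :
    symmDiff s t ∈ supports (golayCode : Set (GolayPt → ZMod 2)) := by
  obtain ⟨v, hv, rfl⟩ := hs
  obtain ⟨w, hw, rfl⟩ := ht
  refine ⟨v + w, add_mem hv hw, ?_⟩
  ext p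
  simp only [support₂, Finset.mem_symmDiff, Finset.mem_filter, Finset.mem_univ, true_and, Pi.add_apply]
  generalize v p = a; generalize w p = b; revert a b; decide

theorem compl_mem_supports {s : Finset GolayPt}
    (hs : s ∈ supports (golayCode : Set (GolayPt → ZMod 2))) :
    sᶜ ∈ supports (golayCode : Set (GolayPt → ZMod 2)) := by
  have h := symmDiff_mem_supports hs (s := s) (t := Finset.univ)
    ⟨1, Submodule.subset_span (Or.inr rfl), by ext p; simp [support₂]⟩
  have he : symmDiff s Finset.univ = sᶜ := by
    ext p; simp [Finset.mem_symmDiff]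
  rwa [he] at h

/-- the masks of the octads -/
def octList : List ℕ := codeList.filter fun m => pop 24 m == 8

/-- the masks of the dodecads -/
def dodList : List ℕ := codeList.filter fun m => pop 24 m == 12

theorem octList_length : octList.length = 759 := by decide +kernel

theorem dodList_length : dodList.length = 2576 := by decide +kernel

theorem wordsOfWeight_eq (n : ℕ) :
    wordsOfWeight (golayCode : Set (GolayPt → ZMod 2)) n =
      dec '' {m | m ∈ codeList.filter fun m => pop 24 m == n} := by
  ext s
  simp only [wordsOfWeight, Set.mem_ofPred_eq, Set.mem_image, List.mem_filter, beq_iff_eq,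
    mem_supports_codeList]
  constructor
  · rintro ⟨⟨m, hm, rfl⟩, hc⟩; exact ⟨m, ⟨hm, by rwa [card_dec_eq_pop] at hc⟩, rfl⟩
  · rintro ⟨m, ⟨hm, hc⟩, rfl⟩; exact ⟨⟨m, hm, rfl⟩, by rwa [card_dec_eq_pop]⟩

theorem ncard_wordsOfWeight (n : ℕ) :
    (wordsOfWeight (golayCode : Set (GolayPt → ZMod 2)) n).ncard =
      (codeList.filter fun m => pop 24 m == n).length := by
  rw [wordsOfWeight_eq,
    Set.InjOn.ncard_image (s := {m | m ∈ codeList.filter fun m => pop 24 m == n}) fun a ha b hb h =>
    dec_inj (codeList_lt (List.mem_filter.1 ha).1) (codeList_lt (List.mem_filter.1 hb).1) h]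
  rw [← List.toFinset_card_of_nodup (codeList_nodup.filter _), ← Set.ncard_coe_finset]
  congr 1; ext; simp

theorem mem_octads {s : Finset GolayPt} : s ∈ octads ↔ ∃ m ∈ octList, dec m = s := by
  rw [octads, wordsOfWeight_eq]; rfl

theorem mem_dodecads {s : Finset GolayPt} : s ∈ dodecads ↔ ∃ m ∈ dodList, dec m = s := by
  rw [dodecads, wordsOfWeight_eq]; rfl

theorem ncard_octads : octads.ncard = 759 := by rw [octads, ncard_wordsOfWeight]; exact octList_length

theorem ncard_dodecads : dodecads.ncard = 2576 := by
  rw [dodecads, ncard_wordsOfWeight]; exact dodList_length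

theorem octad_eq_of_five {b c : Finset GolayPt} (hb : b ∈ octads) (hc : c ∈ octads)
    (h : 5 ≤ (b ∩ c).card) : b = c := by
  have h1 := card_supports (symmDiff_mem_supports hb.1 hc.1)
  have hcard : (symmDiff b c).card = (b \ c).card + (c \ b).card :=
    Finset.card_union_of_disjoint disjoint_sdiff_sdiff
  have e1 := Finset.card_sdiff_add_card_inter b c
  have e2 := Finset.card_sdiff_add_card_inter c b
  have e3 : (c ∩ b).card = (b ∩ c).card := by rw [Finset.inter_comm]
  have := hb.2; have := hc.2
  have : (symmDiff b c).card = 0 := by omega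
  exact symmDiff_eq_bot.1 (Finset.card_eq_zero.1 this)

theorem octads_finite : octads.Finite := Set.toFinite _

theorem octads_steiner : IsSteinerSystem 5 8 octads := by
  refine ⟨fun b hb => hb.2, fun s hs => ?_⟩
  classical
  let O := octads_finite.toFinset
  let X := O.biUnion fun b => b.powersetCard 5
  have hdisj : (O : Set (Finset GolayPt)).PairwiseDisjoint fun b => b.powersetCard 5 := by
    intro b hb c hc hne
    simp only [Function.onFun, Finset.disjoint_left, Finset.mem_powersetCard]
    rintro t ⟨htb, ht5⟩ ⟨htc, -⟩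
    exact hne (octad_eq_of_five (by simpa [O] using hb) (by simpa [O] using hc)
      (ht5 ▸ Finset.card_le_card (Finset.subset_inter htb htc)))
  have hX : X.card = 759 * 56 := by
    rw [Finset.card_biUnion hdisj]
    have he : ∀ b ∈ O, (b.powersetCard 5).card = 56 := by
      intro b hb
      rw [Finset.card_powersetCard, ((octads_finite.mem_toFinset).1 hb).2]; rfl
    rw [Finset.sum_congr rfl he, Finset.sum_const, smul_eq_mul, ← ncard_octads,
      Set.ncard_eq_toFinset_card _ octads_finite]
  have hU : X = (Finset.univ : Finset GolayPt).powersetCard 5 := by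
    refine Finset.eq_of_subset_of_card_le ?_ ?_
    · intro t ht
      simp only [X, Finset.mem_biUnion, Finset.mem_powersetCard] at ht ⊢
      obtain ⟨b, -, -, h⟩ := ht
      exact ⟨Finset.subset_univ _, h⟩
    · rw [hX, Finset.card_powersetCard, Finset.card_univ]
      have : Fintype.card GolayPt = 24 := by simp
      rw [this]; decide
  have hs' : s ∈ X := by rw [hU]; simp [Finset.mem_powersetCard, hs]
  simp only [X, Finset.mem_biUnion, Finset.mem_powersetCard] at hs'
  obtain ⟨b, hb, hsb, -⟩ := hs'
  have hb' : b ∈ octads := (octads_finite.mem_toFinset).1 hb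
  refine ⟨b, ⟨hb', hsb⟩, fun c ⟨hc, hsc⟩ => ?_⟩
  exact octad_eq_of_five hc hb' (hs ▸ Finset.card_le_card (Finset.subset_inter hsc hsb))

theorem gens_orth : ∀ g ∈ gensMasks, ∀ h ∈ gensMasks,
    (∑ p, wd g p * wd h p : ZMod 2) = 0 := by decide +kernel

theorem self_orthogonal {v w : GolayPt → ZMod 2} (hv : v ∈ golayCode) (hw : w ∈ golayCode) :
    ∑ p, v p * w p = 0 := by
  have hg : ∀ x ∈ Set.range qrWord ∪ {(1 : GolayPt → ZMod 2)}, ∃ g ∈ gensMasks, wd g = x := by
    rintro x (⟨t, rfl⟩ | rfl)
    · refine ⟨_, ?_, (qrWord_eq t).symm⟩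
      revert t; decide +kernel
    · exact ⟨_, by decide +kernel, one_eq.symm⟩
  induction hv using Submodule.span_induction with
  | mem x hx =>
    induction hw using Submodule.span_induction with
    | mem y hy =>
      obtain ⟨g, hg1, rfl⟩ := hg x hx
      obtain ⟨h, hh, rfl⟩ := hg y hy
      exact gens_orth g hg1 h hh
    | zero => simp
    | add y z _ _ a b => simp only [Pi.add_apply, mul_add, Finset.sum_add_distrib, a, b, add_zero]
    | smul c y _ a => simp only [Pi.smul_apply, smul_eq_mul, mul_left_comm _ c, ← Finset.mul_sum, a, mul_zero]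
  | zero => simp
  | add x y _ _ a b => simp only [Pi.add_apply, add_mul, Finset.sum_add_distrib, a, b, add_zero]
  | smul c x _ a => simp only [Pi.smul_apply, smul_eq_mul, mul_assoc, ← Finset.mul_sum, a, mul_zero]

theorem natCard_golayCode : Nat.card golayCode = 4096 := by
  have he : (golayCode : Set (GolayPt → ZMod 2)) = wd '' {m | m ∈ codeList} := by
    ext w; simp [mem_golayCode_codeList]
  rw [show Nat.card golayCode = (golayCode : Set (GolayPt → ZMod 2)).ncard from
      (Nat.card_coe_set_eq _), he,
    Set.InjOn.ncard_image (s := {m | m ∈ codeList}) fun a ha b hb h => wd_inj (codeList_lt ha) (codeList_lt hb) h,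
    ← codeList_length, ← List.toFinset_card_of_nodup codeList_nodup, ← Set.ncard_coe_finset]
  congr 1; ext; simp

theorem finrank_golayCode : Module.finrank (ZMod 2) golayCode = 12 := by
  have h := Module.natCard_eq_pow_finrank (K := ZMod 2) (V := golayCode)
  rw [natCard_golayCode, Nat.card_zmod] at h
  exact (Nat.pow_right_injective (le_refl 2) (h.symm.trans (by norm_num : (4096 : ℕ) = 2 ^ 12)))

end CfsgLib.Golay
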