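import Cfsg.Agent.Lib.Golay.Aut
import Cfsg.Agent.Lib.Golay.AutTwo

/-!
The stabilizer of two points has no subgroup of index 56 or 210.
-/

set_option autoImplicit false
set_option linter.style.haveILetI false

namespace CfsgLib.Golay.M22Index

open Cfsg CfsgLib.Golay CfsgLib.SelfCent CfsgLib.Golay.AutTwo
open scoped Pointwise

section General

variable {G : Type*} [Group G] [Finite G]

/-- a self-centralizing element stays so in a subgroup containing it -/
theorem isSelfCent_subtype {p : ℕ} {x : G} (h : IsSelfCent p x) {J : Subgroup G} (hx : x ∈ J) :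
    IsSelfCent p (⟨x, hx⟩ : J) := by
  refine ⟨h.1, by rw [← Subgroup.orderOf_coe]; exact h.2.1, le_antisymm ?_ ?_⟩
  · intro y hy
    rw [Subgroup.mem_centralizer_singleton_iff] at hy
    obtain ⟨k, hk⟩ := Subgroup.mem_zpowers_iff.mp (comm_mem_zpowers h (congrArg Subtype.val hy))
    exact Subgroup.mem_zpowers_iff.mpr ⟨k, Subtype.ext (by simpa using hk)⟩
  · rw [Subgroup.zpowers_le, Subgroup.mem_centralizer_singleton_iff]

/-- the Sylow count, with the index of the centralizer in the normalizer -/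
theorem count {p : ℕ} {x : G} (h : IsSelfCent p x) :
    ∃ n, Nat.card G = n * (p * eIdx x) ∧ n % p = 1 := by
  haveI : Fact p.Prime := ⟨h.1⟩
  obtain ⟨P, hP⟩ := exists_sylow h
  refine ⟨Nat.card (Sylow p G), ?_, ?_⟩
  · rw [← CfsgLib.SimpleCrit.card_nzr h, P.card_eq_index_normalizer]
    have hn : nzr x = Subgroup.normalizer ((P : Subgroup G) : Set G) := by rw [hP]
    rw [hn]
    exact (Subgroup.index_mul_card _).symm
  · have : Nat.card (Sylow p G) % p = 1 % p := card_sylow_modEq_one p G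
    rwa [Nat.mod_eq_of_lt h.1.one_lt] at this

theorem eIdx_dvd {p : ℕ} {x : G} (h : IsSelfCent p x) : eIdx x ∣ p - 1 :=
  ⟨_, (classes_mul_eIdx h).symm.trans (mul_comm _ _)⟩

end General

local notation "M" => fixH M24 F22

theorem exists_XYZ : ∃ X Y Z : M, IsSelfCent 11 X ∧ (∀ g : M, g * X * g⁻¹ ≠ X⁻¹) ∧ IsSelfCent 5 Y ∧
    Y * X = X ^ 9 * Y ∧ Subgroup.closure {X, Z} = ⊤ ∧
    (∀ g : M, g * Y = Y ^ 2 * g → ∃ j : ℕ, g = Y ^ j * Z) := by
  obtain ⟨hx, hy, hz⟩ := mem22
  obtain ⟨hy5, hyx, hzy, -, -⟩ := rel22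
  have hvx : validP elt22 = true := by decide +kernel
  have hvy : validP y22 = true := by decide +kernel
  have hvz : validP z22 = true := by decide +kernel
  have hpx := toPerm_powP hvx
  have hpy := toPerm_powP hvy
  set X : M := ⟨toPerm elt22, hx⟩ with hX
  set Y : M := ⟨toPerm y22, hy⟩ with hY
  set Z : M := ⟨toPerm z22, hz⟩ with hZ
  haveI : Fact (Nat.Prime 5) := ⟨by norm_num⟩
  have hxy : Y * X = X ^ 9 * Y := Subtype.ext (by
    simp only [hX, hY, Subgroup.coe_mul, Subgroup.coe_pow]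
    rw [← (hpx _).2, ← toPerm_mulP hvy hvx, ← toPerm_mulP (hpx _).1 hvy, hyx])
  have hzy' : Z * Y = Y ^ 2 * Z := Subtype.ext (by
    simp only [hY, hZ, Subgroup.coe_mul, Subgroup.coe_pow]
    rw [← (hpy _).2, ← toPerm_mulP hvz hvy, ← toPerm_mulP (hpy _).1 hvz, hzy])
  have hY5 : Y ^ 5 = 1 := Subtype.ext (by
    simp only [hY, Subgroup.coe_pow, Subgroup.coe_one]
    rw [← (hpy 5).2, hy5, (hpy 0).2, pow_zero])
  have hcand : ∀ g : M, g * Y = Y ^ 2 * g → ∃ j : ℕ, g = Y ^ j * Z := by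
    intro g hg
    obtain ⟨j, P, hP, hPe⟩ := exists_of_octOK le_rfl (by simp)
      (by rw [(hpy 2).2]; exact pow_mem hy 2) chk22 cand22 g.2
      (by rw [(hpy 2).2]; simpa [hY] using congrArg Subtype.val hg)
    rw [List.mem_singleton.1 hP, toPerm_mulP (hpy 4).1 hvz, (hpy 4).2, (hpy 2).2] at hPe
    refine ⟨2 * j + 4, ?_⟩
    rw [pow_add, pow_mul, mul_assoc]
    exact Subtype.ext (by simpa [hY, hZ] using hPe)
  obtain ⟨hx', h11, hinv⟩ := Aut.selfCent11
  refine ⟨X, Y, Z, h11, hinv, ⟨by norm_num, ?_, le_antisymm ?_ ?_⟩, hxy, ?_, hcand⟩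
  · refine orderOf_eq_prime hY5 fun h => ?_
    have hp := idx_toPerm hvy (pt 1)
    rw [show toPerm y22 = 1 from congrArg Subtype.val h, Equiv.Perm.one_apply] at hp
    revert hp
    decide +kernel
  · intro w hw
    rw [Subgroup.mem_centralizer_singleton_iff] at hw
    obtain ⟨j, hj⟩ := hcand (Z * w) (by rw [mul_assoc, hw, ← mul_assoc, hzy', mul_assoc])
    have hs : SemiconjBy Z Y (Y ^ 2) := hzy'
    have hY6 : (Y ^ 2) ^ (3 * j) = Y ^ j := by
      rw [← pow_mul, show 2 * (3 * j) = j + 5 * j by ring, pow_add, pow_mul, hY5, one_pow, mul_one]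
    rw [← hY6, ← (hs.pow_right (3 * j)).eq] at hj
    exact Subgroup.mem_zpowers_iff.2 ⟨(3 * j : ℕ), by rw [zpow_natCast]; exact (mul_left_cancel hj).symm⟩
  · rw [Subgroup.zpowers_le, Subgroup.mem_centralizer_singleton_iff]
  · set J := (Subgroup.closure {X, Z}).map (fixH M24 F22).subtype with hJ
    have hJle : J ≤ fixH M24 F22 := Subgroup.map_subtype_le _
    obtain ⟨hs1, hs2⟩ := slp22_chk
    have hC : ∀ L ∈ levs24.drop 2, Carries J [] L.gens := by
      intro L hL
      refine ⟨hJle.trans inf_le_left, by simp, fun P hP => ?_⟩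
      refine (slp_mem slp22 _ hs1 ?_ P ?_).2
      · intro Q hQ
        simp only [List.mem_cons, List.not_mem_nil, or_false] at hQ
        rcases hQ with rfl | rfl
        · exact ⟨hvx, X, Subgroup.subset_closure (by simp), rfl⟩
        · exact ⟨hvz, Z, Subgroup.subset_closure (by simp), rfl⟩
      · simpa [List.contains_iff_mem] using List.all_eq_true.1 (List.all_eq_true.1 hs2 L hL) P hP
    have hJF : fixH J F22 = J := by
      ext g
      rw [mem_fixH]
      exact ⟨fun h => h.1, fun h => ⟨h, (mem_fixH.1 (hJle h)).2⟩⟩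
    have hc := card_chain (levs24.drop 2) F22 hC (by decide +kernel)
    rw [hJF, fixH_eq_bot_of_stages (hJle.trans inf_le_left) (St := stages24) (by decide +kernel),
      Subgroup.card_bot, mul_one, show chainProd F22 (levs24.drop 2) = 443520 by decide +kernel,
      hJ, ← Nat.card_congr (Subgroup.equivMapOfInjective _ _
        (fixH M24 F22).subtype_injective).toEquiv] at hc
    exact Subgroup.eq_top_of_card_eq _ (by rw [hc, natCard_fix22])

theorem no_7920_2112 (J : Subgroup M) : Nat.card J ≠ 7920 ∧ Nat.card J ≠ 2112 := by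
  obtain ⟨X, Y, Z, hX, hinv, hY, hYX, hgen, hcand⟩ := exists_XYZ
  constructor <;> intro hJ
  swap
  · obtain ⟨e, n, he, hn, hmod⟩ := Aut.sylow_count hX (q := 5) rfl hinv J (by rw [hJ]; norm_num)
    rw [hJ] at hn
    rcases (Nat.dvd_prime Nat.prime_five).mp he with rfl | rfl <;> omega
  haveI : Fact (Nat.Prime 11) := ⟨by norm_num⟩
  obtain ⟨u, hu⟩ := exists_prime_orderOf_dvd_card' (G := J) 11 (by rw [hJ]; norm_num)
  obtain ⟨a, ha⟩ := card_P_mem_conj hX (H := Subgroup.zpowers (u : M))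
    (by rw [Nat.card_zpowers, Subgroup.orderOf_coe, hu])
  -- a conjugate through the standard element
  set J' := J.map (MulAut.conj a⁻¹).toMonoidHom with hJ'
  have hcJ' : Nat.card J' = 7920 := by
    rw [hJ', ← Nat.card_congr (Subgroup.equivMapOfInjective _ _ (MulAut.conj a⁻¹).injective).toEquiv, hJ]
  have hXJ : X ∈ J' := by
    refine ⟨a * X * a⁻¹, ?_, by simp [mul_assoc]⟩
    refine Subgroup.zpowers_le.mpr u.2 ?_
    rw [← ha]
    exact ⟨X, Subgroup.mem_zpowers _, by simp⟩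
  -- the normalizer of the element of order eleven
  have hx := isSelfCent_subtype hX hXJ
  have hinv' : ∀ g : J', g * ⟨X, hXJ⟩ * g⁻¹ ≠ (⟨X, hXJ⟩ : J')⁻¹ := fun g hg =>
    hinv g (congrArg Subtype.val hg)
  have he5 : eIdx (⟨X, hXJ⟩ : J') = 5 := by
    obtain ⟨n, hn, hmod⟩ := count hx
    rw [hcJ'] at hn
    rcases (Nat.dvd_prime Nat.prime_five).mp (CfsgLib.SimpleCrit.eIdx_dvd_q hx rfl hinv') with he | he
    · rw [he] at hn; omega
    · exact he
  have hYJ : Y ∈ J' := by
    have hle : (nzr (⟨X, hXJ⟩ : J')).map J'.subtype ≤ nzr X := by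
      rintro _ ⟨g, hg, rfl⟩
      obtain ⟨k, hk⟩ := Subgroup.mem_zpowers_iff.mp ((mem_nzr_iff hx).mp hg)
      exact (mem_nzr_iff hX).mpr (Subgroup.mem_zpowers_iff.mpr ⟨k, by simpa using congrArg Subtype.val hk⟩)
    have heq := Subgroup.eq_of_le_of_card_ge hle (by
      rw [← Nat.card_congr (Subgroup.equivMapOfInjective _ _ J'.subtype_injective).toEquiv,
        CfsgLib.SimpleCrit.card_nzr hx, he5, CfsgLib.SimpleCrit.card_nzr hX]
      exact Nat.mul_le_mul_left _ (Nat.le_of_dvd (by norm_num) (CfsgLib.SimpleCrit.eIdx_dvd_q hX rfl hinv)))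
    have hY' : Y ∈ nzr X := (mem_nzr_iff hX).mpr
      (Subgroup.mem_zpowers_iff.mpr ⟨(9 : ℕ), by rw [zpow_natCast, hYX, mul_inv_cancel_right]⟩)
    rw [← heq] at hY'
    obtain ⟨g, -, rfl⟩ := hY'
    exact g.2
  -- the normalizer of the element of order five
  have hy := isSelfCent_subtype hY hYJ
  have he4 : eIdx (⟨Y, hYJ⟩ : J') = 4 := by
    obtain ⟨n, hn, hmod⟩ := count hy
    rw [hcJ'] at hn
    have h4 : eIdx (⟨Y, hYJ⟩ : J') ∣ 4 := eIdx_dvd hy
    have hmem : eIdx (⟨Y, hYJ⟩ : J') ∈ Nat.divisors 4 := Nat.mem_divisors.2 ⟨h4, by norm_num⟩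
    rw [show Nat.divisors 4 = {1, 2, 4} by decide] at hmem
    simp only [Finset.mem_insert, Finset.mem_singleton] at hmem
    rcases hmem with he | he | he <;> rw [he] at hn <;> omega
  have h20 : Nat.card (nzr (⟨Y, hYJ⟩ : J')) = 20 := by rw [CfsgLib.SimpleCrit.card_nzr hy, he4]
  obtain ⟨g, hg⟩ : ∃ g : J', g * ⟨Y, hYJ⟩ = (⟨Y, hYJ⟩ : J') ^ 2 * g := by
    by_contra hno
    push Not at hno
    set y : J' := ⟨Y, hYJ⟩ with hydef
    have hy5 : y ^ (5 : ℕ) = 1 := by rw [← hy.2.1, pow_orderOf_eq_one]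
    let A : Set J' := {w | w * y = y * w}
    let B : Set J' := {w | w * y = y⁻¹ * w}
    have hA : A ⊆ (Subgroup.zpowers y : Set J') := fun w hw => comm_mem_zpowers hy hw
    have hA5 : A.ncard ≤ 5 := by
      refine (Set.ncard_le_ncard hA (Set.toFinite _)).trans (le_of_eq ?_)
      rw [← Nat.card_coe_set_eq]
      exact hy.card_P
    have hB5 : B.ncard ≤ 5 := by
      rcases B.eq_empty_or_nonempty with h | ⟨b, hb⟩
      · rw [h, Set.ncard_empty]; norm_num
      refine le_trans (Set.ncard_le_ncard_of_injOn (fun w => b⁻¹ * w) (fun w hw => ?_)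
        (mul_right_injective _).injOn (Set.toFinite _)) hA5
      show b⁻¹ * w * y = y * (b⁻¹ * w)
      have hbb : b⁻¹ * y⁻¹ = y * b⁻¹ := by
        rw [inv_mul_eq_iff_eq_mul, ← mul_assoc, show b * y = y⁻¹ * b from hb, mul_inv_cancel_right]
      rw [mul_assoc, show w * y = y⁻¹ * w from hw, ← mul_assoc, hbb, mul_assoc]
    have hsub : (nzr y : Set J') ⊆ A ∪ B := by
      intro w hw
      obtain ⟨i, hi⟩ := (mem_powers_iff_mem_zpowers.2 ((mem_nzr_iff hy).mp hw))
      have hi' : w * y = y ^ (i % 5) * w := by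
        rw [← hy.2.1, pow_mod_orderOf, show y ^ i = w * y * w⁻¹ from hi, inv_mul_cancel_right]
      have h5 : i % 5 < 5 := Nat.mod_lt _ (by norm_num)
      interval_cases (i % 5)
      · rw [pow_zero, one_mul] at hi'
        exact absurd (mul_left_cancel (hi'.trans (mul_one w).symm)) hy.ne_one
      · exact Or.inl (by simpa [A] using hi')
      · exact absurd hi' (hno w)
      · refine absurd ?_ (hno w⁻¹)
        have hs : SemiconjBy w y (y ^ 3) := hi'
        have h2 : w * y ^ 2 = y * w := by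
          rw [(hs.pow_right 2).eq, ← pow_mul, show 3 * 2 = 5 + 1 by rfl, pow_succ, hy5, one_mul]
        rw [inv_mul_eq_iff_eq_mul, ← mul_assoc, h2, mul_inv_cancel_right]
      · refine Or.inr ?_
        show w * y = y⁻¹ * w
        rw [hi', show y ^ 4 = y⁻¹ from eq_inv_of_mul_eq_one_left (by rw [← pow_succ, hy5])]
    have := (Set.ncard_le_ncard hsub (Set.toFinite _)).trans (Set.ncard_union_le A B)
    rw [← Nat.card_coe_set_eq] at this
    change Nat.card (nzr y) ≤ _ at this
    omega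
  obtain ⟨j, hj⟩ := hcand g (congrArg Subtype.val hg)
  have hZJ : Z ∈ J' := by
    rw [show Z = (Y ^ j)⁻¹ * (g : M) by rw [hj, inv_mul_cancel_left]]
    exact mul_mem (inv_mem (pow_mem hYJ j)) g.2
  have htop : J' = ⊤ := eq_top_iff.2 (hgen ▸ (Subgroup.closure_le _).2 (by
    rintro w (rfl | rfl) <;> assumption))
  rw [htop, Subgroup.card_top, natCard_fix22] at hcJ'
  omega

/-- The stabilizer of two points has no subgroup of index 56 or 210. -/
theorem no_index_56_210 {p q : GolayPt} (hpq : p ≠ q)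
    (H : Subgroup ↥(MulAction.stabilizer Cfsg.M24 p ⊓ MulAction.stabilizer Cfsg.M24 q)) :
    H.index ≠ 56 ∧ H.index ≠ 210 := by
  obtain ⟨e⟩ := nonempty_equiv22 hpq
  have h := Subgroup.card_mul_index H
  rw [Nat.card_congr e.toEquiv, natCard_fix22,
    Nat.card_congr (Subgroup.equivMapOfInjective H e.toMonoidHom e.injective).toEquiv] at h
  obtain ⟨h1, h2⟩ := no_7920_2112 (H.map e.toMonoidHom)
  constructor <;> intro h' <;> rw [h'] at h <;> omega

end CfsgLib.Golay.M22Index
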