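import Cfsg.Agent.Lib.Golay.M24
import Cfsg.Agent.Lib.Golay.Commute
import Cfsg.Agent.Lib.Groups.SimpleCrit

/-!
Orders, transitivity and simplicity of the five Mathieu groups as subgroups of the group of the code.
-/

set_option autoImplicit false

namespace CfsgLib.Golay

open Cfsg
open scoped Pointwise

theorem carries_fix {H : Subgroup (Equiv.Perm GolayPt)} {extra : List ℕ} {F : ℕ} (Ls : List Lev)
    (hC : ∀ L ∈ Ls, Carries H extra L.gens)
    (hchk : Ls.all (fun L => L.gens.all fun g => validP g && fixes g F) = true) :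
    ∀ L ∈ Ls, Carries (fixH H F) extra L.gens := by
  intro L hL
  refine ⟨inf_le_left.trans (hC L hL).le, fun o ho g hg => (hC L hL).pres o ho g hg.1, fun P hP => ?_⟩
  have h1 := List.all_eq_true.1 (List.all_eq_true.1 hchk L hL) P hP
  rw [Bool.and_eq_true] at h1
  exact mem_fixH.2 ⟨(hC L hL).mem P hP, fun p hp => fixes_apply h1.1 h1.2 hp⟩

theorem carries_sub {H : Subgroup (Equiv.Perm GolayPt)} {extra : List ℕ} {Ls Ms : List Lev}
    (hsub : Ms ⊆ Ls) (hC : ∀ L ∈ Ls, Carries H extra L.gens) : ∀ L ∈ Ms, Carries H extra L.gens :=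
  fun L hL => hC L (hsub hL)

/-- a group of permutations that is two-transitive on `A` and fixes `A` setwise -/
structure TwoTrans (H : Subgroup (Equiv.Perm GolayPt)) (A : Finset GolayPt) : Prop where
  stable : ∀ g ∈ H, ∀ p ∈ A, g p ∈ A
  trans : ∀ a ∈ A, ∀ b ∈ A, ∀ c ∈ A, ∀ d ∈ A, a ≠ b → c ≠ d → ∃ g ∈ H, g a = c ∧ g b = d
  faithful : ∀ g ∈ H, (∀ p ∈ A, g p = p) → g = 1

theorem twoTrans_of_chain {H : Subgroup (Equiv.Perm GolayPt)} {extra : List ℕ} {F A : ℕ} {L M : Lev}
    (hC : ∀ K ∈ [L, M], Carries H extra K.gens)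
    (hchk : [L, M].all (fun K => K.gens.all fun g => validP g && fixes g F) = true)
    (hok : chainOK extra F [L, M] = true) (hfull : chainFull A F [L, M] = true)
    (hAF : A &&& F = 0) (hA : ∀ g ∈ fixH H F, g • dec A = dec A)
    (hfaith : ∀ g ∈ fixH H F, (∀ p ∈ dec A, g p = p) → g = 1) :
    TwoTrans (fixH H F) (dec A) := by
  refine ⟨fun g hg p hp => ?_, fun a ha b hb c hc d hd hab hcd => ?_, hfaith⟩
  · rw [← hA g hg]; exact Finset.smul_mem_smul_finset hp
  · have hnF : ∀ p ∈ dec A, p ∉ dec F := by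
      intro p hp hpF
      have : p ∈ dec (A &&& F) := by rw [dec_and, Finset.mem_inter]; exact ⟨hp, hpF⟩
      rw [hAF] at this
      simp [mem_dec] at this
    have key : ∀ u ∈ dec A, ∀ v ∈ dec A, u ≠ v →
        ∃ g ∈ fixH H F, g (pt L.b) = u ∧ g (pt M.b) = v := by
      intro u hu v hv huv
      obtain ⟨g, hg, -, hmap⟩ := exists_map_chain [L, M] F 1 [u, v] (carries_fix _ hC hchk) hok hfull
        (one_mem _) (one_smul _ _) rfl (by simp [huv])
        (fun p hp => by
          rw [one_smul]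
          simp only [List.mem_cons, List.not_mem_nil, or_false] at hp
          rcases hp with rfl | rfl
          · exact ⟨hu, hnF _ hu⟩
          · exact ⟨hv, hnF _ hv⟩) hA
      simp only [List.map_cons, List.map_nil, List.cons.injEq, and_true] at hmap
      exact ⟨g, hg, hmap.1, hmap.2⟩
    obtain ⟨g, hg, hga, hgb⟩ := key a ha b hb hab
    obtain ⟨k, hk, hkc, hkd⟩ := key c hc d hd hcd
    exact ⟨k * g⁻¹, mul_mem hk (inv_mem hg), by simp [← hga, hkc], by simp [← hgb, hkd]⟩

/-- a nontrivial normal subgroup of a two-transitive group is transitive -/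
theorem TwoTrans.normal_trans {H : Subgroup (Equiv.Perm GolayPt)} {A : Finset GolayPt}
    (h : TwoTrans H A) {N : Subgroup H} (hN : N.Normal) (hne : N ≠ ⊥) {u v : GolayPt} (hu : u ∈ A)
    (hv : v ∈ A) : ∃ n ∈ N, (n : Equiv.Perm GolayPt) u = v := by
  obtain ⟨n, hn, hn1⟩ := N.bot_or_exists_ne_one.resolve_left hne
  obtain ⟨a, ha, hab⟩ : ∃ a ∈ A, (n : Equiv.Perm GolayPt) a ≠ a := by
    by_contra hc
    push Not at hc
    exact hn1 (Subtype.ext (h.faithful _ n.2 hc))
  have hba := h.stable _ n.2 a ha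
  rcases eq_or_ne u v with rfl | huv
  · exact ⟨1, one_mem _, rfl⟩
  obtain ⟨g, hg, hga, hgb⟩ := h.trans a ha _ hba u hu v hv (Ne.symm hab) huv
  refine ⟨⟨g, hg⟩ * n * ⟨g, hg⟩⁻¹, hN.conj_mem n hn _, ?_⟩
  simp [← hga, hgb]

theorem TwoTrans.card_dvd {H : Subgroup (Equiv.Perm GolayPt)} {A : Finset GolayPt}
    (h : TwoTrans H A) {N : Subgroup H} (hN : N.Normal) (hne : N ≠ ⊥) : A.card ∣ Nat.card N := by
  rcases A.eq_empty_or_nonempty with rfl | ⟨a, ha⟩
  · exfalso
    obtain ⟨n, -, hn1⟩ := N.bot_or_exists_ne_one.resolve_left hne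
    exact hn1 (Subtype.ext (h.faithful _ n.2 (by simp)))
  have horb : MulAction.orbit N a = (A : Set GolayPt) := by
    ext p
    constructor
    · rintro ⟨n, rfl⟩; exact h.stable _ (n : H).2 a ha
    · intro hp
      obtain ⟨n, hn, hna⟩ := h.normal_trans hN hne ha hp
      exact ⟨⟨n, hn⟩, hna⟩
  rw [← Nat.card_congr (MulAction.orbitProdStabilizerEquivGroup N a), Nat.card_prod, horb,
    Nat.card_coe_set_eq, Set.ncard_coe_finset]
  exact dvd_mul_right _ _

theorem selfCent_of_conjOK {H : Subgroup (Equiv.Perm GolayPt)} {F : ℕ} {inv : List ℕ} {x : ℕ}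
    {reps : List ℕ} {dom : List (ℕ × ℕ)} {p : ℕ} (hp : p.Prime) (hH : H ≤ M24)
    (hpres : ∀ o ∈ inv, o < 2 ^ 24 ∧ ∀ g ∈ H, g • dec o = dec o) (hx : toPerm x ∈ fixH H F)
    (hpow : powP x p = powP x 0) (hne : ∃ i ∈ List.range 24, ap x i ≠ i)
    (hc : conjOK F inv x x reps dom ((List.range p).map (powP x)) = true)
    (hi : conjOK F inv x (powP x (p - 1)) reps dom [] = true) :
    CfsgLib.SelfCent.IsSelfCent p (⟨toPerm x, hx⟩ : fixH H F) ∧
      ∀ g : fixH H F, g * ⟨toPerm x, hx⟩ * g⁻¹ ≠ (⟨toPerm x, hx⟩ : fixH H F)⁻¹ := by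
  have hvx : validP x = true := by
    simp only [conjOK, domOK, Bool.and_eq_true] at hc; exact hc.1.1.1.1.1
  have hpw := toPerm_powP hvx
  have hxp : toPerm x ^ p = 1 := by
    rw [← (hpw p).2, hpow, (hpw 0).2, pow_zero]
  have hx1 : toPerm x ≠ 1 := by
    intro h
    obtain ⟨i, hi, hne⟩ := hne
    rw [List.mem_range] at hi
    exact hne (by simpa [h, idx_pt i hi] using (idx_toPerm hvx (pt i)).symm)
  haveI : Fact p.Prime := ⟨hp⟩
  refine ⟨⟨hp, ?_, le_antisymm ?_ ?_⟩, fun g hg => ?_⟩
  · refine orderOf_eq_prime (Subtype.ext (by simpa using hxp)) fun h => hx1 (congrArg Subtype.val h)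
  · intro g hg
    rw [Subgroup.mem_centralizer_singleton_iff] at hg
    obtain ⟨P, hP, hgP⟩ := eq_of_conjOK hH hpres hc g.2 (congrArg Subtype.val hg)
    obtain ⟨k, -, rfl⟩ := List.mem_map.1 hP
    exact Subgroup.mem_zpowers_iff.2 ⟨k, Subtype.ext (by
      rw [hgP, (hpw k).2]; simp)⟩
  · rw [Subgroup.zpowers_le, Subgroup.mem_centralizer_singleton_iff]
  · have h1 : (g : Equiv.Perm GolayPt) * toPerm x * (g : Equiv.Perm GolayPt)⁻¹ = (toPerm x)⁻¹ :=
      congrArg Subtype.val hg
    have h2 : (toPerm x)⁻¹ = toPerm (powP x (p - 1)) := by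
      rw [(hpw (p - 1)).2]
      refine inv_eq_of_mul_eq_one_right ?_
      rw [← pow_succ', Nat.sub_add_cancel hp.one_lt.le, hxp]
    obtain ⟨P, hP, -⟩ := eq_of_conjOK hH hpres hi g.2
      (by rw [← h2, ← h1, inv_mul_cancel_right])
    simp at hP

/-! ### The chain pieces -/

/-- the mask fixed by the copy of the group on 23 points -/
def F23 : ℕ := 2 ^ 23

/-- the mask fixed by the copy of the group on 22 points -/
def F22 : ℕ := 2 ^ 23 ||| 1

theorem natCard_fix23 : Nat.card (fixH M24 F23) = 10200960 := by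
  rw [card_chain (levs24.drop 1) F23 (carries_sub (List.drop_subset _ _) carries24)
      (by decide +kernel), fixH_eq_bot_of_stages le_rfl (St := stages24) (by decide +kernel),
    Subgroup.card_bot, mul_one]
  decide +kernel

theorem natCard_fix22 : Nat.card (fixH M24 F22) = 443520 := by
  rw [card_chain (levs24.drop 2) F22 (carries_sub (List.drop_subset _ _) carries24)
      (by decide +kernel), fixH_eq_bot_of_stages le_rfl (St := stages24) (by decide +kernel),
    Subgroup.card_bot, mul_one]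
  decide +kernel

theorem fix_compl {F : ℕ} {g : Equiv.Perm GolayPt} (hg : g ∈ fixH M24 F) :
    g • dec (F ^^^ fullMask) = dec (F ^^^ fullMask) := by
  refine Finset.eq_of_subset_of_card_le (fun q hq => ?_) (le_of_eq (Finset.card_smul_finset _ _).symm)
  obtain ⟨p, hp, rfl⟩ := Finset.mem_smul_finset.1 hq
  have := mem_atom (mem_fixH.1 hg).2 [] (by simp) (p := p) ?_
  · exact this
  · intro h
    rw [mem_dec, Nat.testBit_xor, testBit_fullMask, mem_dec.1 h] at hp
    simp [idx_lt p] at hp

theorem fix_faithful {F : ℕ} {g : Equiv.Perm GolayPt} (hg : g ∈ fixH M24 F)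
    (h : ∀ p ∈ dec (F ^^^ fullMask), g p = p) : g = 1 := by
  refine Equiv.ext fun p => ?_
  by_cases hp : p ∈ dec F
  · exact (mem_fixH.1 hg).2 p hp
  · refine h p ?_
    rw [mem_dec] at hp ⊢
    rw [Nat.testBit_xor, testBit_fullMask]
    simp [idx_lt p, Bool.not_eq_true _ ▸ hp]

theorem twoTrans24 : TwoTrans (fixH M24 0) (dec fullMask) :=
  twoTrans_of_chain (L := levs24.getD 0 ⟨0, [], []⟩) (M := levs24.getD 1 ⟨0, [], []⟩)
    (extra := [])
    (carries_sub (Ls := levs24) (List.take_subset 2 levs24) carries24)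
    (by decide +kernel) (by decide +kernel) (by decide +kernel) (by decide +kernel)
    (fun g hg => by simpa using fix_compl (F := 0) hg)
    (fun g hg h => fix_faithful (F := 0) hg (by simpa using h))

theorem twoTrans23 : TwoTrans (fixH M24 F23) (dec (F23 ^^^ fullMask)) :=
  twoTrans_of_chain (L := levs24.getD 1 ⟨0, [], []⟩) (M := levs24.getD 2 ⟨0, [], []⟩)
    (extra := [])
    (carries_sub (Ls := levs24) (fun _ h => List.drop_subset 1 levs24 (List.take_subset 2 _ h)) carries24)
    (by decide +kernel) (by decide +kernel) (by decide +kernel) (by decide +kernel)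
    (fun _ hg => fix_compl hg) (fun _ hg h => fix_faithful hg h)

theorem twoTrans22 : TwoTrans (fixH M24 F22) (dec (F22 ^^^ fullMask)) :=
  twoTrans_of_chain (L := levs24.getD 2 ⟨0, [], []⟩) (M := levs24.getD 3 ⟨0, [], []⟩)
    (extra := [])
    (carries_sub (Ls := levs24) (fun _ h => List.drop_subset 2 levs24 (List.take_subset 2 _ h)) carries24)
    (by decide +kernel) (by decide +kernel) (by decide +kernel) (by decide +kernel)
    (fun _ hg => fix_compl hg) (fun _ hg h => fix_faithful hg h)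

/-- representatives and exponents for the translation -/
def domShift : List (ℕ × ℕ) :=
  [(0, 0), (0, 1), (0, 2), (0, 3), (0, 4), (0, 5), (0, 6), (0, 7), (0, 8), (0, 9), (0, 10), (0, 11),
   (0, 12), (0, 13), (0, 14), (0, 15), (0, 16), (0, 17), (0, 18), (0, 19), (0, 20), (0, 21), (0, 22),
   (1, 0)]

/-- representatives and exponents for multiplication by two -/
def dom22 : List (ℕ × ℕ) :=
  [(0, 0), (1, 0), (1, 1), (1, 8), (1, 2), (2, 0), (1, 9), (2, 9), (1, 3), (1, 5), (2, 1), (2, 4),
   (1, 10), (1, 7), (2, 10), (2, 8), (1, 4), (2, 3), (1, 6), (2, 7), (2, 2), (2, 6), (2, 5), (3, 0)]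

/-- representatives and exponents for the element of order eleven of the smallest group -/
def dom11 : List (ℕ × ℕ) :=
  [(0, 0), (0, 9), (0, 10), (0, 2), (0, 7), (0, 5), (1, 0), (1, 1), (1, 6), (0, 3), (1, 4), (0, 6),
   (0, 8), (1, 7), (1, 2), (0, 4), (0, 1), (2, 0), (1, 9), (1, 3), (1, 8), (1, 5), (1, 10), (3, 0)]

theorem toPerm_mem_fix24 {P F : ℕ} (h1 : inM24 P = true) (h2 : fixes P F = true) :
    toPerm P ∈ fixH M24 F := by
  have hv : validP P = true := by simp only [inM24, Bool.and_eq_true] at h1; exact h1.1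
  exact mem_fixH.2 ⟨toPerm_mem_M24 h1, fun p hp => fixes_apply hv h2 hp⟩

theorem isSimpleGroup_fix23 : IsSimpleGroup (fixH M24 F23) := by
  have hx : toPerm shiftP ∈ fixH M24 F23 := toPerm_mem_fix24 (by decide +kernel) (by decide +kernel)
  obtain ⟨h, hinv⟩ := selfCent_of_conjOK (p := 23) (reps := [0, 23]) (dom := domShift) (inv := [])
    (by norm_num) le_rfl (by simp) hx (by decide +kernel) (by decide +kernel) (by decide +kernel)
    (by decide +kernel)
  refine CfsgLib.SimpleCrit.isSimpleGroup_of_selfCent (q := 11) h (by norm_num) rfl hinv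
    (fun N hN hne => ?_) (by rw [natCard_fix23]; norm_num)
  have := twoTrans23.card_dvd hN hne
  rwa [card_dec_eq_pop, show pop 24 (F23 ^^^ fullMask) = 23 by decide +kernel] at this

theorem isSimpleGroup_fix22 : IsSimpleGroup (fixH M24 F22) := by
  have hx : toPerm elt22 ∈ fixH M24 F22 := toPerm_mem_fix24 (by decide +kernel) (by decide +kernel)
  obtain ⟨h, hinv⟩ := selfCent_of_conjOK (p := 11) (reps := [0, 1, 5, 23]) (dom := dom22) (inv := [])
    (by norm_num) le_rfl (by simp) hx (by decide +kernel) (by decide +kernel) (by decide +kernel)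
    (by decide +kernel)
  refine CfsgLib.SimpleCrit.isSimpleGroup_of_selfCent (q := 5) h (by norm_num) rfl hinv
    (fun N hN hne => ?_) (by rw [natCard_fix22]; norm_num)
  have h22 := twoTrans22.card_dvd hN hne
  rw [card_dec_eq_pop, show pop 24 (F22 ^^^ fullMask) = 22 by decide +kernel] at h22
  exact dvd_trans ⟨2, rfl⟩ h22

/-! ### The dodecad stabilizer -/

/-- the stabilizer of the base dodecad -/
noncomputable def H12 : Subgroup (Equiv.Perm GolayPt) :=
  M24 ⊓ MulAction.stabilizer (Equiv.Perm GolayPt) (dec dod0)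

theorem dod0_mem : dec dod0 ∈ dodecads :=
  ⟨⟨wd dod0, wd_mem_of_inC (by decide +kernel), support_wd _⟩, by
    rw [card_dec_eq_pop]; decide +kernel⟩

theorem H12_pres : ∀ o ∈ [dod0], ∀ g ∈ H12, g • dec o = dec o := by
  intro o ho g hg
  rw [List.mem_singleton.1 ho]
  exact hg.2

theorem toPerm_mem_H12 {P : ℕ} (h1 : inM24 P = true) (h2 : mimg P dod0 = dod0) :
    toPerm P ∈ H12 := by
  have hv : validP P = true := by simp only [inM24, Bool.and_eq_true] at h1; exact h1.1
  exact ⟨toPerm_mem_M24 h1, by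
    show toPerm P • dec dod0 = dec dod0
    rw [smul_dec hv, h2]⟩

/-- the chain of the dodecad stabilizer with the forced sixth point -/
def levs12x : List Lev := levs12 ++ [⟨5, [oct0, dod0], []⟩]

theorem levs12x_chk : levs12x.all (fun L => L.gens.all fun P =>
    inM24 P && (mimg P dod0 == dod0)) = true := by decide +kernel

theorem carries12 : ∀ L ∈ levs12x, Carries H12 [dod0] L.gens := by
  intro L hL
  refine ⟨inf_le_left, H12_pres, fun P hP => ?_⟩
  have h1 := List.all_eq_true.1 (List.all_eq_true.1 levs12x_chk L hL) P hP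
  rw [Bool.and_eq_true, beq_iff_eq] at h1
  exact toPerm_mem_H12 h1.1 h1.2

/-- the first six base points -/
def F6 : ℕ := chainBot 0 levs12x

theorem trans6_chk : trans6.all (fun P => inM24 P && fixes P F6) = true ∧
    ((List.range 24).all fun i => !(atom F6 [oct0] 4).testBit i ||
      trans6.any fun P => ap P 4 == i) = true ∧
    (trans6.all fun P => mimg P dod0 != dod0 || P == powP P 0) = true := by decide +kernel

theorem mem_fixF6 {g : Equiv.Perm GolayPt} (hg : g ∈ fixH M24 F6) :
    ∃ P ∈ trans6, validP P = true ∧ g = toPerm P := by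
  obtain ⟨h1, h2, -⟩ := trans6_chk
  obtain ⟨hgM, hgF⟩ := mem_fixH.1 hg
  have hat := mem_atom hgF [oct0] (fun o ho => by
      rw [List.mem_singleton.1 ho]
      exact octFor_preserved hgM (by decide +kernel) hgF)
    (p := pt 4) (by rw [mem_dec]; decide +kernel)
  rw [idx_pt 4 (by norm_num), mem_dec] at hat
  have h3 := List.all_eq_true.1 h2 _ (List.mem_range.2 (idx_lt (g (pt 4))))
  simp only [hat, Bool.not_true, Bool.false_or, List.any_eq_true, beq_iff_eq] at h3
  obtain ⟨P, hP, hP4⟩ := h3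
  have hPc := List.all_eq_true.1 h1 P hP
  rw [Bool.and_eq_true] at hPc
  have hv : validP P = true := by
    have := hPc.1
    simp only [inM24, Bool.and_eq_true] at this
    exact this.1
  refine ⟨P, hP, hv, ?_⟩
  have heq : (toPerm P)⁻¹ * g = 1 := by
    refine eq_one_of_stages (mul_mem (inv_mem (toPerm_mem_M24 hPc.1)) hgM) stages24
      (chainBot 0 levs24) stages24_ok fun p hp => ?_
    rw [show chainBot 0 levs24 = F6 ||| 2 ^ 4 by decide +kernel] at hp
    rw [Equiv.Perm.mul_apply, Equiv.Perm.inv_eq_iff_eq]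
    rcases mem_dec_or.1 hp with hp | hp
    · rw [hgF p hp, fixes_apply hv hPc.2 hp]
    · rw [(mem_dec_two_pow (by norm_num)).1 hp]
      exact idx_injective (by rw [idx_toPerm hv, idx_pt 4 (by norm_num), hP4])
  exact (inv_mul_eq_one.1 heq).symm

theorem toPerm_powP_zero {P : ℕ} (hv : validP P = true) (h : P = powP P 0) : toPerm P = 1 := by
  rw [h, (toPerm_powP hv 0).2, pow_zero]

theorem fixH12_F6 : fixH H12 F6 = ⊥ := by
  rw [Subgroup.eq_bot_iff_forall]
  intro g hg
  obtain ⟨⟨hgM, hgd⟩, hgF⟩ := mem_fixH.1 hg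
  obtain ⟨P, hP, hv, rfl⟩ := mem_fixF6 (mem_fixH.2 ⟨hgM, hgF⟩)
  have h := List.all_eq_true.1 trans6_chk.2.2 P hP
  have hd : mimg P dod0 = dod0 :=
    dec_inj (mimg_lt hv _) (by decide +kernel) (by rw [← smul_dec hv]; exact hgd)
  simp only [hd, bne_self_eq_false, Bool.false_or, beq_iff_eq] at h
  exact toPerm_powP_zero hv h

theorem natCard_H12 : Nat.card H12 = 95040 := by
  have h := card_chain levs12x 0 carries12 (by decide +kernel)
  rw [fixH_zero, show chainBot 0 levs12x = F6 from rfl, fixH12_F6, Subgroup.card_bot, mul_one] at h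
  rw [h]; decide +kernel

theorem H12_faithful {F : ℕ} {g : Equiv.Perm GolayPt} (hg : g ∈ fixH H12 F)
    (hF : F6 &&& (dod0 ^^^ fullMask) = 0) (h : ∀ p ∈ dec dod0, g p = p) : g = 1 := by
  have : g ∈ fixH H12 F6 := by
    refine mem_fixH.2 ⟨(mem_fixH.1 hg).1, fun p hp => h p ?_⟩
    by_contra hc
    have hmem : p ∈ dec (F6 &&& (dod0 ^^^ fullMask)) := by
      rw [dec_and, Finset.mem_inter]
      refine ⟨hp, ?_⟩
      rw [mem_dec] at hc ⊢
      rw [Nat.testBit_xor, testBit_fullMask]
      simp [idx_lt p, Bool.not_eq_true _ ▸ hc]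
    rw [hF] at hmem
    simp [mem_dec] at hmem
  rwa [fixH12_F6, Subgroup.mem_bot] at this

theorem twoTrans12 : TwoTrans (fixH H12 0) (dec dod0) :=
  twoTrans_of_chain (L := levs12x.getD 0 ⟨0, [], []⟩) (M := levs12x.getD 1 ⟨0, [], []⟩)
    (extra := [dod0])
    (carries_sub (Ls := levs12x) (List.take_subset 2 levs12x) carries12)
    (by decide +kernel) (by decide +kernel) (by decide +kernel) (by decide +kernel)
    (fun _ hg => hg.1.2) (fun _ hg h => H12_faithful hg (by decide +kernel) h)

theorem natCard_fix11 : Nat.card (fixH H12 F23) = 7920 := by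
  have h := card_chain (levs12x.drop 1) F23 (carries_sub (List.drop_subset _ _) carries12)
    (by decide +kernel)
  rw [show chainBot F23 (levs12x.drop 1) = F6 by decide +kernel, fixH12_F6, Subgroup.card_bot,
    mul_one] at h
  rw [h]; decide +kernel

theorem twoTrans11 : TwoTrans (fixH H12 F23) (dec (dod0 ^^^ F23)) :=
  twoTrans_of_chain (L := levs12x.getD 1 ⟨0, [], []⟩) (M := levs12x.getD 2 ⟨0, [], []⟩)
    (extra := [dod0])
    (carries_sub (Ls := levs12x) (fun _ h => List.drop_subset 1 levs12x (List.take_subset 2 _ h)) carries12)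
    (by decide +kernel) (by decide +kernel) (by decide +kernel) (by decide +kernel)
    (fun g hg => by
      have h23 : pt 23 ∈ dec F23 := by rw [mem_dec]; decide +kernel
      have hd : g • dec dod0 = dec dod0 := hg.1.2
      refine Finset.eq_of_subset_of_card_le (fun q hq => ?_)
        (le_of_eq (Finset.card_smul_finset _ _).symm)
      obtain ⟨p, hp, rfl⟩ := Finset.mem_smul_finset.1 hq
      rw [mem_dec, Nat.testBit_xor] at hp ⊢
      have hi : g p ∈ dec dod0 ↔ p ∈ dec dod0 := by
        conv_lhs => rw [← hd]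
        exact Finset.smul_mem_smul_finset_iff g
      have hj : g p ∈ dec F23 ↔ p ∈ dec F23 := by
        constructor
        · intro h
          have e : g p = pt 23 := (mem_dec_two_pow (by norm_num)).1 h
          have := g.injective (e.trans ((mem_fixH.1 hg).2 _ h23).symm)
          rw [this]; exact h23
        · intro h; rw [(mem_fixH.1 hg).2 p h]; exact h
      rw [mem_dec, mem_dec] at hi hj
      rw [show g • p = g p from rfl, Bool.eq_iff_iff.2 hi, Bool.eq_iff_iff.2 hj]
      exact hp)
    (fun g hg h => by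
      refine H12_faithful hg (by decide +kernel) fun p hp => ?_
      by_cases h23 : p ∈ dec F23
      · exact (mem_fixH.1 hg).2 p h23
      · refine h p ?_
        rw [mem_dec] at hp h23 ⊢
        rw [Bool.not_eq_true] at h23
        rw [Nat.testBit_xor, hp, h23]; rfl)

theorem isSimpleGroup_fix11 : IsSimpleGroup (fixH H12 F23) := by
  have hx : toPerm elt11 ∈ fixH H12 F23 :=
    mem_fixH.2 ⟨toPerm_mem_H12 (by decide +kernel) (by decide +kernel),
      fun p hp => fixes_apply (by decide +kernel) (by decide +kernel) hp⟩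
  obtain ⟨h, hinv⟩ := selfCent_of_conjOK (p := 11) (reps := [0, 6, 17, 23]) (dom := dom11)
    (inv := [dod0]) (by norm_num) inf_le_left
    (fun o ho => ⟨by rw [List.mem_singleton.1 ho]; decide +kernel, H12_pres o ho⟩)
    hx (by decide +kernel) (by decide +kernel) (by decide +kernel) (by decide +kernel)
  refine CfsgLib.SimpleCrit.isSimpleGroup_of_selfCent (q := 5) h (by norm_num) rfl hinv
    (fun N hN hne => ?_) (by rw [natCard_fix11]; norm_num)
  have := twoTrans11.card_dvd hN hne
  rwa [card_dec_eq_pop, show pop 24 (dod0 ^^^ F23) = 11 by decide +kernel] at this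

end CfsgLib.Golay
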