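import Cfsg.Agent.Lib.Golay.OrbitFacts
import Cfsg.Prelude.Def_SporadicCombinatorics

/-!
Intersection numbers of octads and dodecads.
-/

set_option autoImplicit false
set_option maxRecDepth 20000

namespace CfsgLib.Golay

open Cfsg
open scoped Pointwise

theorem octLit_eq_filter : octLit = codeList.filter fun m => pop 24 m == 8 := by
  rw [← octList_eq_octLit]; rfl

theorem dodLit_eq_filter : dodLit = codeList.filter fun m => pop 24 m == 12 := by
  rw [← dodList_eq_dodLit]; rfl

/-- the words of a weight meeting a dodecad in a given number of points -/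
theorem ncard_meet_dod {n : ℕ} {lit : List ℕ} (hlit : lit = codeList.filter fun m => pop 24 m == n)
    {d : Finset GolayPt} (hd : d ∈ dodecads) (k : ℕ) :
    {x | x ∈ wordsOfWeight (golayCode : Set (GolayPt → ZMod 2)) n ∧ (d ∩ x).card = k}.ncard =
      (lit.filter fun m => pop 24 (dod0 &&& m) == k).length := by
  obtain ⟨g, hg, rfl⟩ := exists_smul_dod0 hd
  rw [ncard_transport hg (q := fun s => (dec dod0 ∩ s).card = k)
    (q' := fun x => (g • dec dod0 ∩ x).card = k) (fun s => by rw [smul_card_inter])]
  exact ncard_code_filter hlit _ (fun m => by rw [card_inter_dec, beq_iff_eq])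

theorem dod_meet_numbers :
    (octLit.filter fun m => pop 24 (dod0 &&& m) == 6).length = 132 ∧
    (octLit.filter fun m => pop 24 (dod0 &&& m) == 2).length = 132 ∧
    (octLit.filter fun m => pop 24 (dod0 &&& m) == 4).length = 495 ∧
    (dodLit.filter fun m => pop 24 (dod0 &&& m) == 4).length = 495 ∧
    (dodLit.filter fun m => pop 24 (dod0 &&& m) == 6).length = 1584 ∧
    (dodLit.filter fun m => pop 24 (dod0 &&& m) == 8).length = 495 := by decide +kernel

theorem dod_meet_values :
    octLit.all (fun m => let k := pop 24 (dod0 &&& m); k == 2 || k == 4 || k == 6) = true ∧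
    dodLit.all (fun m => let k := pop 24 (dod0 &&& m); m == dod0 || k == 0 || k == 4 || k == 6 || k == 8)
      = true := by decide +kernel

theorem card_meet_octad_dodecad {o d : Finset GolayPt} (ho : o ∈ octads) (hd : d ∈ dodecads) :
    (d ∩ o).card = 2 ∨ (d ∩ o).card = 4 ∨ (d ∩ o).card = 6 := by
  obtain ⟨g, hg, rfl⟩ := exists_smul_dod0 hd
  obtain ⟨m, hm, -, he⟩ := octad_mask (smul_mem_octads (inv_mem hg) ho)
  have h := List.all_eq_true.1 dod_meet_values.1 m hm
  simp only [Bool.or_eq_true, beq_iff_eq, or_assoc] at h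
  have e : (g • dec dod0 ∩ o).card = pop 24 (dod0 &&& m) := by
    rw [← card_inter_dec, he, ← smul_card_inter g (dec dod0), smul_inv_smul]
  omega

theorem card_meet_dodecads {d d' : Finset GolayPt} (hd : d ∈ dodecads) (hd' : d' ∈ dodecads)
    (hne : d' ≠ d) : (d ∩ d').card = 0 ∨ (d ∩ d').card = 4 ∨ (d ∩ d').card = 6 ∨ (d ∩ d').card = 8 := by
  obtain ⟨g, hg, rfl⟩ := exists_smul_dod0 hd
  obtain ⟨m, hm, -, he⟩ := dodecad_mask (smul_mem_dodecads (inv_mem hg) hd')
  have h := List.all_eq_true.1 dod_meet_values.2 m hm
  simp only [Bool.or_eq_true, beq_iff_eq, or_assoc] at h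
  have e : (g • dec dod0 ∩ d').card = pop 24 (dod0 &&& m) := by
    rw [← card_inter_dec, he, ← smul_card_inter g (dec dod0), smul_inv_smul]
  rcases h with h | h | h | h | h
  · subst h
    exact absurd (by rw [he, smul_inv_smul]) hne
  all_goals omega

/-- the masks supported on a list of positions -/
def subsOf : List ℕ → List ℕ
  | [] => [0]
  | i :: L => subsOf L ++ (subsOf L).map fun r => 2 ^ i ||| r

theorem mem_subsOf : ∀ (L : List ℕ) (m : ℕ), (∀ i, m.testBit i = true → i ∈ L) → m ∈ subsOf L
  | [], m, h => by
    have : m = 0 := Nat.eq_of_testBit_eq fun i => by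
      rw [Nat.zero_testBit]; exact Bool.eq_false_iff.2 fun hi => List.not_mem_nil (h i hi)
    simp [subsOf, this]
  | a :: L, m, h => by
    rw [subsOf, List.mem_append, List.mem_map]
    by_cases ha : a ∈ L ∨ m.testBit a = false
    · refine Or.inl (mem_subsOf L m fun i hi => ?_)
      rcases List.mem_cons.1 (h i hi) with rfl | hi'
      · rcases ha with ha | ha
        · exact ha
        · rw [ha] at hi; exact absurd hi (by decide)
      · exact hi'
    · push Not at ha
      have hma : m.testBit a = true := by simpa using ha.2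
      refine Or.inr ⟨m ^^^ 2 ^ a, mem_subsOf L _ fun i hi => ?_, Nat.eq_of_testBit_eq fun i => ?_⟩
      · rw [Nat.testBit_xor, Nat.testBit_two_pow] at hi
        by_cases hia : a = i
        · subst hia; simp [hma] at hi
        · simp [hia] at hi
          exact (List.mem_cons.1 (h i hi)).resolve_left (Ne.symm hia)
      · rw [Nat.testBit_or, Nat.testBit_xor, Nat.testBit_two_pow]
        by_cases hia : a = i
        · subst hia; simp [hma]
        · simp [hia]

/-- the submasks of the base octad -/
def octSubs : List ℕ := subsOf ((List.range 24).filter fun i => oct0.testBit i)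

theorem oct_sub_checks : octSubs.all (fun r => (pop 24 r != 2 ||
    (octLit.filter fun m => oct0 &&& m == r).length == 16) && (pop 24 r != 4 ||
    (octLit.filter fun m => oct0 &&& m == r).length == 4)) = true := by decide +kernel

/-- octads meeting an octad in a prescribed pair or four of its points -/
theorem ncard_octad_meet {o : Finset GolayPt} (ho : o ∈ octads) {s : Finset GolayPt} (hs : s ⊆ o) :
    (s.card = 2 → {o' : Finset GolayPt | o' ∈ octads ∧ o ∩ o' = s}.ncard = 16) ∧
    (s.card = 4 → {o' : Finset GolayPt | o' ∈ octads ∧ o ∩ o' = s}.ncard = 4) := by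
  obtain ⟨g, hg, rfl⟩ := exists_smul_oct0 ho
  obtain ⟨r, hr, hdec⟩ := exists_mask (g⁻¹ • s)
  have hsub : dec r ⊆ dec oct0 := by
    rw [hdec, ← Finset.smul_finset_subset_smul_finset_iff (a := g), smul_inv_smul]
    exact hs
  have hr' : r ∈ octSubs := mem_subsOf _ r fun i hi => by
    have h24 : i < 24 := by
      by_contra hc
      rw [Nat.testBit_lt_two_pow (lt_of_lt_of_le hr (Nat.pow_le_pow_right (by norm_num) (not_lt.1 hc)))] at hi
      exact absurd hi (by decide)
    exact List.mem_filter.2 ⟨List.mem_range.2 h24, (mem_dec_iff h24).1 (hsub ((mem_dec_iff h24).2 hi))⟩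
  have hchk := List.all_eq_true.1 oct_sub_checks r hr'
  simp only [Bool.and_eq_true, Bool.or_eq_true, bne_iff_ne, beq_iff_eq] at hchk
  have hc : s.card = pop 24 r := by rw [← card_dec_eq_pop, hdec, Finset.card_smul_finset]
  have key : {o' : Finset GolayPt | o' ∈ octads ∧ g • dec oct0 ∩ o' = s}.ncard =
      (octLit.filter fun m => oct0 &&& m == r).length := by
    refine (ncard_transport hg (q := fun x => dec oct0 ∩ x = g⁻¹ • s)
      (q' := fun x => g • dec oct0 ∩ x = s) (fun x => ?_)).trans ?_
    · rw [← Finset.smul_finset_inter]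
      exact ⟨fun h => by rw [h, smul_inv_smul], fun h => by rw [← h, inv_smul_smul]⟩
    · refine ncard_code_filter octLit_eq_filter _ fun m => ?_
      rw [← dec_and, beq_iff_eq]
      constructor
      · intro h
        exact dec_inj (lt_of_le_of_lt Nat.and_le_left (by decide +kernel)) hr
          (h.trans hdec.symm)
      · intro h; rw [h, hdec]
  exact ⟨fun h => key.trans (hchk.1.resolve_left (fun hne => hne (hc ▸ h))),
    fun h => key.trans (hchk.2.resolve_left (fun hne => hne (hc ▸ h)))⟩

end CfsgLib.Golay
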