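import Cfsg.Agent.Lib.Golay.Mathieu
import Cfsg.Agent.Lib.Groups.SimpleCrit

/-!
Conjugating elements with prescribed candidate images for the representatives, and the resulting
self-centralizing certificates with fewer candidates.
-/

set_option autoImplicit false

namespace CfsgLib.Golay

open Cfsg
open scoped Pointwise

/-- every element fixing `F` and `inv` that conjugates `x` to `y` and maps each representative `r`
into `S r` is in `ok` -/
def candOK (F : ℕ) (inv : List ℕ) (x y : ℕ) (reps : List ℕ) (S : ℕ → List ℕ) (dom : List (ℕ × ℕ))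
    (ok : List ℕ) : Bool :=
  domOK x reps dom && validP y && (choices (reps.map S)).all fun cs =>
    let P := candP y dom cs
    ok.contains P || !(inv.all (fun o => mimg P o == o) && fixes P F && inM24 P)

theorem eq_of_candOK {H : Subgroup (Equiv.Perm GolayPt)} {F : ℕ} {inv : List ℕ} {x y : ℕ}
    {reps : List ℕ} {S : ℕ → List ℕ} {dom : List (ℕ × ℕ)} {ok : List ℕ} (hH : H ≤ M24)
    (hpres : ∀ o ∈ inv, o < 2 ^ 24 ∧ ∀ g ∈ H, g • dec o = dec o)
    (hok : candOK F inv x y reps S dom ok = true) {g : Equiv.Perm GolayPt} (hg : g ∈ fixH H F)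
    (hconj : g * toPerm x = toPerm y * g) (himg : ∀ r ∈ reps, idx (g (pt r)) ∈ S r) :
    ∃ P ∈ ok, g = toPerm P := by
  simp only [candOK, domOK, Bool.and_eq_true, List.all_eq_true, decide_eq_true_eq,
    beq_iff_eq] at hok
  obtain ⟨⟨⟨⟨⟨hvx, hreps⟩, hdom⟩, hdomlt⟩, hvy⟩, hall⟩ := hok
  obtain ⟨hgH, hgF⟩ := mem_fixH.1 hg
  have hstep : ∀ p, g (toPerm x p) = toPerm y (g p) := fun p => Equiv.ext_iff.1 hconj p
  have hiter : ∀ k r, r < 24 → apN x k r < 24 ∧ idx (g (pt (apN x k r))) = apN y k (idx (g (pt r))) := by
    intro k r hr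
    induction k with
    | zero => exact ⟨hr, rfl⟩
    | succ k ih =>
      refine ⟨validP_lt hvx ih.1, ?_⟩
      show idx (g (pt (ap x (apN x k r)))) = ap y (apN y k (idx (g (pt r))))
      have h1 : toPerm x (pt (apN x k r)) = pt (ap x (apN x k r)) := by
        rw [toPerm_apply hvx, idx_pt _ ih.1]
      rw [← h1, hstep, idx_toPerm hvy, ih.2]
  set cs := reps.map (fun r => idx (g (pt r))) with hcs
  have hcand : cs ∈ choices (reps.map S) := by
    apply mem_choices
    rw [hcs, List.forall₂_map_left_iff, List.forall₂_map_right_iff, List.forall₂_same]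
    exact himg
  have key : ∀ p, idx (g p) = ap (candP y dom cs) (idx p) := by
    intro p
    have hi : idx p < dom.length := by
      have := congrArg List.length hdom
      simp only [List.length_map, List.length_range] at this
      rw [this]; exact idx_lt p
    have hlt : ∀ a ∈ dom.map (fun t => apN y t.2 (cs.getD t.1 0)), a < 32 := by
      intro a ha
      obtain ⟨t, ht, rfl⟩ := List.mem_map.1 ha
      have ht1 := hdomlt t ht
      have : cs.getD t.1 0 = idx (g (pt (reps.getD t.1 0))) := by
        simp [hcs, List.getD_eq_getElem?_getD, List.getElem?_eq_getElem ht1]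
      rw [this, ← (hiter t.2 _ (hreps _ (by
        rw [List.getD_eq_getElem?_getD, List.getElem?_eq_getElem ht1]; exact List.getElem_mem ht1))).2]
      have := idx_lt (g (pt (apN x t.2 (reps.getD t.1 0))))
      omega
    rw [candP, ap_packList _ _ hlt (by simpa using hi)]
    have ht1 := hdomlt _ (List.getElem_mem hi)
    have hp : apN x (dom[idx p]).2 (reps.getD (dom[idx p]).1 0) = idx p := by
      have := congrArg (fun l => l.getD (idx p) 0) hdom
      simpa [List.getD_eq_getElem?_getD, List.getElem?_eq_getElem hi, idx_lt p] using this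
    have hr : reps.getD (dom[idx p]).1 0 < 24 := hreps _ (by
      rw [List.getD_eq_getElem?_getD, List.getElem?_eq_getElem ht1]; exact List.getElem_mem ht1)
    have := (hiter (dom[idx p]).2 _ hr).2
    rw [hp, pt_idx] at this
    rw [this]
    simp [List.getD_eq_getElem?_getD, List.getElem?_eq_getElem hi, hcs,
      List.getElem?_eq_getElem ht1]
  have hvP := validP_of_eq g key
  have hgP : g = toPerm (candP y dom cs) := eq_toPerm hvP g key
  refine ⟨candP y dom cs, ?_, hgP⟩
  have := hall cs hcand
  simp only [Bool.or_eq_true, List.contains_iff_mem, Bool.not_eq_true', Bool.and_eq_false_iff] at this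
  rcases this with h | ((h | h) | h)
  · exact h
  · refine absurd h (Bool.eq_false_iff.not.2 (not_not.2 ?_))
    rw [List.all_eq_true]
    intro o ho
    rw [beq_iff_eq]
    exact dec_inj (mimg_lt hvP o) (hpres o ho).1 (by rw [← smul_dec hvP, ← hgP]; exact (hpres o ho).2 g hgH)
  · refine absurd h (Bool.eq_false_iff.not.2 (not_not.2 ?_))
    rw [fixes, List.all_eq_true]
    intro i hi
    rw [List.mem_range] at hi
    by_cases hb : F.testBit i = true
    · have hm : pt i ∈ dec F := by rw [mem_dec, idx_pt i hi]; exact hb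
      have := key (pt i)
      rw [hgF _ hm, idx_pt i hi] at this
      simp [← this]
    · simp [hb]
  · rw [inM24_of_mem hvP (hgP ▸ hH hgH)] at h
    exact absurd h (by simp)

/-- candidate images when the image of the representative `c` is normalized by a power of `y` -/
def candNorm (F x y : ℕ) (c : ℕ) (first : List ℕ) (r : ℕ) : List ℕ :=
  if r == c then first else candImgs F [] x y r

/-- every moved position is a power image of one of `first` -/
def coverFirst (F y p : ℕ) (first : List ℕ) : Bool :=
  first.all (fun f => decide (f < 24)) && (List.range 24).all fun i => F.testBit i || ap y i == i ||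
    first.any fun f => (List.range p).any fun k => apN y k f == i

theorem idx_toPerm_pow {y : ℕ} (hy : validP y = true) (k : ℕ) (q : GolayPt) :
    idx ((toPerm y ^ k) q) = apN y k (idx q) := by
  induction k with
  | zero => rfl
  | succ k ih => rw [pow_succ', Equiv.Perm.mul_apply, idx_toPerm hy, ih]; rfl

theorem mem_candImgs {F x y r : ℕ} (hvx : validP x = true) (hvy : validP y = true) (hr : r < 24)
    {g : Equiv.Perm GolayPt} (hgF : ∀ p ∈ dec F, g p = p)
    (hconj : g * toPerm x = toPerm y * g) : idx (g (pt r)) ∈ candImgs F [] x y r := by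
  unfold candImgs
  split
  · next hb =>
    have : pt r ∈ dec F := by rw [mem_dec, idx_pt r hr]; exact hb
    simp [hgF _ this, idx_pt r hr]
  · next hb =>
    rw [List.mem_filter]
    refine ⟨List.mem_range.2 (idx_lt _), ?_⟩
    rw [Bool.and_eq_true]
    constructor
    · have := mem_atom hgF [] (by simp) (p := pt r) (by rw [mem_dec, idx_pt r hr]; exact hb)
      rwa [mem_dec, idx_pt r hr] at this
    · rw [beq_iff_eq, Bool.eq_iff_iff, beq_iff_eq, beq_iff_eq]
      have h1 : idx (g (toPerm x (pt r))) = ap y (idx (g (pt r))) := by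
        rw [← idx_toPerm hvy]; exact congrArg idx (Equiv.ext_iff.1 hconj (pt r))
      have h2 : toPerm x (pt r) = pt (ap x r) := by rw [toPerm_apply hvx, idx_pt r hr]
      rw [← h1, h2]
      constructor
      · intro h
        exact pt_injOn (validP_lt hvx hr) hr (g.injective (idx_injective h))
      · intro h; rw [h]

/-- the normalized certificate: every element of `fixH M24 F` conjugating `x` to `y` is `y ^ j` times
an element of `ok` -/
theorem exists_of_normOK {F x y c p : ℕ} {first reps : List ℕ} {dom : List (ℕ × ℕ)} {ok : List ℕ}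
    (hyF : fixes y F = true) (hyM : inM24 y = true) (hyp : powP y p = powP y 0)
    (hc : c < 24) (hcF : F.testBit c = false) (hxc : ap x c ≠ c)
    (hcov : coverFirst F y p first = true)
    (hok : candOK F [] x y reps (candNorm F x y c first) dom ok = true) {g : Equiv.Perm GolayPt}
    (hg : g ∈ fixH M24 F) (hconj : g * toPerm x = toPerm y * g) :
    ∃ j : ℕ, ∃ P ∈ ok, g = toPerm y ^ j * toPerm P := by
  have hparts := hok
  simp only [candOK, domOK, Bool.and_eq_true, List.all_eq_true, decide_eq_true_eq] at hparts
  obtain ⟨⟨⟨⟨⟨hvx, hreps⟩, -⟩, -⟩, hvy⟩, -⟩ := hparts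
  obtain ⟨hgM, hgF⟩ := mem_fixH.1 hg
  simp only [coverFirst, Bool.and_eq_true, List.all_eq_true, Bool.or_eq_true, List.any_eq_true,
    decide_eq_true_eq, beq_iff_eq, List.mem_range] at hcov
  obtain ⟨hlt, hcov⟩ := hcov
  rcases hcov (idx (g (pt c))) (idx_lt _) with (h | h) | ⟨f, hf, k, hk, hfk⟩
  · exfalso
    have h1 : g (g (pt c)) = g (pt c) := hgF _ (mem_dec.2 h)
    rw [g.injective h1, idx_pt c hc, hcF] at h
    exact absurd h (by simp)
  · exfalso
    apply hxc
    have h1 : toPerm y (g (pt c)) = g (pt c) := idx_injective (by rw [idx_toPerm hvy, h])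
    have h2 : g (toPerm x (pt c)) = g (pt c) :=
      (Equiv.ext_iff.1 hconj (pt c)).trans h1
    have h3 := congrArg idx (g.injective h2)
    rwa [idx_toPerm hvx, idx_pt c hc] at h3
  have hcom : (toPerm y ^ k)⁻¹ * g * toPerm x = toPerm y * ((toPerm y ^ k)⁻¹ * g) := by
    rw [mul_assoc, hconj, ← mul_assoc, ← mul_assoc]
    congr 1
    exact ((Commute.refl (toPerm y)).pow_left k).inv_left.eq
  have hyk : toPerm y ^ k ∈ fixH M24 F := pow_mem (toPerm_mem_fix24 hyM hyF) k
  have hg' : (toPerm y ^ k)⁻¹ * g ∈ fixH M24 F := mul_mem (inv_mem hyk) hg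
  obtain ⟨P, hP, hgP⟩ := eq_of_candOK le_rfl (by simp) hok hg' hcom fun r hr => by
    unfold candNorm
    split
    · next h =>
      rw [beq_iff_eq] at h
      subst h
      have : ((toPerm y ^ k)⁻¹ * g) (pt r) = pt f := by
        rw [Equiv.Perm.mul_apply, Equiv.Perm.inv_eq_iff_eq]
        exact idx_injective (by rw [idx_toPerm_pow hvy, idx_pt f (hlt f hf), hfk])
      rwa [this, idx_pt f (hlt f hf)]
    · exact mem_candImgs hvx hvy (hreps r hr) (mem_fixH.1 hg').2 hcom
  exact ⟨k, P, hP, by rw [← hgP, mul_inv_cancel_left]⟩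

end CfsgLib.Golay
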