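import Cfsg.Agent.Lib.Golay.M24

/-!
Certified orbits of stabilizers in the group of the code on families of point sets.

A spanning tree of an orbit is a walk written in octal: digit `0` goes back to the parent, digit
`k + 1` steps to the image under generator `k`.
-/

set_option autoImplicit false

namespace CfsgLib.Golay

open Cfsg
open scoped Pointwise

/-- the subgroup of the group of the code fixing `F` pointwise and each set of `inv` -/
noncomputable def stabH (F : ℕ) (inv : List ℕ) : Subgroup (Equiv.Perm GolayPt) where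
  carrier := {g | g ∈ fixH M24 F ∧ ∀ o ∈ inv, g • dec o = dec o}
  one_mem' := ⟨one_mem _, fun _ _ => one_smul _ _⟩
  mul_mem' := fun {a b} ha hb => ⟨mul_mem ha.1 hb.1, fun o ho => by rw [mul_smul, hb.2 o ho, ha.2 o ho]⟩
  inv_mem' := fun {a} ha => ⟨inv_mem ha.1, fun o ho => by rw [inv_smul_eq_iff, ha.2 o ho]⟩

theorem mem_stabH {F : ℕ} {inv : List ℕ} {g : Equiv.Perm GolayPt} :
    g ∈ stabH F inv ↔ (g ∈ M24 ∧ ∀ p ∈ dec F, g p = p) ∧ ∀ o ∈ inv, g • dec o = dec o := by
  rw [← mem_fixH]; rfl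

theorem stabH_le (F : ℕ) (inv : List ℕ) : stabH F inv ≤ M24 := fun _ h => (mem_fixH.1 h.1).1

/-- test that the generators lie in `stabH F inv` -/
def gensOK (F : ℕ) (inv gens : List ℕ) : Bool :=
  gens.all fun g => inM24 g && fixes g F && inv.all fun o => mimg g o == o

theorem gensOK_mem {F : ℕ} {inv gens : List ℕ} (h : gensOK F inv gens = true) {P : ℕ} (hP : P ∈ gens) :
    validP P = true ∧ toPerm P ∈ stabH F inv := by
  have h1 := List.all_eq_true.1 h P hP
  simp only [Bool.and_eq_true, List.all_eq_true, beq_iff_eq] at h1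
  obtain ⟨⟨hM, hF⟩, hinv⟩ := h1
  have hv : validP P = true := by simp only [inM24, Bool.and_eq_true] at hM; exact hM.1
  exact ⟨hv, mem_stabH.2 ⟨⟨toPerm_mem_M24 hM, fun p hp => fixes_apply hv hF hp⟩,
    fun o ho => by rw [smul_dec hv, hinv o ho]⟩⟩

/-- image of a mask, with bit operations -/
def mimgB : ℕ → ℕ → ℕ → ℕ
  | 0, _, _ => 0
  | k + 1, m, P => ((m &&& 1) <<< (P &&& 31)) ||| mimgB k (m >>> 1) (P >>> 5)

theorem mimgB_eq (k : ℕ) : ∀ m P, mimgB k m P = mimgAux k m P := by
  induction k with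
  | zero => intro m P; rfl
  | succ k ih =>
    intro m P
    rw [mimgB, mimgAux, ih, Nat.shiftRight_eq_div_pow, Nat.shiftRight_eq_div_pow, Nat.and_one_is_mod,
      show (31 : ℕ) = 2 ^ 5 - 1 from rfl, Nat.and_two_pow_sub_one_eq_mod, Nat.shiftLeft_eq]
    rcases Nat.mod_two_eq_zero_or_one m with h | h <;> simp [h]

/-- the keys met by a walk from the top of the stack -/
def walk (gens : List ℕ) (key : ℕ → ℕ) : ℕ → ℕ → List ℕ → ℕ → Option ℕ
  | 0, _, _, acc => some acc
  | _ + 1, _, [], acc => some acc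
  | n + 1, c, m :: st, acc =>
    if c &&& 7 = 0 then walk gens key n (c >>> 3) st acc
    else
      if (c &&& 7) - 1 < gens.length then
        let m' := mimgB 24 m (gens.getD ((c &&& 7) - 1) 0)
        walk gens key n (c >>> 3) (m' :: m :: st) (acc ||| (1 <<< key m'))
      else none

/-- check that the walk meets exactly the recorded keys, which cover `cls` -/
def orbOK (gens : List ℕ) (key : ℕ → ℕ) (w : ℕ × ℕ × ℕ × ℕ) (cls : List ℕ) : Bool :=
  decide (w.1 < 16777216) && walk gens key w.2.1 w.2.2.1 [w.1] (1 <<< key w.1) == some w.2.2.2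
    && cls.all fun m => w.2.2.2.testBit (key m)

theorem walk_sound {H : Subgroup (Equiv.Perm GolayPt)} {gens : List ℕ} {key : ℕ → ℕ}
    {x : Finset GolayPt} (hgens : ∀ P ∈ gens, validP P = true ∧ toPerm P ∈ H) :
    ∀ n c st acc r, walk gens key n c st acc = some r →
      (∀ m ∈ st, m < 2 ^ 24 ∧ ∃ g ∈ H, g • x = dec m) →
      (∀ k, acc.testBit k = true → ∃ m, (m < 2 ^ 24 ∧ ∃ g ∈ H, g • x = dec m) ∧ key m = k) →
      ∀ k, r.testBit k = true → ∃ m, (m < 2 ^ 24 ∧ ∃ g ∈ H, g • x = dec m) ∧ key m = k := by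
  intro n
  induction n with
  | zero =>
    intro c st acc r h _ hacc
    simp only [walk, Option.some.injEq] at h
    exact h ▸ hacc
  | succ n ih =>
    intro c st acc r h hst hacc
    cases st with
    | nil => simp only [walk, Option.some.injEq] at h; exact h ▸ hacc
    | cons m st =>
      simp only [List.mem_cons, forall_eq_or_imp] at hst
      rw [walk] at h
      split at h
      · exact ih _ _ _ _ h hst.2 hacc
      · split at h
        · next hlt =>
          set P := gens.getD ((c &&& 7) - 1) 0 with hP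
          have hmem : P ∈ gens := by
            rw [hP, List.getD_eq_getElem?_getD, List.getElem?_eq_getElem hlt]
            exact List.getElem_mem hlt
          obtain ⟨g, hg, hgx⟩ := hst.1.2
          have hm' : mimgB 24 m P < 2 ^ 24 ∧ ∃ g ∈ H, g • x = dec (mimgB 24 m P) := by
            rw [mimgB_eq]
            exact ⟨mimg_lt (hgens P hmem).1 m, toPerm P * g, H.mul_mem (hgens P hmem).2 hg,
              by rw [mul_smul, hgx, smul_dec (hgens P hmem).1]; rfl⟩
          refine ih _ _ _ _ h (by simp only [List.mem_cons, forall_eq_or_imp]; exact ⟨hm', hst.1, hst.2⟩)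
            fun k hk => ?_
          rw [Nat.testBit_or, Bool.or_eq_true, Nat.one_shiftLeft, Nat.testBit_two_pow,
            decide_eq_true_eq] at hk
          rcases hk with hk | hk
          · exact hacc k hk
          · exact ⟨_, hm', hk⟩
        · exact absurd h (by simp)

theorem exists_of_orbOK {F : ℕ} {inv gens : List ℕ} {key : ℕ → ℕ} {w : ℕ × ℕ × ℕ × ℕ} {cls : List ℕ}
    (hg : gensOK F inv gens = true) (h : orbOK gens key w cls = true) {m : ℕ} (hm : m ∈ cls) :
    ∃ m', m' < 2 ^ 24 ∧ (∃ g ∈ stabH F inv, g • dec w.1 = dec m') ∧ key m' = key m := by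
  simp only [orbOK, Bool.and_eq_true, beq_iff_eq, decide_eq_true_eq, List.all_eq_true] at h
  obtain ⟨⟨h0, hw⟩, hcls⟩ := h
  obtain ⟨m', ⟨h1, h2⟩, h3⟩ := walk_sound (fun P hP => gensOK_mem hg hP) _ _ _ _ _ hw
    (x := dec w.1)
    (fun j hj => by
      rw [List.mem_singleton.1 hj]
      exact ⟨h0, 1, one_mem _, one_smul _ _⟩)
    (fun j hj => by
      rw [Nat.one_shiftLeft, Nat.testBit_two_pow, decide_eq_true_eq] at hj
      exact ⟨w.1, ⟨h0, 1, one_mem _, one_smul _ _⟩, hj⟩)
    (key m) (hcls m hm)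
  exact ⟨m', h1, h2, h3⟩

/-- key of a code word: its twelve low bits -/
def keyC (m : ℕ) : ℕ := m &&& 4095

theorem codeList_eq_of_key {a b : ℕ} (ha : a ∈ codeList) (hb : b ∈ codeList) (h : keyC a = keyC b) :
    a = b := by
  obtain ⟨i, hi, rfl⟩ := List.mem_map.1 ha
  obtain ⟨j, hj, rfl⟩ := List.mem_map.1 hb
  rw [keyC, keyC, show (4095 : ℕ) = 2 ^ 12 - 1 from rfl, Nat.and_two_pow_sub_one_eq_mod,
    Nat.and_two_pow_sub_one_eq_mod, show (2 : ℕ) ^ 12 = 4096 from rfl, comb_low i hi, comb_low j hj] at h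
  rw [h]

theorem exists_code_orbit {F : ℕ} {inv gens : List ℕ} {w : ℕ × ℕ × ℕ × ℕ} {cls : List ℕ}
    (hg : gensOK F inv gens = true) (h : orbOK gens keyC w cls = true) (h0 : inC w.1 = true) {m : ℕ}
    (hm : m ∈ cls) (hc : m ∈ codeList) : ∃ g ∈ stabH F inv, g • dec w.1 = dec m := by
  obtain ⟨m', hlt, ⟨g, hg', hgm⟩, hk⟩ := exists_of_orbOK hg h hm
  refine ⟨g, hg', ?_⟩
  have hm' : m' ∈ codeList := by
    rw [← inC_iff_mem_codeList, ← dec_mem_supports_iff hlt, ← hgm]
    exact smul_mem_supports (stabH_le _ _ hg') ⟨_, wd_mem_of_inC h0, support_wd _⟩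
  rw [hgm, codeList_eq_of_key hm' hc hk]

end CfsgLib.Golay
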