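import Cfsg.Agent.Lib.Golay.Aut

/-!
The projective special linear group on the projective line over `ZMod 23` is maximal in the group
of the code, and the Frobenius group of order 253 is maximal in a point stabilizer.
-/

set_option autoImplicit false
set_option linter.style.haveILetI false

namespace CfsgLib.Golay.ProjLineMax

open Cfsg CfsgLib.Golay CfsgLib.SelfCent

instance : Fact (Nat.Prime 23) := ⟨by norm_num⟩

/-- the affine map `x ↦ u x + a` -/
def aff (u : (ZMod 23)ˣ) (a : ZMod 23) : Equiv.Perm GolayPt :=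
  Equiv.optionCongr ((Units.mulLeft u).trans (Equiv.addRight a))

theorem aff_apply (u : (ZMod 23)ˣ) (a : ZMod 23) (p : GolayPt) :
    aff u a p = p.map fun x => (u : ZMod 23) * x + a := by
  cases p <;> rfl

theorem aff_mul (u v : (ZMod 23)ˣ) (a b : ZMod 23) :
    aff u a * aff v b = aff (u * v) ((u : ZMod 23) * b + a) := by
  ext1 p
  rw [Equiv.Perm.mul_apply, aff_apply, aff_apply, aff_apply]
  cases p <;> simp <;> ring

theorem aff_one : aff 1 0 = 1 := by
  ext1 p
  rw [aff_apply]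
  cases p <;> simp

theorem aff_inv (u : (ZMod 23)ˣ) (a : ZMod 23) :
    (aff u a)⁻¹ = aff u⁻¹ (-((u⁻¹ : (ZMod 23)ˣ) : ZMod 23) * a) := by
  refine inv_eq_of_mul_eq_one_right ?_
  rw [aff_mul, mul_inv_cancel, ← aff_one]
  congr 1
  rw [neg_mul, mul_neg, ← mul_assoc, ← Units.val_mul, mul_inv_cancel, Units.val_one, one_mul,
    neg_add_cancel]

theorem aff_pow (a : ZMod 23) (k : ℕ) : aff 1 a ^ k = aff 1 ((k : ZMod 23) * a) := by
  induction k with
  | zero => simp [aff_one]
  | succ k ih => rw [pow_succ, ih, aff_mul, one_mul]; congr 1; push_cast; ring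

theorem shift_aff : Equiv.optionCongr (Equiv.addRight (1 : ZMod 23)) = aff 1 1 := by
  ext1 p
  rw [aff_apply]
  cases p <;> simp

theorem mulLeft_aff (u : (ZMod 23)ˣ) : Equiv.optionCongr (Units.mulLeft u) = aff u 0 := by
  ext1 p
  rw [aff_apply]
  cases p <;> simp

/-- the affine maps with square multiplier -/
def affSq : Subgroup (Equiv.Perm GolayPt) where
  carrier := {g | ∃ u a, IsSquare u ∧ g = aff u a}
  one_mem' := ⟨1, 0, IsSquare.one, aff_one.symm⟩
  mul_mem' := by
    rintro _ _ ⟨u, a, hu, rfl⟩ ⟨v, b, hv, rfl⟩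
    exact ⟨_, _, hu.mul hv, aff_mul u v a b⟩
  inv_mem' := by
    rintro _ ⟨u, a, hu, rfl⟩
    exact ⟨_, _, hu.inv, aff_inv u a⟩

/-- the generators -/
def genB : Set (Equiv.Perm GolayPt) :=
  {Equiv.optionCongr (Equiv.addRight (1 : ZMod 23))} ∪
    {g | ∃ u : (ZMod 23)ˣ, IsSquare u ∧ g = Equiv.optionCongr (Units.mulLeft u)}

/-- the generators -/
def genL : Set (Equiv.Perm GolayPt) :=
  {Equiv.optionCongr (Equiv.addRight (1 : ZMod 23)), projInv} ∪
    {g | ∃ u : (ZMod 23)ˣ, IsSquare u ∧ g = Equiv.optionCongr (Units.mulLeft u)}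

theorem closure_genB : Subgroup.closure genB = affSq := by
  refine le_antisymm ((Subgroup.closure_le _).2 ?_) ?_
  · rintro g (rfl | ⟨u, hu, rfl⟩)
    · exact ⟨1, 1, IsSquare.one, shift_aff⟩
    · exact ⟨u, 0, hu, mulLeft_aff u⟩
  · rintro _ ⟨u, a, hu, rfl⟩
    have h : aff u a = aff 1 1 ^ a.val * aff u 0 := by
      rw [aff_pow, ZMod.natCast_val, ZMod.cast_id, mul_one, aff_mul, one_mul]
      congr 1
      simp
    rw [h]
    exact mul_mem (pow_mem (Subgroup.subset_closure
      (show aff 1 1 ∈ genB from Or.inl shift_aff.symm)) _)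
      (Subgroup.subset_closure (show aff u 0 ∈ genB from Or.inr ⟨u, hu, (mulLeft_aff u).symm⟩))

theorem aff_injective {u v : (ZMod 23)ˣ} {a b : ZMod 23} (h : aff u a = aff v b) : u = v ∧ a = b := by
  have h0 := congrArg (fun g : Equiv.Perm GolayPt => g (some 0)) h
  have h1 := congrArg (fun g : Equiv.Perm GolayPt => g (some 1)) h
  simp only [aff_apply, Option.map_some, mul_zero, zero_add, mul_one, Option.some.injEq] at h0 h1
  subst h0
  exact ⟨Units.ext (add_right_cancel h1), rfl⟩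

theorem card_affSq : Nat.card affSq = 253 := by
  let f : {u : (ZMod 23)ˣ // IsSquare u} × ZMod 23 → affSq :=
    fun x => ⟨aff x.1.1 x.2, x.1.1, x.2, x.1.2, rfl⟩
  have hf : Function.Bijective f := by
    refine ⟨fun x y h => ?_, ?_⟩
    · obtain ⟨h1, h2⟩ := aff_injective (congrArg Subtype.val h)
      exact Prod.ext (Subtype.ext h1) h2
    · rintro ⟨g, u, a, hu, rfl⟩
      exact ⟨(⟨u, hu⟩, a), rfl⟩
  rw [← Nat.card_congr (Equiv.ofBijective f hf), Nat.card_prod, Nat.card_zmod]
  have h11 : Nat.card {u : (ZMod 23)ˣ // IsSquare u} = 11 := by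
    classical
    have e : ∀ u : (ZMod 23)ˣ, IsSquare u ↔ ∃ v, u = v * v := fun u => Iff.rfl
    rw [Nat.card_congr (Equiv.subtypeEquivRight e), Nat.card_eq_fintype_card, Fintype.card_subtype]
    decide +kernel
  rw [h11]

theorem projInv_sq : projInv * projInv = 1 := Equiv.ext fun p => projInv.left_inv p

theorem projInv_inv : projInv⁻¹ = projInv := inv_eq_of_mul_eq_one_right projInv_sq

theorem projInv_mul_chk : ∀ v : (ZMod 23)ˣ, ∀ p : GolayPt,
    projInv (Option.map (fun x => (v : ZMod 23) * x + 0) p) =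
      Option.map (fun x => ((v⁻¹ : (ZMod 23)ˣ) : ZMod 23) * x + 0) (projInv p) := by
  decide +kernel

theorem projInv_mul (v : (ZMod 23)ˣ) : projInv * aff v 0 = aff v⁻¹ 0 * projInv := by
  ext1 p
  rw [Equiv.Perm.mul_apply, Equiv.Perm.mul_apply, aff_apply, aff_apply]
  exact projInv_mul_chk v p

theorem bruhat_chk : ∀ c : (ZMod 23)ˣ, ∀ p : GolayPt,
    projInv (Option.map (fun x => ((1 : (ZMod 23)ˣ) : ZMod 23) * x + (c : ZMod 23)) (projInv p)) =
      Option.map (fun x => ((c⁻¹ * c⁻¹ : (ZMod 23)ˣ) : ZMod 23) * x + -((c⁻¹ : (ZMod 23)ˣ) : ZMod 23))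
        (projInv (Option.map
          (fun x => ((1 : (ZMod 23)ˣ) : ZMod 23) * x + -((c⁻¹ : (ZMod 23)ˣ) : ZMod 23)) p)) := by
  decide +kernel

theorem bruhat (c : (ZMod 23)ˣ) : projInv * aff 1 (c : ZMod 23) * projInv =
    aff (c⁻¹ * c⁻¹) (-((c⁻¹ : (ZMod 23)ˣ) : ZMod 23)) * projInv *
      aff 1 (-((c⁻¹ : (ZMod 23)ˣ) : ZMod 23)) := by
  ext1 p
  simp only [Equiv.Perm.mul_apply, aff_apply]
  exact bruhat_chk c p

/-- the two cells -/
def cell : affSq × Option (ZMod 23) → Equiv.Perm GolayPt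
  | (β, none) => β
  | (β, some c) => β * projInv * aff 1 c

theorem cell_mul_affSq {g h : Equiv.Perm GolayPt} (hg : g ∈ Set.range cell) (hh : h ∈ affSq) :
    g * h ∈ Set.range cell := by
  obtain ⟨⟨β, o⟩, rfl⟩ := hg
  obtain ⟨v, e, hv, rfl⟩ := hh
  rcases o with _ | c
  · exact ⟨(⟨_, mul_mem β.2 ⟨v, e, hv, rfl⟩⟩, none), rfl⟩
  · refine ⟨(⟨β * aff v⁻¹ 0, mul_mem β.2 ⟨_, _, hv.inv, rfl⟩⟩,
      some (((v⁻¹ : (ZMod 23)ˣ) : ZMod 23) * (c + e))), ?_⟩
    show (β : Equiv.Perm GolayPt) * aff v⁻¹ 0 * projInv * _ = β * projInv * aff 1 c * aff v e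
    rw [mul_assoc (β : Equiv.Perm GolayPt) (aff v⁻¹ 0), ← projInv_mul]
    simp only [mul_assoc, aff_mul]
    congr 3
    · simp
    · simp only [Units.val_one, one_mul, add_zero, ← mul_assoc, ← Units.val_mul, mul_inv_cancel]
      ring

theorem cell_mul_projInv {g : Equiv.Perm GolayPt} (hg : g ∈ Set.range cell) :
    g * projInv ∈ Set.range cell := by
  obtain ⟨⟨β, o⟩, rfl⟩ := hg
  rcases o with _ | c
  · exact ⟨(β, some 0), by simp [cell, aff_one]⟩
  · by_cases hc : c = 0
    · subst hc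
      exact ⟨(β, none), by simp [cell, aff_one, mul_assoc, projInv_sq]⟩
    · obtain ⟨c, rfl⟩ := isUnit_iff_ne_zero.2 hc
      refine ⟨(⟨β * aff (c⁻¹ * c⁻¹) (-((c⁻¹ : (ZMod 23)ˣ) : ZMod 23)),
        mul_mem β.2 ⟨_, _, IsSquare.mul_self _, rfl⟩⟩, some (-((c⁻¹ : (ZMod 23)ˣ) : ZMod 23))), ?_⟩
      show (β : Equiv.Perm GolayPt) * _ * projInv * _ = β * projInv * aff 1 (c : ZMod 23) * projInv
      rw [mul_assoc (β : Equiv.Perm GolayPt), mul_assoc (β : Equiv.Perm GolayPt), ← bruhat]
      simp only [mul_assoc]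

theorem affSq_le : affSq ≤ Subgroup.closure genL := by
  rw [← closure_genB]
  refine Subgroup.closure_mono ?_
  rintro g (rfl | h)
  · exact Or.inl (Or.inl rfl)
  · exact Or.inr h

theorem projInv_mem_genL : projInv ∈ Subgroup.closure genL :=
  Subgroup.subset_closure (Or.inl (Or.inr rfl))

theorem range_cell : Set.range cell = (Subgroup.closure genL : Set (Equiv.Perm GolayPt)) := by
  refine Set.Subset.antisymm ?_ ?_
  · rintro _ ⟨⟨β, o⟩, rfl⟩
    rcases o with _ | c
    · exact affSq_le β.2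
    · exact mul_mem (mul_mem (affSq_le β.2) projInv_mem_genL)
        (affSq_le ⟨1, c, IsSquare.one, rfl⟩)
  · intro g hg
    have hgen : ∀ h ∈ genL, h ∈ affSq ∨ h = projInv := by
      rintro h ((rfl | rfl) | ⟨u, hu, rfl⟩)
      · exact Or.inl ⟨1, 1, IsSquare.one, shift_aff⟩
      · exact Or.inr rfl
      · exact Or.inl ⟨u, 0, hu, mulLeft_aff u⟩
    induction hg using Subgroup.closure_induction_right with
    | one => exact ⟨(1, none), rfl⟩
    | mul_right x hx y hy ih =>
      rcases hgen y hy with h | h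
      · exact cell_mul_affSq ih h
      · subst h; exact cell_mul_projInv ih
    | mul_inv_cancel x hx y hy ih =>
      rcases hgen y hy with h | h
      · exact cell_mul_affSq ih (inv_mem h)
      · subst h; rw [projInv_inv]; exact cell_mul_projInv ih

theorem cell_injective : Function.Injective cell := by
  have hinf : ∀ β : affSq, ∀ p, (β : Equiv.Perm GolayPt) p = none → p = none := by
    rintro ⟨_, u, a, -, rfl⟩
    intro p h
    exact (aff u a).injective (h.trans (rfl : aff u a none = none).symm)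
  have hpre : ∀ (β : affSq) (c : ZMod 23), cell (β, some c) (some (-c)) = none := by
    rintro ⟨_, u, a, -, rfl⟩ c
    show aff u a (projInv (aff 1 c (some (-c)))) = none
    simp [aff_apply, projInv, projInvFun]
  have hnone : ∀ β : affSq, cell (β, none) none = none := by
    rintro ⟨_, u, a, -, rfl⟩
    rfl
  rintro ⟨β, o⟩ ⟨γ, o'⟩ h
  rcases o with _ | c <;> rcases o' with _ | d
  · simp only [cell] at h
    rw [Subtype.ext h]
  · have := hpre γ d
    rw [← h] at this
    exact absurd (hinf β _ this) (by simp)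
  · have := hpre β c
    rw [h] at this
    exact absurd (hinf γ _ this) (by simp)
  · have h1 := hpre β c
    rw [h] at h1
    have hcd : c = d := by simpa using (cell (γ, some d)).injective (h1.trans (hpre γ d).symm)
    subst hcd
    simp only [cell] at h
    rw [Subtype.ext (mul_right_cancel (mul_right_cancel h))]

theorem card_closure_genL : Nat.card (Subgroup.closure genL) = 6072 := by
  have h : Nat.card (Set.range cell) = 6072 := by
    rw [Nat.card_range_of_injective cell_injective, Nat.card_prod, card_affSq,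
      Nat.card_eq_fintype_card, Fintype.card_option, ZMod.card]
  rw [range_cell] at h
  exact h

theorem genL_le : Subgroup.closure genL ≤ M24 := by
  rw [Subgroup.closure_le]
  rintro g ((rfl | rfl) | ⟨u, hu, rfl⟩)
  exacts [shift_mem, projInv_mem, mul_square_mem u hu]

theorem affSq_le_fix : affSq ≤ fixH M24 F23 := by
  intro g hg
  refine mem_fix23_iff.2 ⟨genL_le (affSq_le hg), ?_⟩
  obtain ⟨u, a, -, rfl⟩ := hg
  rfl

/-! ### Counting -/

theorem zpowers_subtype {Γ : Type*} [Group Γ] (H : Subgroup Γ) {y : Γ} (hy : y ∈ H) :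
    Subgroup.zpowers (⟨y, hy⟩ : H) = (Subgroup.zpowers y).subgroupOf H := by
  refine Subgroup.map_injective H.subtype_injective ?_
  rw [MonoidHom.map_zpowers, Subgroup.subgroupOf_map_subtype,
    inf_eq_left.2 (Subgroup.zpowers_le.2 hy)]
  rfl

theorem card_inf_normalizer {Γ : Type*} [Group Γ] (H : Subgroup Γ) {y : Γ} (hy : y ∈ H) :
    Nat.card ↥(H ⊓ Subgroup.normalizer (Subgroup.zpowers y : Set Γ)) =
      Nat.card ↥(Subgroup.normalizer (Subgroup.zpowers (⟨y, hy⟩ : H) : Set H)) := by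
  rw [zpowers_subtype H hy, ← Subgroup.subgroupOf_normalizer_eq (Subgroup.zpowers_le.2 hy),
    ← Subgroup.inf_subgroupOf_left, Nat.card_congr (Subgroup.subgroupOfEquivOfLe inf_le_left).toEquiv]

/-- Sylow's theorem for a subgroup containing a given element of prime order. -/
theorem sylow_eq {Γ : Type*} [Group Γ] [Finite Γ] {p : ℕ} [Fact p.Prime] (K : Subgroup Γ) {y : Γ}
    (hy : y ∈ K) (ho : orderOf y = p) (hp2 : ¬ p ^ 2 ∣ Nat.card K) :
    ∃ n, Nat.card K = n * Nat.card ↥(K ⊓ Subgroup.normalizer (Subgroup.zpowers y : Set Γ)) ∧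
      n % p = 1 := by
  have hc : Nat.card (Subgroup.zpowers (⟨y, hy⟩ : K)) = p := by
    rw [Nat.card_zpowers, Subgroup.orderOf_mk, ho]
  have h0 : Nat.card K ≠ 0 := Nat.card_pos.ne'
  have hf : (Nat.card K).factorization p = 1 := by
    have h1 := ((Fact.out : p.Prime).pow_dvd_iff_le_factorization h0 (k := 1)).1
      (by rw [pow_one]; exact hc ▸ Subgroup.card_subgroup_dvd_card _)
    have h2 := mt ((Fact.out : p.Prime).pow_dvd_iff_le_factorization h0 (k := 2)).2 hp2
    omega
  let P : Sylow p K := Sylow.ofCard (Subgroup.zpowers (⟨y, hy⟩ : K)) (by rw [hc, hf, pow_one])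
  refine ⟨Nat.card (Sylow p K), ?_, ?_⟩
  · rw [P.card_eq_index_normalizer, card_inf_normalizer K hy]
    exact (Subgroup.index_mul_card _).symm
  · have : Nat.card (Sylow p K) % p = 1 % p := card_sylow_modEq_one p K
    rwa [Nat.mod_eq_of_lt (Fact.out : p.Prime).one_lt] at this

/-- A self-centralizing element is replaced by any element of the same order. -/
theorem normalizer_dvd {H : Subgroup (Equiv.Perm GolayPt)} {p q : ℕ} {x : Equiv.Perm GolayPt}
    {hx : x ∈ H} (h : IsSelfCent p (⟨x, hx⟩ : H))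
    (hinv : ∀ g : H, g * ⟨x, hx⟩ * g⁻¹ ≠ (⟨x, hx⟩ : H)⁻¹) (hp : p = 2 * q + 1) :
    Nat.card ↥(H ⊓ Subgroup.normalizer (Subgroup.zpowers x : Set (Equiv.Perm GolayPt))) ∣ p * q := by
  rw [card_inf_normalizer H hx]
  show Nat.card (nzr (⟨x, hx⟩ : H)) ∣ _
  rw [CfsgLib.SimpleCrit.card_nzr h]
  exact Nat.mul_dvd_mul_left p (CfsgLib.SimpleCrit.eIdx_dvd_q h hp hinv)

theorem fix_mem_normalizer {y g : Equiv.Perm GolayPt} {r : GolayPt}
    (hg : g ∈ Subgroup.normalizer (Subgroup.zpowers y : Set (Equiv.Perm GolayPt))) (hr : y r = r) :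
    y (g r) = g r := by
  have h := (Subgroup.mem_normalizer_iff.1 (inv_mem hg) y).1 (Subgroup.mem_zpowers y)
  obtain ⟨k, hk⟩ := h
  rw [inv_inv] at hk
  have h2 : (g⁻¹ * y * g) r = r := by
    rw [← hk]
    exact Equiv.Perm.zpow_apply_eq_self_of_apply_eq_self hr k
  rw [Equiv.Perm.mul_apply, Equiv.Perm.mul_apply, Equiv.Perm.inv_eq_iff_eq] at h2
  exact h2

theorem mem_normalizer_of_conj {Γ : Type*} [Group Γ] [Finite Γ] {y g : Γ}
    (h : g * y * g⁻¹ ∈ Subgroup.zpowers y) :
    g ∈ Subgroup.normalizer (Subgroup.zpowers y : Set Γ) := by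
  rw [Subgroup.mem_normalizer_iff_map_conj_eq]
  refine Subgroup.eq_of_le_of_card_ge ?_ ?_
  · show Subgroup.map (MulAut.conj g).toMonoidHom (Subgroup.zpowers y) ≤ _
    rw [MonoidHom.map_zpowers, Subgroup.zpowers_le]
    simpa using h
  · exact le_of_eq (Nat.card_congr
      (Subgroup.equivMapOfInjective _ _ (MulAut.conj g).injective).toEquiv)

/-- the translation -/
local notation "tt" => aff 1 1

/-- the element of order eleven -/
noncomputable def yy : Equiv.Perm GolayPt := toPerm elt22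

/-- the square two -/
def two : (ZMod 23)ˣ := ⟨2, 12, by decide, by decide⟩

theorem isSquare_two : IsSquare two := ⟨⟨5, 14, by decide, by decide⟩, by ext; decide⟩

theorem yy_eq : yy = aff two 0 := by
  refine (eq_toPerm (by decide +kernel) _ fun p => ?_).symm
  rw [aff_apply]
  revert p
  decide +kernel

theorem shiftP_eq : toPerm shiftP = tt := shift_eq.symm.trans shift_aff

theorem tt_fixed : ∀ p : GolayPt, Option.map (fun x => ((1 : (ZMod 23)ˣ) : ZMod 23) * x + 1) p = p →
    p = none := by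
  decide +kernel

theorem yy_fixed : ∀ p : GolayPt, Option.map (fun x => (two : ZMod 23) * x + 0) p = p →
    p = none ∨ p = some 0 := by
  decide +kernel

theorem order_tt : orderOf tt = 23 := by
  refine orderOf_eq_prime ?_ fun h => ?_
  · rw [aff_pow, ← aff_one]
    congr 1
  · exact absurd (aff_injective (h.trans aff_one.symm)).2 (by decide)

theorem order_yy : orderOf yy = 11 := by
  obtain ⟨hx, h, -⟩ := Aut.selfCent11
  have := h.2.1
  rwa [Subgroup.orderOf_mk] at this

theorem tt_dvd : Nat.card ↥(M24 ⊓ Subgroup.normalizer (Subgroup.zpowers tt : Set (Equiv.Perm GolayPt))) ∣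
    253 := by
  have hle : M24 ⊓ Subgroup.normalizer (Subgroup.zpowers tt : Set (Equiv.Perm GolayPt)) ≤
      fixH M24 F23 := by
    rintro g ⟨hgM, hgN⟩
    refine mem_fix23_iff.2 ⟨hgM, ?_⟩
    have h := fix_mem_normalizer hgN (r := none) rfl
    rw [aff_apply] at h
    exact tt_fixed _ h
  have heq : M24 ⊓ Subgroup.normalizer (Subgroup.zpowers tt : Set (Equiv.Perm GolayPt)) =
      fixH M24 F23 ⊓ Subgroup.normalizer (Subgroup.zpowers tt : Set (Equiv.Perm GolayPt)) :=
    le_antisymm (le_inf hle inf_le_right) (inf_le_inf_right _ inf_le_left)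
  rw [heq, ← shiftP_eq]
  have hmem : toPerm shiftP ∈ fixH M24 F23 :=
    toPerm_mem_fix24 (by decide +kernel) (by decide +kernel)
  obtain ⟨h, hinv⟩ := selfCent_of_conjOK (H := M24) (F := F23) (p := 23) (reps := [0, 23])
    (dom := domShift) (inv := []) (by norm_num) le_rfl (by simp) hmem (by decide +kernel)
    (by decide +kernel) (by decide +kernel) (by decide +kernel)
  exact normalizer_dvd h hinv (q := 11) rfl

theorem fix_zero {g : Equiv.Perm GolayPt}
    (hg : g ∈ Subgroup.normalizer (Subgroup.zpowers yy : Set (Equiv.Perm GolayPt)))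
    (h : g none = none) : g (some 0) = some 0 := by
  have h0 : yy (some 0) = some 0 := by rw [yy_eq, aff_apply]; decide
  have h1 := fix_mem_normalizer hg h0
  rw [yy_eq, aff_apply] at h1
  exact (yy_fixed _ h1).resolve_left fun h2 =>
    Option.some_ne_none _ (g.injective (h2.trans h.symm))

theorem fix23_yy_dvd :
    Nat.card ↥(fixH M24 F23 ⊓ Subgroup.normalizer (Subgroup.zpowers yy : Set (Equiv.Perm GolayPt))) ∣
      55 := by
  have hle : fixH M24 F23 ⊓ Subgroup.normalizer (Subgroup.zpowers yy : Set (Equiv.Perm GolayPt)) ≤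
      fixH M24 F22 := by
    rintro g ⟨hgF, hgN⟩
    obtain ⟨hM, h23⟩ := mem_fix23_iff.1 hgF
    exact mem_fix22_iff.2 ⟨hM, h23, fix_zero hgN h23⟩
  obtain ⟨hx, h, hinv⟩ := Aut.selfCent11
  exact (Subgroup.card_dvd_of_le (le_inf hle inf_le_right)).trans (normalizer_dvd h hinv (q := 5) rfl)

theorem yy_dvd : Nat.card ↥(M24 ⊓ Subgroup.normalizer (Subgroup.zpowers yy : Set (Equiv.Perm GolayPt))) ∣
    110 := by
  set A := M24 ⊓ Subgroup.normalizer (Subgroup.zpowers yy : Set (Equiv.Perm GolayPt)) with hA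
  have hO : ∀ g ∈ A, g none ∈ ({none, some 0} : Finset GolayPt) := by
    intro g hg
    have h := fix_mem_normalizer hg.2 (r := none) (by rw [yy_eq]; rfl)
    rw [yy_eq, aff_apply] at h
    simpa using yy_fixed _ h
  have h2 : Nat.card (MulAction.orbit A (none : GolayPt)) ≤ 2 :=
    (Aut.orbit_le hO).trans (le_of_eq (by decide))
  haveI : Nonempty (MulAction.orbit A (none : GolayPt)) := ⟨⟨none, MulAction.mem_orbit_self _⟩⟩
  have hpos : 0 < Nat.card (MulAction.orbit A (none : GolayPt)) := Nat.card_pos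
  have hdvd : Nat.card (MulAction.orbit A (none : GolayPt)) ∣ 2 := by
    rcases (show Nat.card (MulAction.orbit A (none : GolayPt)) = 1 ∨
      Nat.card (MulAction.orbit A (none : GolayPt)) = 2 by omega) with h | h <;> simp [h]
  rw [← Aut.card_eq_orbit_mul A none]
  refine (Nat.mul_dvd_mul hdvd ((Subgroup.card_dvd_of_le ?_).trans fix23_yy_dvd) : _ ∣ 2 * 55)
  rintro g ⟨⟨hgM, hgN⟩, hgs⟩
  exact ⟨mem_fix23_iff.2 ⟨hgM, hgs⟩, hgN⟩

theorem affSq_le_normalizer :
    affSq ≤ Subgroup.normalizer (Subgroup.zpowers tt : Set (Equiv.Perm GolayPt)) := by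
  rintro _ ⟨u, a, -, rfl⟩
  refine mem_normalizer_of_conj ⟨((u : ZMod 23).val : ℤ), ?_⟩
  show tt ^ ((u : ZMod 23).val : ℤ) = aff u a * tt * (aff u a)⁻¹
  rw [zpow_natCast, eq_mul_inv_iff_mul_eq, aff_pow, ZMod.natCast_val, ZMod.cast_id, aff_mul, aff_mul]
  congr 1
  · simp
  · simp; ring

theorem arith24 : ∀ k < 1754, 40320 % (23 * k + 1) = 0 → ∀ a ∈ [22, 110],
    6072 * (23 * k + 1) % a = 0 → 6072 * (23 * k + 1) / a % 11 = 1 → k = 0 ∨ k = 1753 := by
  decide +kernel

theorem arith23 : ∀ k < 1754, 40320 % (23 * k + 1) = 0 → ∀ a ∈ [11, 55],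
    253 * (23 * k + 1) % a = 0 → 253 * (23 * k + 1) / a % 11 = 1 → k = 0 ∨ k = 1753 := by
  decide +kernel

theorem not_sq_dvd {p m M : ℕ} (h : m ∣ M) (hM : ¬ p ^ 2 ∣ M) : ¬ p ^ 2 ∣ m :=
  fun h' => hM (h'.trans h)

theorem eq_or_eq24 (K : Subgroup (Equiv.Perm GolayPt)) (hlo : Subgroup.closure genL ≤ K)
    (hhi : K ≤ M24) : K = Subgroup.closure genL ∨ K = M24 := by
  have hdhi : Nat.card K ∣ 244823040 := natCard_M24 ▸ Subgroup.card_dvd_of_le hhi
  obtain ⟨d, hd⟩ : 6072 ∣ Nat.card K := card_closure_genL ▸ Subgroup.card_dvd_of_le hlo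
  have hd40 : d ∣ 40320 := by
    rw [hd, show (244823040 : ℕ) = 6072 * 40320 by norm_num] at hdhi
    exact Nat.dvd_of_mul_dvd_mul_left (by norm_num) hdhi
  have hpos : 0 < d := Nat.pos_of_dvd_of_pos hd40 (by norm_num)
  have hle : d ≤ 40320 := Nat.le_of_dvd (by norm_num) hd40
  haveI : Fact (Nat.Prime 11) := ⟨by norm_num⟩
  have hB : affSq ≤ K := affSq_le.trans hlo
  have htt : tt ∈ K := hB ⟨1, 1, IsSquare.one, rfl⟩
  have hyy : yy ∈ K := hB ⟨two, 0, isSquare_two, yy_eq⟩
  obtain ⟨n, hn, hn1⟩ := sylow_eq (p := 23) K htt order_tt (not_sq_dvd hdhi (by norm_num))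
  have ha : Nat.card ↥(K ⊓ Subgroup.normalizer (Subgroup.zpowers tt : Set (Equiv.Perm GolayPt))) = 253 :=
    Nat.dvd_antisymm ((Subgroup.card_dvd_of_le (inf_le_inf_right _ hhi)).trans tt_dvd)
      (card_affSq ▸ Subgroup.card_dvd_of_le (le_inf hB affSq_le_normalizer))
  rw [ha, hd] at hn
  obtain ⟨k, rfl⟩ : ∃ k, d = 23 * k + 1 := ⟨d / 23, by omega⟩
  obtain ⟨m, hm, hm1⟩ := sylow_eq (p := 11) K hyy order_yy (not_sq_dvd hdhi (by norm_num))
  generalize hb : Nat.card ↥(K ⊓ Subgroup.normalizer (Subgroup.zpowers yy : Set (Equiv.Perm GolayPt))) = b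
    at hm
  have hb1 : b ∣ 110 := hb ▸ (Subgroup.card_dvd_of_le (inf_le_inf_right _ hhi)).trans yy_dvd
  have hb2 : 11 ∣ b := by
    rw [← hb, ← order_yy]
    exact Subgroup.orderOf_dvd_natCard _ ⟨hyy, Subgroup.le_normalizer (Subgroup.mem_zpowers yy)⟩
  have hb3 : 2 ∣ b := by
    have hw : orderOf projInv = 2 := by
      haveI : Fact (Nat.Prime 2) := ⟨by norm_num⟩
      refine orderOf_eq_prime (by rw [sq, projInv_sq]) fun h => ?_
      have := congrArg (fun g : Equiv.Perm GolayPt => g none) h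
      simp [projInv, projInvFun] at this
    rw [← hb, ← hw]
    refine Subgroup.orderOf_dvd_natCard _ ⟨hlo projInv_mem_genL, mem_normalizer_of_conj ?_⟩
    rw [yy_eq, projInv_mul, mul_assoc, mul_inv_cancel, mul_one, Subgroup.mem_zpowers_iff]
    refine ⟨-1, ?_⟩
    rw [zpow_neg_one, aff_inv, mul_zero]
  have hb' : b ∈ [22, 110] := by
    have hle : b ≤ 110 := Nat.le_of_dvd (by norm_num) hb1
    have h22 : 22 ∣ b := by omega
    obtain ⟨c, rfl⟩ := h22
    have : c ≤ 5 := by omega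
    interval_cases c <;> revert hb1 <;> norm_num
  have hbpos : 0 < b := hb ▸ Nat.card_pos
  rw [hd] at hm
  have h1 : 6072 * (23 * k + 1) % b = 0 := by rw [hm, Nat.mul_mod_left]
  have h2 : 6072 * (23 * k + 1) / b % 11 = 1 := by rw [hm, Nat.mul_div_cancel _ hbpos]; exact hm1
  rcases arith24 k (by omega) (Nat.mod_eq_zero_of_dvd hd40) b hb' h1 h2 with rfl | rfl
  · exact Or.inl (Subgroup.eq_of_le_of_card_ge hlo (by rw [hd, card_closure_genL])).symm
  · exact Or.inr (Subgroup.eq_of_le_of_card_ge hhi (by rw [hd, natCard_M24]))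

theorem eq_or_eq23 (K : Subgroup (Equiv.Perm GolayPt)) (hlo : affSq ≤ K)
    (hhi : K ≤ fixH M24 F23) : K = affSq ∨ K = fixH M24 F23 := by
  have hdhi : Nat.card K ∣ 10200960 := natCard_fix23 ▸ Subgroup.card_dvd_of_le hhi
  obtain ⟨d, hd⟩ : 253 ∣ Nat.card K := card_affSq ▸ Subgroup.card_dvd_of_le hlo
  have hd40 : d ∣ 40320 := by
    rw [hd, show (10200960 : ℕ) = 253 * 40320 by norm_num] at hdhi
    exact Nat.dvd_of_mul_dvd_mul_left (by norm_num) hdhi
  have hpos : 0 < d := Nat.pos_of_dvd_of_pos hd40 (by norm_num)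
  have hle : d ≤ 40320 := Nat.le_of_dvd (by norm_num) hd40
  haveI : Fact (Nat.Prime 11) := ⟨by norm_num⟩
  have htt : tt ∈ K := hlo ⟨1, 1, IsSquare.one, rfl⟩
  have hyy : yy ∈ K := hlo ⟨two, 0, isSquare_two, yy_eq⟩
  obtain ⟨n, hn, hn1⟩ := sylow_eq (p := 23) K htt order_tt (not_sq_dvd hdhi (by norm_num))
  have ha : Nat.card ↥(K ⊓ Subgroup.normalizer (Subgroup.zpowers tt : Set (Equiv.Perm GolayPt))) = 253 :=
    Nat.dvd_antisymm ((Subgroup.card_dvd_of_le (inf_le_inf_right _ (hhi.trans inf_le_left))).trans tt_dvd)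
      (card_affSq ▸ Subgroup.card_dvd_of_le (le_inf hlo affSq_le_normalizer))
  rw [ha, hd] at hn
  obtain ⟨k, rfl⟩ : ∃ k, d = 23 * k + 1 := ⟨d / 23, by omega⟩
  obtain ⟨m, hm, hm1⟩ := sylow_eq (p := 11) K hyy order_yy (not_sq_dvd hdhi (by norm_num))
  generalize hb : Nat.card ↥(K ⊓ Subgroup.normalizer (Subgroup.zpowers yy : Set (Equiv.Perm GolayPt))) = b
    at hm
  have hb1 : b ∣ 55 := hb ▸ (Subgroup.card_dvd_of_le (inf_le_inf_right _ hhi)).trans fix23_yy_dvd
  have hb2 : 11 ∣ b := by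
    rw [← hb, ← order_yy]
    exact Subgroup.orderOf_dvd_natCard _ ⟨hyy, Subgroup.le_normalizer (Subgroup.mem_zpowers yy)⟩
  have hb' : b ∈ [11, 55] := by
    have hle : b ≤ 55 := Nat.le_of_dvd (by norm_num) hb1
    obtain ⟨c, rfl⟩ := hb2
    have : c ≤ 5 := by omega
    interval_cases c <;> revert hb1 <;> norm_num
  have hbpos : 0 < b := hb ▸ Nat.card_pos
  rw [hd] at hm
  have h1 : 253 * (23 * k + 1) % b = 0 := by rw [hm, Nat.mul_mod_left]
  have h2 : 253 * (23 * k + 1) / b % 11 = 1 := by rw [hm, Nat.mul_div_cancel _ hbpos]; exact hm1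
  rcases arith23 k (by omega) (Nat.mod_eq_zero_of_dvd hd40) b hb' h1 h2 with rfl | rfl
  · exact Or.inl (Subgroup.eq_of_le_of_card_ge hlo (by rw [hd, card_affSq])).symm
  · exact Or.inr (Subgroup.eq_of_le_of_card_ge hhi (by rw [hd, natCard_fix23]))

theorem isCoatom_genL : IsCoatom ((Subgroup.closure genL).subgroupOf M24) := by
  refine ⟨fun h => ?_, fun K hK => ?_⟩
  · have := Subgroup.card_dvd_of_le (Subgroup.subgroupOf_eq_top.1 h)
    rw [natCard_M24, card_closure_genL] at this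
    norm_num at this
  · have hlo : Subgroup.closure genL ≤ K.map M24.subtype := by
      intro g hg
      exact ⟨⟨g, genL_le hg⟩, hK.le hg, rfl⟩
    rcases eq_or_eq24 _ hlo (Subgroup.map_subtype_le K) with h | h
    · refine absurd ?_ hK.ne'
      rw [← h]
      exact (Subgroup.comap_map_eq_self_of_injective M24.subtype_injective K).symm
    · refine Subgroup.map_injective M24.subtype_injective ?_
      rw [h, ← MonoidHom.range_eq_map, Subgroup.range_subtype]

theorem isCoatom_affSq :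
    IsCoatom ((affSq.subgroupOf M24).subgroupOf (MulAction.stabilizer M24 (none : GolayPt))) := by
  set S := MulAction.stabilizer M24 (none : GolayPt)
  have hS : S.map M24.subtype = fixH M24 F23 := by
    ext g
    rw [mem_fix23_iff]
    constructor
    · rintro ⟨g, hg, rfl⟩
      exact ⟨g.2, hg⟩
    · rintro ⟨hg, h⟩
      exact ⟨⟨g, hg⟩, h, rfl⟩
  have hinj := M24.subtype_injective.comp S.subtype_injective
  refine ⟨fun h => ?_, fun K hK => ?_⟩
  · have h1 : S.map M24.subtype ≤ affSq := by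
      rintro _ ⟨g, hg, rfl⟩
      exact (Subgroup.subgroupOf_eq_top.1 h) hg
    have := Subgroup.card_dvd_of_le h1
    rw [hS, natCard_fix23, card_affSq] at this
    norm_num at this
  · have hlo : affSq ≤ K.map (M24.subtype.comp S.subtype) := by
      intro g hg
      obtain ⟨h1, h2⟩ := mem_fix23_iff.1 (affSq_le_fix hg)
      exact ⟨⟨⟨g, h1⟩, h2⟩, hK.le hg, rfl⟩
    have hhi : K.map (M24.subtype.comp S.subtype) ≤ fixH M24 F23 := by
      rw [← hS, ← Subgroup.map_map]
      exact Subgroup.map_mono (Subgroup.map_subtype_le K)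
    rcases eq_or_eq23 _ hlo hhi with h | h
    · refine absurd ?_ hK.ne'
      rw [← h, Subgroup.subgroupOf, Subgroup.subgroupOf, Subgroup.comap_comap]
      exact (Subgroup.comap_map_eq_self_of_injective hinj K).symm
    · refine Subgroup.map_injective (f := M24.subtype.comp S.subtype) hinj ?_
      rw [h, ← hS, ← Subgroup.map_map, ← MonoidHom.range_eq_map, Subgroup.range_subtype]

end CfsgLib.Golay.ProjLineMax
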