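import Cfsg.Agent.Lib.Golay.SylowTwoCert

/-!
Every element of prime power order of a permutation group is conjugate into an explicitly listed
Sylow subgroup.
-/

set_option autoImplicit false
set_option linter.style.haveILetI false

namespace CfsgLib.Golay.SylowList

open Cfsg CfsgLib.Golay CfsgLib.Golay.SylowTwo
open scoped Pointwise

attribute [local irreducible] idP toPerm mulP validP

/-- a list of valid packed permutations, closed under products and without repetitions -/
def closedOK : List ℕ → Bool := fun l =>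
  l.all validP && l.any (eqP idP) && l.all (fun P => l.all fun Q => l.any (eqP (mulP P Q))) &&
    (List.range l.length).all fun i => (List.range l.length).all fun j =>
      i == j || !eqP (l.getD i 0) (l.getD j 0)

/-- An element of prime power order of `G` is conjugate into a Sylow subgroup given by its image. -/
theorem exists_conj_of_card {G : Subgroup (Equiv.Perm GolayPt)} {p n m : ℕ} [Fact p.Prime]
    (hcard : Nat.card G = p ^ n * m) (hm : ¬ p ∣ m) {B : Subgroup (Equiv.Perm GolayPt)}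
    (hB : B ≤ G) (hBcard : Nat.card B = p ^ n) {g : Equiv.Perm GolayPt} (hg : g ∈ G) {k : ℕ}
    (hgp : g ^ p ^ k = 1) : ∃ a ∈ G, a * g * a⁻¹ ∈ B := by
  set B' : Subgroup G := B.subgroupOf G
  have hcardB : Nat.card B' = p ^ (Nat.card G).factorization p := by
    rw [Nat.card_congr (Subgroup.subgroupOfEquivOfLe hB).toEquiv, hBcard, hcard,
      Nat.factorization_mul (pow_ne_zero _ (Fact.out : p.Prime).ne_zero)
        (fun h => hm (by rw [h]; exact dvd_zero p)), Finsupp.add_apply,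
      Nat.factorization_eq_zero_of_not_dvd hm, Nat.factorization_pow]
    simp [(Fact.out : p.Prime).factorization_self]
  let S : Sylow p G := Sylow.ofCard B' hcardB
  have hz : IsPGroup p (Subgroup.zpowers (⟨g, hg⟩ : G)) := by
    obtain ⟨j, -, hj⟩ := (Nat.dvd_prime_pow (Fact.out : p.Prime)).1
      (orderOf_dvd_of_pow_eq_one (show (⟨g, hg⟩ : G) ^ p ^ k = 1 from Subtype.ext hgp))
    exact IsPGroup.of_card (n := j) (by rw [Nat.card_zpowers, hj])
  obtain ⟨P, hP⟩ := hz.exists_le_sylow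
  obtain ⟨a, ha⟩ := MulAction.exists_smul_eq G P S
  refine ⟨a, a.2, ?_⟩
  have h1 : a * ⟨g, hg⟩ * a⁻¹ ∈ (S : Subgroup G) := by
    rw [← ha, Sylow.coe_subgroup_smul]
    exact ⟨_, hP (Subgroup.mem_zpowers _), rfl⟩
  exact h1

/-- The subgroup with the elements of a closed list. -/
theorem exists_subgroup {l : List ℕ} (h : closedOK l = true) :
    ∃ B : Subgroup (Equiv.Perm GolayPt), Nat.card B = l.length ∧
      ∀ σ, σ ∈ B ↔ ∃ P ∈ l, σ = toPerm P := by
  classical
  simp only [closedOK, Bool.and_eq_true, List.all_eq_true, List.any_eq_true, Bool.or_eq_true,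
    List.mem_range, beq_iff_eq, Bool.not_eq_true'] at h
  obtain ⟨⟨⟨hv, ⟨e, he, hee⟩⟩, hmul⟩, hnd⟩ := h
  have hone : ∃ P ∈ l, (1 : Equiv.Perm GolayPt) = toPerm P :=
    ⟨e, he, by rw [← toPerm_idP]; exact toPerm_eq_of_eqP validP_idP (hv e he) hee⟩
  have hprod : ∀ {a b : Equiv.Perm GolayPt}, (∃ P ∈ l, a = toPerm P) → (∃ P ∈ l, b = toPerm P) →
      ∃ P ∈ l, a * b = toPerm P := by
    rintro a b ⟨P, hP, rfl⟩ ⟨Q, hQ, rfl⟩
    obtain ⟨R, hR, hPR⟩ := hmul P hP Q hQ
    refine ⟨R, hR, ?_⟩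
    rw [← toPerm_mulP (hv P hP) (hv Q hQ)]
    exact toPerm_eq_of_eqP (validP_mulP (hv P hP) (hv Q hQ)) (hv R hR) hPR
  let M : Submonoid (Equiv.Perm GolayPt) :=
    { carrier := {σ | ∃ P ∈ l, σ = toPerm P}
      mul_mem' := fun ha hb => hprod ha hb
      one_mem' := hone }
  have hinv : ∀ σ ∈ M, σ⁻¹ ∈ M := by
    intro σ hσ
    have : σ ^ (orderOf σ - 1) = σ⁻¹ := by
      refine (inv_eq_of_mul_eq_one_right ?_).symm
      rw [← pow_succ', Nat.sub_add_cancel (orderOf_pos σ), pow_orderOf_eq_one]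
    rw [← this]
    exact pow_mem hσ _
  refine ⟨{ M with inv_mem' := fun hx => hinv _ hx }, ?_, fun σ => Iff.rfl⟩
  have hnodup : (l.map toPerm).Nodup := by
    rw [List.nodup_iff_injective_getElem]
    rintro ⟨i, hi⟩ ⟨j, hj⟩ hij
    simp only [List.getElem_map] at hij
    rw [List.length_map] at hi hj
    apply Fin.ext
    by_contra hne
    rcases hnd i hi j hj with h | h
    · exact hne h
    · rw [List.getD_eq_getElem?_getD, List.getD_eq_getElem?_getD, List.getElem?_eq_getElem hi,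
        List.getElem?_eq_getElem hj, Option.getD_some, Option.getD_some,
        eqP_of_toPerm_eq (hv _ (List.getElem_mem hi)) (hv _ (List.getElem_mem hj)) hij] at h
      exact absurd h (by simp)
  have hset : ({σ | ∃ P ∈ l, σ = toPerm P} : Set (Equiv.Perm GolayPt)) = ((l.map toPerm).toFinset : Set _) := by
    ext σ
    simp only [Set.mem_ofPred_eq, List.coe_toFinset, List.mem_map]
    exact ⟨fun ⟨P, hP, e⟩ => ⟨P, hP, e.symm⟩, fun ⟨P, hP, e⟩ => ⟨P, hP, e.symm⟩⟩
  show Nat.card ({σ | ∃ P ∈ l, σ = toPerm P} : Set (Equiv.Perm GolayPt)) = l.length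
  rw [hset, Nat.card_coe_set_eq, Set.ncard_coe_finset, List.toFinset_card_of_nodup hnodup,
    List.length_map]

/-- An element of prime power order is conjugate to a listed element of a Sylow subgroup. -/
theorem exists_conj_list {G : Subgroup (Equiv.Perm GolayPt)} {p n m : ℕ} [Fact p.Prime]
    (hcard : Nat.card G = p ^ n * m) (hm : ¬ p ∣ m) {l : List ℕ} (hl : closedOK l = true)
    (hlen : l.length = p ^ n) (hmem : ∀ P ∈ l, toPerm P ∈ G) {g : Equiv.Perm GolayPt} (hg : g ∈ G)
    {k : ℕ} (hgp : g ^ p ^ k = 1) : ∃ a ∈ G, ∃ P ∈ l, a * g * a⁻¹ = toPerm P := by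
  obtain ⟨B, hB, hiff⟩ := exists_subgroup hl
  have hle : B ≤ G := fun σ hσ => by
    obtain ⟨P, hP, rfl⟩ := (hiff σ).1 hσ
    exact hmem P hP
  obtain ⟨a, ha, hab⟩ := exists_conj_of_card hcard hm hle (hB.trans hlen) hg hgp
  exact ⟨a, ha, (hiff _).1 hab⟩

/-- An element of two power order is conjugate to a word of a certified Sylow subgroup. -/
theorem exists_conj_els {G : Subgroup (Equiv.Perm GolayPt)} {n m : ℕ} {gs : List ℕ}
    {cs : List (ℕ × List ℕ)} (hcard : Nat.card G = 2 ^ n * m) (hm : ¬ 2 ∣ m)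
    (hpc : pcOK gs cs = true) (hlen : gs.length = n) (hmem : ∀ P ∈ gs, toPerm P ∈ G)
    {g : Equiv.Perm GolayPt} (hg : g ∈ G) {k : ℕ} (hgp : g ^ 2 ^ k = 1) :
    ∃ a ∈ G, ∃ P ∈ els gs, validP P = true ∧ toPerm P ∈ G ∧ a * g * a⁻¹ = toPerm P := by
  haveI : Fact (Nat.Prime 2) := ⟨Nat.prime_two⟩
  have hle : HS gs ≤ G := (Subgroup.closure_le _).2 (by rintro _ ⟨P, hP, rfl⟩; exact hmem P hP)
  obtain ⟨a, ha, hab⟩ := exists_conj_of_card hcard hm hle (by rw [card_HS hpc, hlen]) hg hgp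
  obtain ⟨P, hP, he⟩ := exists_els hpc _ hab
  obtain ⟨hv, hmP⟩ := els_mem (validP_of_pcOK hpc) P hP
  exact ⟨a, ha, P, hP, hv, hle hmP, he⟩

end CfsgLib.Golay.SylowList
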