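import Cfsg.Agent.Lib.Golay.SylowTwoCert
import Cfsg.Agent.Lib.Fusion.SimpleModel
import Cfsg.Agent.Lib.Coprime.Action

/-!
A certified criterion for the 2-fusion system of a group of permutations of the 24 points to be
simple: a closure certificate for strongly closed subgroups, and a census of cosets of the
Frattini subgroup.
-/

set_option autoImplicit false

namespace CfsgLib.Golay.SylowTwo

open Cfsg Cfsg.FusionSystem CfsgLib.Golay
open scoped Pointwise

attribute [local irreducible] idP toPerm mulP validP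

/-- a step of the closure certificate -/
inductive Step where
  /-- a product of two derived elements -/
  | mul (i j : ℕ)
  /-- a conjugate `r` of a derived element by `c` -/
  | conj (i c r : ℕ)

/-- check of the steps -/
def stepsOK (inG : ℕ → Bool) (gs : List ℕ) : List ℕ → List Step → Bool
  | vals, [] => gs.all fun g => vals.any (eqP g)
  | vals, .mul i j :: rest =>
    stepsOK inG gs (vals ++ [mulP (vals.getD i idP) (vals.getD j idP)]) rest
  | vals, .conj i c r :: rest =>
    inG c && validP r && eqP (mulP c (vals.getD i idP)) (mulP r c) && (els gs).any (eqP r)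
      && stepsOK inG gs (vals ++ [r]) rest

/-- the data of a certificate -/
structure Data where
  /-- polycyclic generators, those of the Frattini subgroup last -/
  gens : List ℕ
  /-- the relations -/
  cs : List (ℕ × List ℕ)
  /-- the rank of the Frattini quotient -/
  d : ℕ
  /-- the central involution -/
  z : ℕ
  /-- the closure steps -/
  steps : List Step
  /-- words in squares for the last generators -/
  sqs : List (List ℕ)
  /-- classes of orbit sizes -/
  classes : List (ℕ × ℕ)

/-- the number of points of a mask fixed by a permutation -/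
def fxP (m P : ℕ) : ℕ := (List.range 24).countP fun i => m.testBit i && ap P i == i

/-- the invariants of an element -/
def code (classes : List (ℕ × ℕ)) (P : ℕ) : List (ℕ × ℕ) :=
  classes.map fun c => (fxP c.2 P, fxP c.2 (mulP P P))

/-- the census of a coset -/
def census (classes : List (ℕ × ℕ)) (H : List ℕ) (r : ℕ) : List (List (ℕ × ℕ)) :=
  H.map fun h => code classes (mulP r h)

/-- product of the squares of a list -/
def sqProd : List ℕ → ℕ
  | [] => idP
  | q :: qs => mulP (mulP q q) (sqProd qs)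

/-- all checks -/
def Data.ok (D : Data) (inG : ℕ → Bool) : Bool :=
  pcOK D.gens D.cs && D.gens.all inG && decide (D.d ≤ D.gens.length)
    && validP D.z
    && (els D.gens).all (fun P => D.gens.any (fun g => !eqP (mulP g P) (mulP P g))
      || eqP P idP || eqP P D.z)
    && stepsOK inG D.gens [D.z] D.steps
    && (els D.gens).all (fun P => (els (D.gens.drop D.d)).any (eqP (mulP P P)))
    && D.sqs.length == (D.gens.drop D.d).length
    && ((D.gens.drop D.d).zip D.sqs).all (fun x =>
      x.2.all (fun q => validP q && (els D.gens).any (eqP q)) && eqP x.1 (sqProd x.2))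
    && orbOK D.gens
    && D.classes.all (fun c => (List.range 24).all fun i =>
      c.2.testBit i == (pop 24 (orb D.gens i) == c.1))
    && (D.gens.take D.d).all (fun a => (els (D.gens.take D.d)).any (eqP a))
    && (D.gens.take D.d).all (fun a => decide (((els (D.gens.take D.d)).filter fun r =>
      (census D.classes (els (D.gens.drop D.d)) r).isPerm
        (census D.classes (els (D.gens.drop D.d)) a)).length ≤ 2))

/-- the number of points of a mask fixed by a permutation -/
noncomputable def fx (m : ℕ) (σ : Equiv.Perm GolayPt) : ℕ :=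
  ((dec m).filter fun p => σ p = p).card

theorem fxP_eq {P : ℕ} (hP : validP P = true) (m : ℕ) : fxP m P = fx m (toPerm P) := by
  rw [fxP, List.countP_eq_length_filter, fx]
  have hnd : ((List.range 24).filter fun i => m.testBit i && ap P i == i).Nodup :=
    List.nodup_range.filter _
  rw [← List.toFinset_card_of_nodup hnd]
  refine Finset.card_nbij' pt idx ?_ ?_ ?_ ?_
  · intro i hi
    simp only [List.coe_toFinset, Set.mem_ofPred_eq, List.mem_filter, List.mem_range,
      Bool.and_eq_true, beq_iff_eq] at hi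
    simp only [Finset.coe_filter, mem_dec, Set.mem_ofPred_eq, idx_pt _ hi.1]
    refine ⟨hi.2.1, idx_injective ?_⟩
    rw [idx_toPerm hP, idx_pt _ hi.1, hi.2.2]
  · intro p hp
    simp only [Finset.coe_filter, mem_dec, Set.mem_ofPred_eq] at hp
    simp only [List.coe_toFinset, Set.mem_ofPred_eq, List.mem_filter, List.mem_range,
      Bool.and_eq_true, beq_iff_eq]
    refine ⟨idx_lt p, hp.1, ?_⟩
    rw [← idx_toPerm hP, hp.2]
  · intro i hi
    simp only [List.coe_toFinset, Set.mem_ofPred_eq, List.mem_filter, List.mem_range] at hi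
    exact idx_pt _ hi.1
  · intro p _
    exact pt_idx p

theorem fx_conj (m : ℕ) (g σ : Equiv.Perm GolayPt) (hg : ∀ p, g p ∈ dec m ↔ p ∈ dec m) :
    fx m (g * σ * g⁻¹) = fx m σ := by
  refine (Finset.card_nbij' (fun p => g p) (fun p => g.symm p) ?_ ?_ ?_ ?_).symm
  · intro p hp
    simp only [Finset.coe_filter, Set.mem_ofPred_eq] at hp ⊢
    refine ⟨(hg p).2 hp.1, ?_⟩
    simp [hp.2]
  · intro p hp
    simp only [Finset.coe_filter, Set.mem_ofPred_eq] at hp ⊢
    refine ⟨(hg _).1 (by simpa using hp.1), ?_⟩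
    apply g.injective
    simpa [Equiv.Perm.mul_apply, Equiv.Perm.inv_def] using hp.2
  · intro p _; simp
  · intro p _; simp

/-- Squares lie in the Frattini subgroup of a finite 2-group. -/
theorem sq_mem_frattini {K : Type*} [Group K] [Finite K] (hK : IsPGroup 2 K) (x : K) :
    x * x ∈ frattini K := by
  have : Fact (Nat.Prime 2) := ⟨Nat.prime_two⟩
  have := hK.isNilpotent
  show x * x ∈ Order.radical (Subgroup K)
  rw [Order.radical]
  simp only [Subgroup.mem_iInf]
  intro M hM
  have hMn : M.Normal := Subgroup.NormalizerCondition.normal_of_coatom M Group.normalizerCondition_of_isNilpotent hM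
  by_contra hx
  have hsup : Subgroup.zpowers (x * x) ⊔ M = ⊤ :=
    hM.2 _ (lt_of_le_of_ne le_sup_right fun h => hx (h ▸ Subgroup.mem_sup_left (Subgroup.mem_zpowers _)))
  have hq : (QuotientGroup.mk' M x) ∈ Subgroup.zpowers (QuotientGroup.mk' M (x * x)) := by
    have : x ∈ Subgroup.zpowers (x * x) ⊔ M := hsup ▸ Subgroup.mem_top x
    obtain ⟨y, hy, z, hz, hyz⟩ := Subgroup.mem_sup_of_normal_right.1 this
    obtain ⟨n, hn⟩ := Subgroup.mem_zpowers_iff.1 hy
    rw [show QuotientGroup.mk' M x = QuotientGroup.mk' M y * QuotientGroup.mk' M z by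
      rw [← map_mul, hyz], ← hn, show QuotientGroup.mk' M z = 1 from (QuotientGroup.eq_one_iff z).2 hz, mul_one,
      map_zpow]
    exact Subgroup.zpow_mem _ (Subgroup.mem_zpowers _) n
  obtain ⟨n, hn⟩ := Subgroup.mem_zpowers_iff.1 hq
  obtain ⟨k, hk⟩ := (hK.to_quotient M) (QuotientGroup.mk' M x)
  set y := QuotientGroup.mk' M x with hy
  rw [map_mul, ← hy, ← pow_two, ← zpow_natCast, ← zpow_mul] at hn
  have h1 : y ^ ((2 : ℤ) * n - 1) = 1 := by
    rw [zpow_sub_one]; push_cast at hn; rw [hn, mul_inv_cancel]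
  have h2 : (orderOf y : ℤ) ∣ 2 * n - 1 := orderOf_dvd_iff_zpow_eq_one.2 h1
  obtain ⟨j, -, hj⟩ := (Nat.dvd_prime_pow Nat.prime_two).1 (orderOf_dvd_of_pow_eq_one hk)
  cases j with
  | zero =>
    have : y = 1 := orderOf_eq_one_iff.1 (by simpa using hj)
    exact hx (M.mul_mem ((QuotientGroup.eq_one_iff x).1 this) ((QuotientGroup.eq_one_iff x).1 this))
  | succ j =>
    rw [hj] at h2
    have : (2 : ℤ) ∣ 2 * n - 1 := dvd_trans ⟨2 ^ j, by push_cast; ring⟩ h2
    omega

/-- An odd element normalizing `B` that respects a census of cosets centralizes modulo `H`. -/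
theorem mem_coset_of_two (H : Subgroup (Equiv.Perm GolayPt)) (g : Equiv.Perm GolayPt)
    (hgH : ∀ h ∈ H, g * h * g⁻¹ ∈ H) {a : Equiv.Perm GolayPt}
    (K : List (Equiv.Perm GolayPt)) (hlen : K.length ≤ 2) (haK : ∃ r ∈ K, r⁻¹ * a ∈ H)
    (hK : ∀ r ∈ K, ∃ t ∈ K, t⁻¹ * (g * r * g⁻¹) ∈ H) :
    a⁻¹ * (g * g * a * (g * g)⁻¹) ∈ H := by
  obtain ⟨r0, hr0, h0⟩ := haK
  obtain ⟨r1, hr1, h1⟩ := hK r0 hr0
  obtain ⟨r2, hr2, h2⟩ := hK r1 hr1
  -- `g` moves the coset of `r` to that of `t`
  have hmove : ∀ r t x : Equiv.Perm GolayPt, t⁻¹ * (g * r * g⁻¹) ∈ H → r⁻¹ * x ∈ H →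
      t⁻¹ * (g * x * g⁻¹) ∈ H := by
    intro r t x ht hx
    rw [show t⁻¹ * (g * x * g⁻¹) = t⁻¹ * (g * r * g⁻¹) * (g * (r⁻¹ * x) * g⁻¹) by group]
    exact mul_mem ht (hgH _ hx)
  have hgg : r2⁻¹ * (g * g * a * (g * g)⁻¹) ∈ H := by
    have h := hmove r1 r2 _ h2 (hmove r0 r1 a h1 h0)
    rwa [show g * g * a * (g * g)⁻¹ = g * (g * a * g⁻¹) * g⁻¹ by group]
  suffices a⁻¹ * r2 ∈ H by
    rw [show a⁻¹ * (g * g * a * (g * g)⁻¹) = a⁻¹ * r2 * (r2⁻¹ * (g * g * a * (g * g)⁻¹)) by group]
    exact mul_mem this hgg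
  have hback : ∀ r, r = r0 → a⁻¹ * r ∈ H := by
    rintro r rfl
    simpa using inv_mem h0
  by_cases e20 : r2 = r0
  · exact hback r2 e20
  by_cases e10 : r1 = r0
  · -- `g` already fixes the coset
    have h3 : r2⁻¹ * r0 ∈ H := by
      have h' := hmove r1 r2 r0 h2 (by rw [e10, inv_mul_cancel]; exact one_mem _)
      rw [e10] at h1
      rw [show r2⁻¹ * r0 = r2⁻¹ * (g * r0 * g⁻¹) * (r0⁻¹ * (g * r0 * g⁻¹))⁻¹ by group]
      exact mul_mem h' (inv_mem h1)
    rw [show a⁻¹ * r2 = (r0⁻¹ * a)⁻¹ * (r2⁻¹ * r0)⁻¹ by group]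
    exact mul_mem (inv_mem h0) (inv_mem h3)
  have e21 : r2 = r1 := by
    match K, hlen with
    | [], _ => exact absurd hr0 List.not_mem_nil
    | [u], _ => simp only [List.mem_singleton] at hr0 hr2; exact absurd (hr2.trans hr0.symm) e20
    | [u, v], _ =>
      simp only [List.mem_cons, List.not_mem_nil, or_false] at hr0 hr1 hr2
      rcases hr0 with rfl | rfl <;> rcases hr1 with rfl | rfl <;> rcases hr2 with rfl | rfl <;>
        first
          | rfl
          | exact absurd rfl e20
          | exact absurd rfl e10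
  subst e21
  -- then `r0` and `r2` define the same coset
  have h3 : g * (r0⁻¹ * r2) * g⁻¹ ∈ H := by
    rw [show g * (r0⁻¹ * r2) * g⁻¹ = (r2⁻¹ * (g * r0 * g⁻¹))⁻¹ * (r2⁻¹ * (g * r2 * g⁻¹)) by group]
    exact mul_mem (inv_mem h1) h2
  let f : H → H := fun h => ⟨g * (h : Equiv.Perm GolayPt) * g⁻¹, hgH _ h.2⟩
  have hinj : Function.Injective f := fun x y hxy => Subtype.ext (by
    have := congrArg Subtype.val hxy
    exact mul_left_cancel (mul_right_cancel this))
  obtain ⟨w, hw⟩ := (Finite.injective_iff_surjective.1 hinj) ⟨_, h3⟩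
  have hw' : (w : Equiv.Perm GolayPt) = r0⁻¹ * r2 :=
    mul_left_cancel (mul_right_cancel (congrArg Subtype.val hw))
  rw [show a⁻¹ * r2 = (r0⁻¹ * a)⁻¹ * (r0⁻¹ * r2) by group]
  exact mul_mem (inv_mem h0) (hw' ▸ w.2)

variable {G : Subgroup (Equiv.Perm GolayPt)}

/-- the criterion -/
theorem isSimple (inG : ℕ → Bool)
    (hin : ∀ P, inG P = true → validP P = true ∧ toPerm P ∈ G) (D : Data) (k m : ℕ)
    (hk : D.gens.length = k) (hk1 : 1 ≤ k) (hcard : Nat.card G = 2 ^ k * m) (hm : ¬ 2 ∣ m)
    (hok : D.ok inG = true) (S : Sylow 2 G) :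
    (groupFusionSystem (S : Subgroup G)).IsSimple 2 := by
  classical
  have : Fact (Nat.Prime 2) := ⟨Nat.prime_two⟩
  simp only [Data.ok, Bool.and_eq_true, decide_eq_true_eq, List.all_eq_true, List.any_eq_true,
    Bool.or_eq_true, Bool.not_eq_true', beq_iff_eq] at hok
  obtain ⟨⟨⟨⟨⟨⟨⟨⟨⟨⟨⟨⟨hpc, hgG⟩, hd⟩, hvz⟩, hcen⟩, hsteps⟩, hsq⟩, hsqlen⟩, hsqw⟩, horb⟩, hcls⟩,
    htake⟩, hcens⟩ := hok
  set B := HS D.gens
  set H := HS (D.gens.drop D.d) with hH
  have hv := validP_of_pcOK hpc
  have hel := els_mem hv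
  have hvd : ∀ g ∈ D.gens.drop D.d, validP g = true := fun g hg => hv g (List.mem_of_mem_drop hg)
  have helH := els_mem hvd
  have hvt : ∀ g ∈ D.gens.take D.d, validP g = true := fun g hg => hv g (List.mem_of_mem_take hg)
  have helT := els_mem hvt
  have hBG : B ≤ G := by
    refine (Subgroup.closure_le _).2 ?_
    rintro _ ⟨P, hP, rfl⟩
    exact (hin P (hgG P hP)).2
  have hHB : H ≤ B := Subgroup.closure_mono fun σ ⟨Q, hQ, e⟩ => ⟨Q, List.mem_of_mem_drop hQ, e⟩
  have hTB : HS (D.gens.take D.d) ≤ B :=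
    Subgroup.closure_mono fun σ ⟨Q, hQ, e⟩ => ⟨Q, List.mem_of_mem_take hQ, e⟩
  have hcardB : Nat.card B = 2 ^ k := by rw [card_HS hpc, hk]
  let B' : Subgroup G := B.subgroupOf G
  have hcardB' : Nat.card B' = 2 ^ (Nat.card G).factorization 2 := by
    rw [Nat.card_congr (Subgroup.subgroupOfEquivOfLe hBG).toEquiv, hcardB, hcard,
      Nat.factorization_mul (by positivity) (fun h => hm (by rw [h]; exact dvd_zero 2)), Finsupp.add_apply,
      Nat.factorization_eq_zero_of_not_dvd hm, Nat.factorization_pow]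
    simp [Nat.prime_two.factorization_self]
  have hsqH : ∀ x ∈ B, x * x ∈ H := by
    intro x hx
    obtain ⟨P, hP, rfl⟩ := exists_els hpc x hx
    obtain ⟨Q, hQ, he⟩ := hsq P hP
    rw [← toPerm_mulP (hel P hP).1 (hel P hP).1,
      toPerm_eq_of_eqP (validP_mulP (hel P hP).1 (hel P hP).1) (helH Q hQ).1 he]
    exact (helH Q hQ).2
  have hnorm : ∀ x ∈ B, ∀ h ∈ H, x * h * x⁻¹ ∈ H := by
    intro x hx h hh
    rw [show x * h * x⁻¹ = (x * h) * (x * h) * h⁻¹ * (x⁻¹ * x⁻¹) by group]
    exact mul_mem (mul_mem (hsqH _ (mul_mem hx (hHB hh))) (inv_mem hh)) (hsqH _ (inv_mem hx))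
  have hHsq : H ≤ Subgroup.closure {y | ∃ x ∈ B, y = x * x} := by
    refine (Subgroup.closure_le _).2 ?_
    rintro _ ⟨P, hP, rfl⟩
    obtain ⟨i, hi, rfl⟩ := List.getElem_of_mem hP
    have hz : ((D.gens.drop D.d)[i], D.sqs[i]'(hsqlen ▸ hi)) ∈ (D.gens.drop D.d).zip D.sqs := by
      rw [List.mem_iff_getElem]
      exact ⟨i, by rw [List.length_zip, hsqlen, min_self]; exact hi, by simp⟩
    obtain ⟨h1, h2⟩ := hsqw _ hz
    have hprod : ∀ l : List ℕ, (∀ q ∈ l, validP q = true ∧ ∃ Q ∈ els D.gens, eqP q Q = true) →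
        validP (sqProd l) = true ∧
          toPerm (sqProd l) ∈ Subgroup.closure {y | ∃ x ∈ B, y = x * x} := by
      intro l
      induction l with
      | nil => exact fun _ => ⟨validP_idP, by rw [sqProd, toPerm_idP]; exact one_mem _⟩
      | cons q l ih =>
        intro hl
        simp only [List.mem_cons, forall_eq_or_imp] at hl
        obtain ⟨⟨hvq, Q, hQ, hqQ⟩, hl'⟩ := hl
        obtain ⟨h3, h4⟩ := ih hl'
        refine ⟨validP_mulP (validP_mulP hvq hvq) h3, ?_⟩
        rw [sqProd, toPerm_mulP (validP_mulP hvq hvq) h3, toPerm_mulP hvq hvq]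
        refine mul_mem (Subgroup.subset_closure ⟨_, ?_, rfl⟩) h4
        rw [toPerm_eq_of_eqP hvq (hel Q hQ).1 hqQ]
        exact (hel Q hQ).2
    obtain ⟨h3, h4⟩ := hprod _ h1
    show toPerm _ ∈ _
    rw [toPerm_eq_of_eqP (hvd _ hP) h3 h2]
    exact h4
  -- normalizing elements respect the census
  have hgH_of : ∀ g : Equiv.Perm GolayPt, (∀ x ∈ B, g * x * g⁻¹ ∈ B) → ∀ h ∈ H, g * h * g⁻¹ ∈ H := by
    intro g hg h hh
    have : Subgroup.closure {y | ∃ x ∈ B, y = x * x} ≤ H.comap (MulAut.conj g).toMonoidHom := by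
      refine (Subgroup.closure_le _).2 ?_
      rintro _ ⟨x, hx, rfl⟩
      show g * (x * x) * g⁻¹ ∈ H
      rw [show g * (x * x) * g⁻¹ = (g * x * g⁻¹) * (g * x * g⁻¹) by group]
      exact hsqH _ (hg x hx)
    exact this (hHsq hh)
  have hmask_of : ∀ g : Equiv.Perm GolayPt, (∀ x ∈ B, g * x * g⁻¹ ∈ B) →
      (∀ x ∈ B, g⁻¹ * x * g ∈ B) → ∀ c ∈ D.classes, ∀ p, g p ∈ dec c.2 ↔ p ∈ dec c.2 := by
    intro g hg hg' c hc p
    have key : ∀ q, q ∈ dec c.2 ↔ Nat.card (MulAction.orbit B q) = c.1 := by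
      intro q
      rw [orbit_HS hv horb, Nat.card_coe_set_eq, Set.ncard_coe_finset, ← pop_eq_card, mem_dec,
        hcls c hc (idx q) (List.mem_range.2 (idx_lt q)), beq_iff_eq]
    rw [key, key]
    suffices Nat.card (MulAction.orbit B (g p)) = Nat.card (MulAction.orbit B p) by rw [this]
    have he : MulAction.orbit B (g p) = (fun q => g q) '' MulAction.orbit B p := by
      ext q
      constructor
      · rintro ⟨⟨x, hx⟩, rfl⟩
        exact ⟨(g⁻¹ * x * g) p, ⟨⟨_, hg' x hx⟩, rfl⟩, by simp [Subgroup.smul_def]⟩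
      · rintro ⟨_, ⟨⟨x, hx⟩, rfl⟩, rfl⟩
        exact ⟨⟨_, hg x hx⟩, by simp [Subgroup.smul_def]⟩
    rw [he, Nat.card_image_of_injective g.injective]
  have hodd : ∀ g : Equiv.Perm GolayPt, (∀ x ∈ B, g * x * g⁻¹ ∈ B) →
      (∀ x ∈ B, g⁻¹ * x * g ∈ B) → ∀ a ∈ D.gens.take D.d,
      (toPerm a)⁻¹ * (g * g * toPerm a * (g * g)⁻¹) ∈ H := by
    intro g hg hg' a ha
    set L := els (D.gens.drop D.d) with hL
    set K := (els (D.gens.take D.d)).filter fun r =>
      (census D.classes L r).isPerm (census D.classes L a) with hKdef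
    have hva := hvt a ha
    obtain ⟨r0, hr0, hr0a⟩ := htake a ha
    have e0 := toPerm_eq_of_eqP hva (helT r0 hr0).1 hr0a
    -- censuses are read on the permutations
    let code' : Equiv.Perm GolayPt → List (ℕ × ℕ) := fun σ =>
      D.classes.map fun c => (fx c.2 σ, fx c.2 (σ * σ))
    let coset : Equiv.Perm GolayPt → List (Equiv.Perm GolayPt) := fun ρ =>
      L.map fun h => ρ * toPerm h
    have hcensus : ∀ r, validP r = true →
        census D.classes L r = (coset (toPerm r)).map code' := by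
      intro r hr
      simp only [census, coset, List.map_map]
      refine List.map_congr_left fun h hh => ?_
      have h1 := validP_mulP hr (helH h hh).1
      simp only [Function.comp_apply, code, code', ← toPerm_mulP hr (helH h hh).1]
      refine List.map_congr_left fun c _ => ?_
      rw [fxP_eq h1, fxP_eq (validP_mulP h1 h1), toPerm_mulP h1 h1]
    have hcoset_mem : ∀ ρ σ, σ ∈ coset ρ ↔ ρ⁻¹ * σ ∈ H := by
      intro ρ σ
      simp only [coset, List.mem_map]
      constructor
      · rintro ⟨h, hh, rfl⟩; simpa using (helH h hh).2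
      · intro h
        obtain ⟨P, hP, e⟩ := exists_els (pcOK_drop D.d hpc) _ h
        exact ⟨P, hP, by rw [← e]; group⟩
    have hnd : ∀ ρ, (coset ρ).Nodup := by
      intro ρ
      have := (nodup_els (pcOK_drop D.d hpc)).map (mul_right_injective ρ)
      rwa [List.map_map] at this
    have hKin : ∀ r ∈ K, r ∈ els (D.gens.take D.d) ∧
        (census D.classes L r).Perm (census D.classes L a) := fun r hr =>
      ⟨(List.mem_filter.1 hr).1, List.isPerm_iff.1 (List.mem_filter.1 hr).2⟩
    refine mem_coset_of_two H g (hgH_of g hg)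
      (K.map toPerm) (by rw [List.length_map]; exact hcens a ha)
      ⟨toPerm r0, List.mem_map_of_mem (List.mem_filter.2 ⟨hr0, List.isPerm_iff.2 ?_⟩),
        by rw [e0, inv_mul_cancel]; exact one_mem _⟩ ?_
    · rw [hcensus _ (helT r0 hr0).1, hcensus _ hva, e0]
    · intro r hr
      obtain ⟨P, hP, rfl⟩ := List.mem_map.1 hr
      obtain ⟨hPT, hPperm⟩ := hKin P hP
      obtain ⟨R, hR, hRe⟩ := exists_els hpc _ (hg _ (hTB (helT P hPT).2))
      obtain ⟨t, ht, b, hb, hte⟩ := els_append (A := D.gens.take D.d) (B := D.gens.drop D.d)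
        (by rw [List.take_append_drop]; exact hv) R (by rwa [List.take_append_drop])
      have htP : (toPerm t)⁻¹ * (g * toPerm P * g⁻¹) ∈ H := by
        rw [hRe, hte, inv_mul_cancel_left]
        exact (helH b hb).2
      refine ⟨toPerm t, List.mem_map_of_mem (List.mem_filter.2 ⟨ht, List.isPerm_iff.2 ?_⟩), htP⟩
      refine List.Perm.trans ?_ hPperm
      rw [hcensus _ (helT t ht).1, hcensus _ (helT P hPT).1]
      have himg : (coset (toPerm t)).Perm ((coset (toPerm P)).map fun σ => g * σ * g⁻¹) := by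
        have hinj : Function.Injective fun σ : Equiv.Perm GolayPt => g * σ * g⁻¹ :=
          fun x y h => mul_left_cancel (mul_right_cancel h)
        refine (List.perm_ext_iff_of_nodup (hnd _) ((hnd _).map hinj)).2 fun σ => ?_
        simp only [List.mem_map, hcoset_mem]
        constructor
        · intro h
          refine ⟨g⁻¹ * σ * g, ?_, by group⟩
          rw [show (toPerm P)⁻¹ * (g⁻¹ * σ * g) = g⁻¹ *
            (((toPerm t)⁻¹ * (g * toPerm P * g⁻¹))⁻¹ * ((toPerm t)⁻¹ * σ)) * g by group]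
          have hmem := mul_mem (inv_mem htP) h
          let f : H → H := fun h => ⟨g * (h : Equiv.Perm GolayPt) * g⁻¹, hgH_of g hg _ h.2⟩
          have hf : Function.Injective f := fun x y hxy => Subtype.ext (hinj (congrArg Subtype.val hxy))
          obtain ⟨w, hw⟩ := (Finite.injective_iff_surjective.1 hf) ⟨_, hmem⟩
          have hw' := congrArg Subtype.val hw
          simp only [f] at hw'
          rw [← hw', show g⁻¹ * (g * (w : Equiv.Perm GolayPt) * g⁻¹) * g = w by group]
          exact w.2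
        · rintro ⟨τ, hτ, rfl⟩
          rw [show (toPerm t)⁻¹ * (g * τ * g⁻¹) = (toPerm t)⁻¹ * (g * toPerm P * g⁻¹) *
            (g * ((toPerm P)⁻¹ * τ) * g⁻¹) by group]
          exact mul_mem htP (hgH_of g hg _ hτ)
      refine (himg.map code').trans (List.Perm.of_eq ?_)
      rw [List.map_map]
      refine List.map_congr_left fun σ _ => ?_
      simp only [Function.comp_apply, code']
      refine List.map_congr_left fun c hc => ?_
      rw [fx_conj _ _ _ (hmask_of g hg hg' c hc),
        show g * σ * g⁻¹ * (g * σ * g⁻¹) = g * (σ * σ) * g⁻¹ by group,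
        fx_conj _ _ _ (hmask_of g hg hg' c hc)]
  refine CfsgLib.Fusion.isSimple_group_of_model_pPrime (Sylow.ofCard B' hcardB') ?_ ?_ ?_ S
  · rw [Sylow.coe_ofCard]
    intro h
    have h2 : Nat.card B' = Nat.card B := Nat.card_congr (Subgroup.subgroupOfEquivOfLe hBG).toEquiv
    rw [h, Subgroup.card_bot, hcardB] at h2
    have := Nat.one_lt_pow (show k ≠ 0 by omega) (show 1 < 2 by norm_num)
    omega
  · intro T hTS hsc
    simp only [Sylow.coe_ofCard] at hTS hsc ⊢
    refine or_iff_not_imp_left.2 fun hne => le_antisymm hTS ?_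
    set T' := T.map G.subtype
    have hT'B : T' ≤ B := by rintro _ ⟨x, hx, rfl⟩; exact hTS hx
    have hsc' : ∀ c ∈ G, ∀ x ∈ T', c * x * c⁻¹ ∈ B → c * x * c⁻¹ ∈ T' := by
      rintro c hc _ ⟨x, hx, rfl⟩ h
      exact ⟨_, hsc ⟨c, hc⟩ x hx h, rfl⟩
    have hzmem : validP D.z = true → toPerm D.z ∈ T' := by
      intro hvz
      have : Fact (Nat.Prime 2) := ⟨Nat.prime_two⟩
      have hBp : IsPGroup 2 B := IsPGroup.of_card hcardB
      have : (T'.subgroupOf B).Normal := ⟨fun x hx y =>
        hsc' _ (hBG y.2) _ hx (mul_mem (mul_mem y.2 x.2) (inv_mem y.2))⟩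
      have hnt : T'.subgroupOf B ≠ ⊥ := by
        rw [ne_eq, Subgroup.subgroupOf_eq_bot, disjoint_iff, inf_eq_left.2 hT'B,
          Subgroup.map_eq_bot_iff_of_injective _ G.subtype_injective]
        exact hne
      have hdvd : 2 ∣ Nat.card (T'.subgroupOf B) := by
        have : Nontrivial (T'.subgroupOf B) := (Subgroup.nontrivial_iff_ne_bot _).2 hnt
        obtain ⟨j, hj0, hj⟩ := (hBp.to_subgroup (T'.subgroupOf B)).nontrivial_iff_card.1 inferInstance
        exact hj ▸ dvd_pow_self 2 hj0.ne'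
      obtain ⟨⟨⟨x, hxB⟩, hxT⟩, hfix, hx1⟩ :=
        (hBp.of_equiv ConjAct.toConjAct).exists_fixed_point_of_prime_dvd_card_of_fixed_point
          (T'.subgroupOf B) hdvd (a := 1) (fun g => smul_one g)
      obtain ⟨P, hP, rfl⟩ := exists_els hpc x hxB
      rcases hcen P hP with (⟨g, hg, hgP⟩ | h) | h
      · exfalso
        have hgB : toPerm g ∈ B := Subgroup.subset_closure ⟨g, hg, rfl⟩
        have h' := congrArg (fun z : T'.subgroupOf B => ((z : B) : Equiv.Perm GolayPt))
          (hfix (ConjAct.toConjAct ⟨toPerm g, hgB⟩))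
        have h'' : toPerm g * toPerm P * (toPerm g)⁻¹ = toPerm P := h'
        have hcomm : toPerm (mulP g P) = toPerm (mulP P g) := by
          rw [toPerm_mulP (hv g hg) (hel P hP).1, toPerm_mulP (hel P hP).1 (hv g hg)]
          exact mul_inv_eq_iff_eq_mul.1 h''
        rw [eqP_of_toPerm_eq (validP_mulP (hv g hg) (hel P hP).1)
          (validP_mulP (hel P hP).1 (hv g hg)) hcomm] at hgP
        exact Bool.noConfusion hgP
      · exfalso
        refine hx1 (Subtype.ext (Subtype.ext ?_))
        show (1 : Equiv.Perm GolayPt) = toPerm P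
        rw [toPerm_eq_of_eqP (hel P hP).1 validP_idP h, toPerm_idP]
      · rw [← toPerm_eq_of_eqP (hel P hP).1 hvz h]
        exact hxT
    have hrun : ∀ (St : List Step) (vals : List ℕ), stepsOK inG D.gens vals St = true →
        (∀ v ∈ vals, validP v = true → toPerm v ∈ T') → (∀ v ∈ vals, validP v = true) → B ≤ T' := by
      intro St
      induction St with
      | nil =>
        intro vals hst hT hV
        simp only [stepsOK, List.all_eq_true, List.any_eq_true] at hst
        refine (Subgroup.closure_le _).2 ?_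
        rintro _ ⟨P, hP, rfl⟩
        obtain ⟨v, hvv, he⟩ := hst P hP
        show toPerm P ∈ T'
        rw [toPerm_eq_of_eqP (hv P hP) (hV v hvv) he]
        exact hT v hvv (hV v hvv)
      | cons s rest ih =>
        intro vals hst hT hV
        have hget : ∀ i, validP (vals.getD i idP) = true ∧ toPerm (vals.getD i idP) ∈ T' := by
          intro i
          rw [List.getD_eq_getElem?_getD]
          by_cases h : i < vals.length
          · rw [List.getElem?_eq_getElem h]
            exact ⟨hV _ (List.getElem_mem h), hT _ (List.getElem_mem h) (hV _ (List.getElem_mem h))⟩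
          · rw [List.getElem?_eq_none (not_lt.1 h)]
            exact ⟨validP_idP, toPerm_idP ▸ one_mem _⟩
        cases s with
        | mul i j =>
          simp only [stepsOK] at hst
          refine ih _ hst (fun v hvm hvv => ?_) fun v hvm => ?_
          · rcases List.mem_append.1 hvm with h | h
            · exact hT v h hvv
            · rw [List.mem_singleton.1 h, toPerm_mulP (hget i).1 (hget j).1]
              exact mul_mem (hget i).2 (hget j).2
          · rcases List.mem_append.1 hvm with h | h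
            · exact hV v h
            · rw [List.mem_singleton.1 h]
              exact validP_mulP (hget i).1 (hget j).1
        | conj i c r =>
          simp only [stepsOK, Bool.and_eq_true, List.any_eq_true] at hst
          obtain ⟨⟨⟨⟨hc, hr⟩, heq⟩, R, hR, hrR⟩, hrest⟩ := hst
          obtain ⟨hvc, hcG⟩ := hin c hc
          refine ih _ hrest (fun v hvm hvv => ?_) fun v hvm => ?_
          · rcases List.mem_append.1 hvm with h | h
            · exact hT v h hvv
            · rw [List.mem_singleton.1 h]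
              have h1 : toPerm c * toPerm (vals.getD i idP) * (toPerm c)⁻¹ = toPerm r := by
                rw [mul_inv_eq_iff_eq_mul]
                exact (toPerm_mulP hvc (hget i).1).symm.trans
                  ((toPerm_eq_of_eqP (validP_mulP hvc (hget i).1) (validP_mulP hr hvc) heq).trans
                    (toPerm_mulP hr hvc))
              rw [← h1]
              refine hsc' _ hcG _ (hget i).2 ?_
              rw [h1, toPerm_eq_of_eqP hr (hel R hR).1 hrR]
              exact (hel R hR).2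
          · rcases List.mem_append.1 hvm with h | h
            · exact hV v h
            · rw [List.mem_singleton.1 h]; exact hr
    have hBT : B ≤ T' := by
      refine hrun D.steps [D.z] hsteps (fun v hvm hvv => ?_) fun v hvm => ?_
      · rw [List.mem_singleton.1 hvm] at hvv ⊢; exact hzmem hvv
      · rw [List.mem_singleton.1 hvm]; exact hvz
    intro x hx
    obtain ⟨y, hy, hye⟩ := hBT hx
    exact G.subtype_injective hye ▸ hy
  · intro g hgN hgo
    simp only [Sylow.coe_ofCard] at hgN ⊢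
    set γ : Equiv.Perm GolayPt := (g : Equiv.Perm GolayPt) with hγ
    have hpow : ∀ h : G, h ∈ Subgroup.normalizer (B' : Set G) → ∀ x ∈ B,
        (h : Equiv.Perm GolayPt) * x * (h : Equiv.Perm GolayPt)⁻¹ ∈ B :=
      fun h hh x hx => (Subgroup.mem_normalizer_iff.1 hh ⟨x, hBG hx⟩).1 hx
    have hg1 : ∀ x ∈ B, γ * x * γ⁻¹ ∈ B := hpow g hgN
    have hg2 : ∀ x ∈ B, γ⁻¹ * x * γ ∈ B := fun x hx => by
      simpa using hpow g⁻¹ (inv_mem hgN) x hx
    have hgH := hgH_of γ hg1
    have hgH2 : ∀ h ∈ H, γ * γ * h * (γ * γ)⁻¹ ∈ H := fun h hh => by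
      rw [show γ * γ * h * (γ * γ)⁻¹ = γ * (γ * h * γ⁻¹) * γ⁻¹ by group]
      exact hgH _ (hgH _ hh)
    -- the elements fixed modulo `H` by `γ * γ`
    have hfix : ∀ x ∈ B, x⁻¹ * (γ * γ * x * (γ * γ)⁻¹) ∈ H := by
      intro x hx
      induction hx using Subgroup.closure_induction with
      | mem y hy =>
        obtain ⟨P, hP, rfl⟩ := hy
        rw [← List.take_append_drop D.d D.gens] at hP
        rcases List.mem_append.1 hP with h | h
        · exact hodd γ hg1 hg2 P h
        · have : toPerm P ∈ H := Subgroup.subset_closure ⟨P, h, rfl⟩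
          exact mul_mem (inv_mem this) (hgH2 _ this)
      | one => simp
      | mul y z hy hz ihy ihz =>
        rw [show (y * z)⁻¹ * (γ * γ * (y * z) * (γ * γ)⁻¹) =
          z⁻¹ * (y⁻¹ * (γ * γ * y * (γ * γ)⁻¹)) * z⁻¹⁻¹ * (z⁻¹ * (γ * γ * z * (γ * γ)⁻¹)) by group]
        exact mul_mem (hnorm _ (inv_mem hz) _ ihy) ihz
      | inv y hy ihy =>
        rw [show y⁻¹⁻¹ * (γ * γ * y⁻¹ * (γ * γ)⁻¹) =
          y * (y⁻¹ * (γ * γ * y * (γ * γ)⁻¹))⁻¹ * y⁻¹ by generalize γ * γ = δ; group]
        exact hnorm _ hy _ (inv_mem ihy)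
    let φ : MulAut B' := B'.normalizerMonoidHom ⟨g * g, mul_mem hgN hgN⟩
    have hodd2 : ¬ 2 ∣ orderOf φ := by
      intro h
      refine hgo (h.trans ?_)
      refine (orderOf_map_dvd _ _).trans ?_
      rw [Subgroup.orderOf_mk]
      rw [← pow_two]
      exact orderOf_pow_dvd 2
    have hB'p : IsPGroup 2 B' := IsPGroup.of_card hcardB'
    have hφ : φ = 1 := by
      refine CfsgLib.Coprime.mulAut_eq_one_of_frattini φ ?_ fun x => ?_
      · obtain ⟨j, hj⟩ := IsPGroup.iff_card.1 (hB'p.to_subgroup (frattini B'))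
        rw [hj]
        exact Nat.Coprime.pow_right _ ((Nat.coprime_comm.1 ((Nat.prime_two.coprime_iff_not_dvd).2 hodd2)))
      · have hle : H ≤ ((frattini B').map B'.subtype).map G.subtype := by
          refine hHsq.trans ((Subgroup.closure_le _).2 ?_)
          rintro _ ⟨y, hy, rfl⟩
          exact ⟨⟨y, hBG hy⟩ * ⟨y, hBG hy⟩,
            ⟨(⟨⟨y, hBG hy⟩, hy⟩ : B') * ⟨⟨y, hBG hy⟩, hy⟩, sq_mem_frattini hB'p _, rfl⟩, rfl⟩
        obtain ⟨_, ⟨w, hw, rfl⟩, hwe⟩ := hle (hfix _ x.2)
        have : x⁻¹ * φ x = w := Subtype.ext (Subtype.ext hwe.symm)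
        rw [this]
        exact hw
    have h2 : ∀ y ∈ B', g * g * y * (g * g)⁻¹ = y := fun y hy =>
      congrArg Subtype.val (DFunLike.congr_fun hφ (⟨y, hy⟩ : B'))
    have hgg : g * g ∈ Subgroup.centralizer (B' : Set G) := by
      rw [Subgroup.mem_centralizer_iff]
      exact fun y hy => (mul_inv_eq_iff_eq_mul.1 (h2 y hy)).symm
    obtain ⟨j, hj⟩ : ∃ j, orderOf g = 2 * j + 1 := ⟨orderOf g / 2, by omega⟩
    have : g = (g * g) ^ (j + 1) := by
      rw [← pow_two, ← pow_mul, show 2 * (j + 1) = orderOf g + 1 by omega, pow_succ,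
        pow_orderOf_eq_one, one_mul]
    rw [this]
    exact Subgroup.pow_mem _ hgg _

end CfsgLib.Golay.SylowTwo
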