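import Cfsg.Agent.Lib.Golay.Aut
import Cfsg.Agent.Lib.Golay.OrbitFacts
import Cfsg.Agent.Lib.Golay.SylowTwoCert
import Cfsg.Agent.Lib.Blocks.SingleBlock
import Cfsg.Agent.Lib.Char.PrimeSection
import Cfsg.Agent.S5394

/-!
Centralizers of involutions and normalizers of odd prime order subgroups of the groups on 22 and 24
points, for the count of their 2-blocks.
-/

set_option autoImplicit false

namespace CfsgLib.Golay.TwoBlock

open Cfsg CfsgLib.Golay
open CfsgLib.Blocks.SingleBlock (Constrained)
open scoped Pointwise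

/-! ### Involutions fixing an octad -/

/-- the sixteen points outside the base octad -/
def compl0 : ℕ := 8241104

theorem base_chk : oct0 ^^^ fullMask = compl0 ∧ compl0.testBit 4 = true ∧
    atom F6 [oct0] 4 = compl0 ∧ oct0 &&& F6 = F6 ∧
    stagesOK compl0
      [([0, 1, 2, 3, 5, 14, 17, 23], [1134148, 1060490, 69395, 2101096, 675712])] = true ∧
    ((List.range 24).all fun i => oct0.testBit i || trans6.any fun P => ap P i != i) = true ∧
    trans6.all (fun P => validP P && inM24 P && fixes P oct0) = true := by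
  decide +kernel

/-- the pointwise stabilizer of the base octad is its own centralizer -/
theorem cent_base {g : Equiv.Perm GolayPt} (hg : g ∈ M24)
    (hcom : ∀ e ∈ fixH M24 oct0, g * e = e * g) : g ∈ fixH M24 oct0 := by
  obtain ⟨hx, -, hat, -, hst, hmove, ht⟩ := base_chk
  obtain ⟨-, h2, -⟩ := trans6_chk
  simp only [List.all_eq_true, Bool.and_eq_true] at ht
  have hmem : ∀ P ∈ trans6, toPerm P ∈ fixH M24 oct0 := fun P hP =>
    mem_fixH.2 ⟨toPerm_mem_M24 (ht P hP).1.2, fun p hp => fixes_apply (ht P hP).1.1 (ht P hP).2 hp⟩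
  have hout : ∀ i, i < 24 → oct0.testBit i = false → ∃ P ∈ trans6, ap P i ≠ i := by
    intro i hi hb
    have := List.all_eq_true.1 hmove i (List.mem_range.2 hi)
    simp only [hb, Bool.false_or, List.any_eq_true, bne_iff_ne] at this
    exact this
  -- `g` keeps the set of common fixed points
  have hkeep : ∀ p, p ∈ dec oct0 → g p ∈ dec oct0 := by
    intro p hp
    by_contra hq
    rw [mem_dec, Bool.not_eq_true] at hq
    obtain ⟨P, hP, hne⟩ := hout _ (idx_lt _) hq
    have h1 := Equiv.ext_iff.1 (hcom _ (hmem P hP)) p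
    rw [Equiv.Perm.mul_apply, Equiv.Perm.mul_apply, (mem_fixH.1 (hmem P hP)).2 p hp] at h1
    exact hne (by rw [← idx_toPerm (ht P hP).1.1, ← h1])
  have h4 : idx (g (pt 4)) < 24 := idx_lt _
  have h4o : oct0.testBit (idx (g (pt 4))) = false := by
    rw [← Bool.not_eq_true, ← mem_dec]
    intro hc
    have hfin : (dec oct0).image g = dec oct0 := Finset.eq_of_subset_of_card_le
      (fun q hq => by obtain ⟨p, hp, rfl⟩ := Finset.mem_image.1 hq; exact hkeep p hp)
      (le_of_eq (Finset.card_image_of_injective _ g.injective).symm)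
    rw [← hfin, Finset.mem_image] at hc
    obtain ⟨p, hp, he⟩ := hc
    rw [g.injective he, mem_dec, idx_pt 4 (by norm_num)] at hp
    exact absurd hp (by decide +kernel)
  have h4c : compl0.testBit (idx (g (pt 4))) = true := by
    rw [← hx, Nat.testBit_xor, testBit_fullMask, h4o]; simp [h4]
  have h3 := List.all_eq_true.1 h2 _ (List.mem_range.2 h4)
  simp only [hat, h4c, Bool.not_true, Bool.false_or, List.any_eq_true, beq_iff_eq] at h3
  obtain ⟨P, hP, hP4⟩ := h3
  suffices (toPerm P)⁻¹ * g = 1 by rw [← inv_mul_eq_one.1 this]; exact hmem P hP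
  set h := (toPerm P)⁻¹ * g
  have hcomm : ∀ e ∈ fixH M24 oct0, h * e = e * h := by
    intro e he
    have hPe : toPerm P * e = e * toPerm P := by
      have hsq : ∀ x ∈ fixH M24 oct0, x * x = 1 := fun x hx' =>
        sq_fixF6 (fix_oct0_eq ▸ (show x ∈ M24 ⊓ fixingSubgroup (Equiv.Perm GolayPt)
          (dec oct0 : Set GolayPt) from hx'))
      have h1 := hsq _ (mul_mem (hmem P hP) he)
      have a1 := hsq _ (hmem P hP)
      have a2 := hsq _ he
      calc toPerm P * e = (toPerm P * e)⁻¹ := eq_inv_of_mul_eq_one_left h1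
        _ = e⁻¹ * (toPerm P)⁻¹ := mul_inv_rev _ _
        _ = e * toPerm P := by
          rw [inv_eq_of_mul_eq_one_right a1, inv_eq_of_mul_eq_one_right a2]
    have hPe' : (toPerm P)⁻¹ * e = e * (toPerm P)⁻¹ :=
      ((show Commute (toPerm P) e from hPe).inv_left).eq
    show (toPerm P)⁻¹ * g * e = e * ((toPerm P)⁻¹ * g)
    rw [mul_assoc, hcom e he, ← mul_assoc, hPe', mul_assoc]
  have hh4 : h (pt 4) = pt 4 := by
    show ((toPerm P)⁻¹ * g) (pt 4) = pt 4
    rw [Equiv.Perm.mul_apply, Equiv.Perm.inv_eq_iff_eq]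
    exact idx_injective (by rw [idx_toPerm (ht P hP).1.1, idx_pt 4 (by norm_num), hP4])
  refine eq_one_of_stages (mul_mem (inv_mem (mem_fixH.1 (hmem P hP)).1) hg) _ _ hst fun p hp => ?_
  have h5 := List.all_eq_true.1 h2 _ (List.mem_range.2 (idx_lt p))
  rw [mem_dec] at hp
  simp only [hat, hp, Bool.not_true, Bool.false_or, List.any_eq_true, beq_iff_eq] at h5
  obtain ⟨Q, hQ, hQ4⟩ := h5
  have hp4 : toPerm Q (pt 4) = p :=
    idx_injective (by rw [idx_toPerm (ht Q hQ).1.1, idx_pt 4 (by norm_num), hQ4])
  rw [← hp4, ← Equiv.Perm.mul_apply, hcomm _ (hmem Q hQ), Equiv.Perm.mul_apply, hh4]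

/-- the same for every octad -/
theorem cent_octad {o : Finset GolayPt} (ho : o ∈ octads) {g : Equiv.Perm GolayPt} (hg : g ∈ M24)
    (hcom : ∀ e ∈ M24 ⊓ fixingSubgroup (Equiv.Perm GolayPt) (o : Set GolayPt), g * e = e * g) :
    g ∈ M24 ⊓ fixingSubgroup (Equiv.Perm GolayPt) (o : Set GolayPt) := by
  obtain ⟨k, hk, rfl⟩ := exists_smul_oct0 ho
  have key : ∀ x : Equiv.Perm GolayPt, x ∈ fixH M24 oct0 →
      k * x * k⁻¹ ∈ M24 ⊓ fixingSubgroup (Equiv.Perm GolayPt) ((k • dec oct0 : Finset GolayPt) : Set GolayPt) := by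
    intro x hx
    obtain ⟨hxM, hxF⟩ := mem_fixH.1 hx
    refine Subgroup.mem_inf.2 ⟨mul_mem (mul_mem hk hxM) (inv_mem hk), ?_⟩
    rw [mem_fixingSubgroup_iff]
    intro q hq
    rw [Finset.mem_coe, Finset.mem_smul_finset] at hq
    obtain ⟨r, hr, rfl⟩ := hq
    simp [Equiv.Perm.smul_def, hxF r hr]
  have h1 : k⁻¹ * g * k ∈ fixH M24 oct0 := by
    refine cent_base (mul_mem (mul_mem (inv_mem hk) hg) hk) fun e he => ?_
    have := hcom _ (key e he)
    calc k⁻¹ * g * k * e = k⁻¹ * (g * (k * e * k⁻¹)) * k := by group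
      _ = _ := by rw [this]; group
  simpa [mul_assoc] using key _ h1

/-- In a subgroup containing the pointwise stabilizer of its octad, the centralizer of an
involution fixing exactly an octad is constrained. -/
theorem constrained_octad {H : Subgroup (Equiv.Perm GolayPt)} (hH : H ≤ M24) (u : H)
    (ho : (Finset.univ.filter fun p => (u : Equiv.Perm GolayPt) p = p) ∈ octads)
    (hsub : M24 ⊓ fixingSubgroup (Equiv.Perm GolayPt)
      ((Finset.univ.filter fun p => (u : Equiv.Perm GolayPt) p = p : Finset GolayPt) : Set GolayPt) ≤ H) :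
    Constrained 2 (Subgroup.centralizer ({u} : Set H)) := by
  set o := Finset.univ.filter fun p => (u : Equiv.Perm GolayPt) p = p
  set E0 := M24 ⊓ fixingSubgroup (Equiv.Perm GolayPt) (o : Set GolayPt) with hE0
  obtain ⟨hcard, hsq⟩ := octad_pointwise ho
  have hu : (u : Equiv.Perm GolayPt) ∈ E0 := by
    refine Subgroup.mem_inf.2 ⟨hH u.2, ?_⟩
    rw [mem_fixingSubgroup_iff]
    intro q hq
    exact (Finset.mem_filter.1 hq).2
  have hcomm : ∀ a ∈ E0, ∀ b ∈ E0, a * b = b * a := by
    intro a ha b hb
    have h1 := hsq _ (mul_mem ha hb)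
    calc a * b = (a * b)⁻¹ := eq_inv_of_mul_eq_one_left h1
      _ = b⁻¹ * a⁻¹ := mul_inv_rev _ _
      _ = b * a := by rw [inv_eq_of_mul_eq_one_right (hsq a ha), inv_eq_of_mul_eq_one_right (hsq b hb)]
  refine ⟨E0.subgroupOf H, fun e he => ?_, ?_, fun c hc e he => ?_, fun c hc hce => ?_⟩
  · exact Subgroup.mem_centralizer_singleton_iff.2 (Subtype.ext (hcomm _ he _ hu))
  · exact IsPGroup.of_card (n := 4) (by
      rw [Nat.card_congr (Subgroup.subgroupOfEquivOfLe hsub).toEquiv, hcard]; norm_num)
  · rw [Subgroup.mem_centralizer_singleton_iff] at hc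
    have hc' : (c : Equiv.Perm GolayPt) * u = u * c := congrArg Subtype.val hc
    obtain ⟨heM, heF⟩ := Subgroup.mem_inf.1 (Subgroup.mem_subgroupOf.1 he)
    refine Subgroup.mem_subgroupOf.2
      (Subgroup.mem_inf.2 ⟨mul_mem (mul_mem (hH c.2) heM) (inv_mem (hH c.2)), ?_⟩)
    rw [mem_fixingSubgroup_iff] at heF ⊢
    intro q hq
    have hq' : (u : Equiv.Perm GolayPt) q = q := (Finset.mem_filter.1 hq).2
    set r := (c : Equiv.Perm GolayPt)⁻¹ q with hr
    have hcr : (c : Equiv.Perm GolayPt) r = q := (c : Equiv.Perm GolayPt).apply_symm_apply q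
    have hr' : r ∈ o := by
      refine Finset.mem_filter.2 ⟨Finset.mem_univ _, (c : Equiv.Perm GolayPt).injective ?_⟩
      rw [← Equiv.Perm.mul_apply, hc', Equiv.Perm.mul_apply, hcr, hq']
    have := heF r hr'
    simp only [Equiv.Perm.smul_def] at this
    rw [Equiv.Perm.smul_def, Subgroup.coe_mul, Subgroup.coe_mul, Subgroup.coe_inv,
      Equiv.Perm.mul_apply, Equiv.Perm.mul_apply, ← hr, this, hcr]
  · exact Subgroup.mem_subgroupOf.2 (cent_octad ho (hH c.2) fun e he =>
      congrArg Subtype.val (hce ⟨e, hsub he⟩ (Subgroup.mem_subgroupOf.2 he)))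

/-! ### The fixed point free involution -/

open SylowTwo in
/-- generators of the kernel of the action of its centralizer on its fixed octads -/
def sextGens : List ℕ := [944171883375081135229385875856263200,
  801222028515449396664824745643313184, 984230048376954736502601549567334432,
  984070314313859978201607936991203360, 944559784536039586411439904176312321,
  801364005576275450751030790843504910]

/-- the fifteen fixed octads -/
def sextOcts : List ℕ := [185603, 352547, 504864, 1065303, 1217620, 1384564, 2115979, 2268296,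
  2435240, 3147996, 13124355, 13276672, 13443616, 14156372, 15207048]

/-- three representatives -/
def sextReps : List ℕ := [0, 2, 3]

/-- the relations -/
def sextCs : List (ℕ × List ℕ) :=
  [(0, [16, 8, 4, 2, 1]), (0, [8, 4, 2, 1]), (0, [4, 2, 1]), (0, [2, 1]), (0, [1]), (0, [])]

/-- stages with the preserved sets -/
def stagesX (extra : List ℕ) : ℕ → List (List ℕ × List ℕ) → Bool
  | F, [] => F == fullMask
  | F, (ps, os) :: rest =>
    os.all (fun o => extra.contains o || octFor F o)
      && ps.all (fun p => decide (p < 24) && !F.testBit p && atom F os p == 2 ^ p)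
      && stagesX extra (ps.foldl (fun a p => a ||| 2 ^ p) F) rest

theorem eq_one_of_stagesX {g : Equiv.Perm GolayPt} (hg : g ∈ M24) (extra : List ℕ)
    (hextra : ∀ o ∈ extra, g • dec o = dec o) :
    ∀ (St : List (List ℕ × List ℕ)) (F : ℕ), stagesX extra F St = true →
      (∀ p ∈ dec F, g p = p) → g = 1 := by
  intro St
  induction St with
  | nil =>
    intro F h hF
    simp only [stagesX, beq_iff_eq] at h
    subst h
    exact Equiv.ext fun p => hF p (by rw [dec_fullMask]; exact Finset.mem_univ p)
  | cons s rest ih =>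
    obtain ⟨ps, os⟩ := s
    intro F h hF
    simp only [stagesX, Bool.and_eq_true, List.all_eq_true, decide_eq_true_eq, Bool.not_eq_true',
      beq_iff_eq, Bool.or_eq_true, List.contains_iff_mem] at h
    obtain ⟨⟨hos, hps⟩, hrest⟩ := h
    refine ih _ hrest ?_
    have hfix : ∀ i ∈ ps, g (pt i) = pt i := by
      intro i hi
      obtain ⟨⟨hlt, hiF⟩, hat⟩ := hps i hi
      have := mem_atom hF os (fun o ho => (hos o ho).elim (hextra o)
        (fun h' => octFor_preserved hg h' hF)) (p := pt i) (by simp [mem_dec, idx_pt _ hlt, hiF])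
      rw [idx_pt _ hlt, hat, mem_dec_two_pow hlt] at this
      exact this
    have hlt : ∀ i ∈ ps, i < 24 := fun i hi => (hps i hi).1.1
    clear hps hrest hos
    induction ps generalizing F with
    | nil => exact hF
    | cons i is ihi =>
      simp only [List.mem_cons, forall_eq_or_imp] at hfix hlt
      rw [List.foldl_cons]
      refine ihi _ (fun p hp => ?_) hfix.2 hlt.2
      rcases mem_dec_or.1 hp with hp | hp
      · exact hF p hp
      · rw [(mem_dec_two_pow hlt.1).1 hp]; exact hfix.1

open SylowTwo in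
theorem sext_chk : pcOK sextGens sextCs = true ∧
    sextGens.all (fun P => inM24 P && sextOcts.all (fun o => mimg P o == o)
      && eqP (mulP P Cfsg.Agent.S5394.R1) (mulP Cfsg.Agent.S5394.R1 P)) = true ∧
    sextOcts.all (fun o => mimg Cfsg.Agent.S5394.R1 o == o) = true ∧
    (octLit.all fun o => mimg Cfsg.Agent.S5394.R1 o != o || sextOcts.contains o) = true ∧
    sextOcts.all (fun o => inC o && pop 24 o == 8) = true ∧
    validP Cfsg.Agent.S5394.R1 = true ∧ inM24 Cfsg.Agent.S5394.R1 = true ∧
    (els sextGens).any (eqP Cfsg.Agent.S5394.R1) = true ∧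
    stagesX sextOcts 2097485 [([1, 4, 7, 11, 14, 20], [10486557, 2147405, 2173253, 3147996, 2115979]),
      ([5, 9, 10, 12, 13, 15, 16, 17, 18, 19, 22, 23],
        [2120980, 7409024, 8654232, 36294, 2101096, 15207048, 2268296])] = true := by
  decide +kernel

open SylowTwo in
theorem sext_chk2 :
    ((List.range 24).all fun a => !(atom 0 sextOcts 0).testBit a ||
      (List.range 24).all fun b => !(atom 0 sextOcts 2).testBit b ||
      (List.range 24).all fun c => !(atom 0 sextOcts 3).testBit c ||
      (els sextGens).any fun e => ap e 0 == a && ap e 2 == b && ap e 3 == c) = true ∧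
    (List.range 24).all (fun i => (els sextGens).all fun e => (atom 0 sextOcts i).testBit (ap e i)) = true ∧
    (List.range 24).all (fun i => (List.range 24).all fun j => (atom 0 sextOcts i).testBit j ||
      (els sextGens).any fun e => ap e i == i && ap e j != j) = true ∧
    ((List.range 24).all fun i => !(2097485 : ℕ).testBit i ||
      sextReps.any fun r => i == r || i == ap Cfsg.Agent.S5394.R1 r) = true := by
  decide +kernel

attribute [local irreducible] SylowTwo.idP toPerm mulP validP

open SylowTwo in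
/-- The centralizer of the fixed point free involution is constrained. -/
theorem constrained_free :
    Constrained 2 (Subgroup.centralizer
      ({(⟨toPerm Cfsg.Agent.S5394.R1, toPerm_mem_M24 sext_chk.2.2.2.2.2.2.1⟩ : M24)} : Set M24)) := by
  obtain ⟨hpc, hgens, hR, hfix, hoct, hvR, hmR, hRin, hst⟩ := sext_chk
  obtain ⟨htrip, hinv, hsep, hF⟩ := sext_chk2
  set R := toPerm Cfsg.Agent.S5394.R1
  have hv := validP_of_pcOK hpc
  simp only [List.all_eq_true, Bool.and_eq_true, beq_iff_eq] at hgens hoct hinv
  have hle : HS sextGens ≤ M24 := (Subgroup.closure_le _).2 (by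
    rintro _ ⟨P, hP, rfl⟩; exact toPerm_mem_M24 (hgens P hP).1.1)
  -- membership test for the generated group
  have hmem : ∀ g : Equiv.Perm GolayPt, g ∈ M24 → g * R = R * g →
      (∀ o ∈ sextOcts, g • dec o = dec o) → g ∈ HS sextGens := by
    intro g hgM hgR hgo
    have hat : ∀ i, i < 24 → (atom 0 sextOcts i).testBit (idx (g (pt i))) = true := by
      intro i hi
      have := mem_atom (F := 0) (g := g) (by simp [mem_dec]) sextOcts hgo (p := pt i) (by simp [mem_dec])
      rwa [idx_pt i hi, mem_dec] at this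
    have h := List.all_eq_true.1 htrip _ (List.mem_range.2 (idx_lt (g (pt 0))))
    simp only [hat 0 (by norm_num), Bool.not_true, Bool.false_or] at h
    have h' := List.all_eq_true.1 h _ (List.mem_range.2 (idx_lt (g (pt 2))))
    simp only [hat 2 (by norm_num), Bool.not_true, Bool.false_or] at h'
    have h'' := List.all_eq_true.1 h' _ (List.mem_range.2 (idx_lt (g (pt 3))))
    simp only [hat 3 (by norm_num), Bool.not_true, Bool.false_or, List.any_eq_true,
      Bool.and_eq_true, beq_iff_eq] at h''
    obtain ⟨e, he, ⟨he0, he2⟩, he3⟩ := h''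
    obtain ⟨hev, heH⟩ := els_mem hv e he
    suffices (toPerm e)⁻¹ * g = 1 by rwa [← inv_mul_eq_one.1 this]
    have heR : toPerm e * R = R * toPerm e := by
      have : HS sextGens ≤ Subgroup.centralizer {R} := (Subgroup.closure_le _).2 (by
        rintro _ ⟨P, hP, rfl⟩
        rw [SetLike.mem_coe, Subgroup.mem_centralizer_singleton_iff]
        have h1 := toPerm_eq_of_eqP (validP_mulP (hv P hP) hvR) (validP_mulP hvR (hv P hP))
          (hgens P hP).2
        rwa [toPerm_mulP (hv P hP) hvR, toPerm_mulP hvR (hv P hP)] at h1)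
      exact Subgroup.mem_centralizer_singleton_iff.1 (this heH)
    have heo : ∀ o ∈ sextOcts, toPerm e • dec o = dec o := by
      intro o ho
      have : HS sextGens ≤ MulAction.stabilizer (Equiv.Perm GolayPt) (dec o) :=
        (Subgroup.closure_le _).2 (by
          rintro _ ⟨P, hP, rfl⟩
          rw [SetLike.mem_coe, MulAction.mem_stabilizer_iff, smul_dec (hv P hP), (hgens P hP).1.2 o ho])
      exact this heH
    refine eq_one_of_stagesX (mul_mem (inv_mem (hle heH)) hgM) sextOcts (fun o ho => ?_) _ _ hst ?_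
    · rw [mul_smul, hgo o ho, inv_smul_eq_iff, heo o ho]
    intro p hp
    have hr : ∀ r, (r = 0 ∨ r = 2 ∨ r = 3) → toPerm e (pt r) = g (pt r) := by
      intro r hr
      rcases hr with rfl | rfl | rfl
      all_goals
        apply idx_injective
        rw [idx_toPerm hev, idx_pt _ (by norm_num)]
        assumption
    have h1 := List.all_eq_true.1 hF _ (List.mem_range.2 (idx_lt p))
    rw [mem_dec] at hp
    simp only [hp, Bool.not_true, Bool.false_or, List.any_eq_true, Bool.or_eq_true, beq_iff_eq] at h1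
    obtain ⟨r, hr', h1⟩ := h1
    have hr'' : r = 0 ∨ r = 2 ∨ r = 3 := by simpa [sextReps] using hr'
    rw [Equiv.Perm.mul_apply, Equiv.Perm.inv_eq_iff_eq]
    rcases h1 with h1 | h1
    · rw [← pt_idx p, h1, hr r hr'']
    · have hp' : p = R (pt r) := idx_injective (by
        rw [idx_toPerm hvR, idx_pt r (by rcases hr'' with rfl | rfl | rfl <;> norm_num), h1])
      rw [hp', ← Equiv.Perm.mul_apply, ← Equiv.Perm.mul_apply, heR, hgR, Equiv.Perm.mul_apply,
        Equiv.Perm.mul_apply, hr r hr'']
  have hKo : ∀ e ∈ HS sextGens, e * R = R * e ∧ ∀ o ∈ sextOcts, e • dec o = dec o := by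
    intro e he
    refine ⟨?_, fun o ho => ?_⟩
    · have : HS sextGens ≤ Subgroup.centralizer {R} := (Subgroup.closure_le _).2 (by
        rintro _ ⟨P, hP, rfl⟩
        rw [SetLike.mem_coe, Subgroup.mem_centralizer_singleton_iff]
        have h1 := toPerm_eq_of_eqP (validP_mulP (hv P hP) hvR) (validP_mulP hvR (hv P hP))
          (hgens P hP).2
        rwa [toPerm_mulP (hv P hP) hvR, toPerm_mulP hvR (hv P hP)] at h1)
      exact Subgroup.mem_centralizer_singleton_iff.1 (this he)
    · have : HS sextGens ≤ MulAction.stabilizer (Equiv.Perm GolayPt) (dec o) :=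
        (Subgroup.closure_le _).2 (by
          rintro _ ⟨P, hP, rfl⟩
          rw [SetLike.mem_coe, MulAction.mem_stabilizer_iff, smul_dec (hv P hP), (hgens P hP).1.2 o ho])
      exact this he
  refine ⟨(HS sextGens).subgroupOf M24, fun e he => ?_, ?_, fun c hc e he => ?_, fun c hc hce => ?_⟩
  · exact Subgroup.mem_centralizer_singleton_iff.2 (Subtype.ext (hKo _ he).1)
  · exact IsPGroup.of_card (n := 6) (by
      rw [Nat.card_congr (Subgroup.subgroupOfEquivOfLe hle).toEquiv, card_HS hpc]; rfl)
  · rw [Subgroup.mem_centralizer_singleton_iff] at hc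
    have hc' : (c : Equiv.Perm GolayPt) * R = R * c := congrArg Subtype.val hc
    rw [Subgroup.mem_subgroupOf] at he ⊢
    obtain ⟨heR, heo⟩ := hKo _ he
    refine hmem _ (c * e * c⁻¹).2 ?_ fun o ho => ?_
    · show ((c : Equiv.Perm GolayPt) * e * (c : Equiv.Perm GolayPt)⁻¹) * R = _
      have hci : (c : Equiv.Perm GolayPt)⁻¹ * R = R * (c : Equiv.Perm GolayPt)⁻¹ :=
        ((show Commute (c : Equiv.Perm GolayPt) R from hc').inv_left).eq
      rw [mul_assoc, hci, ← mul_assoc, mul_assoc (c : Equiv.Perm GolayPt), heR, ← mul_assoc, hc']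
      simp [mul_assoc]
    · -- fixed octads of `R` are permuted by its centralizer
      have hci : (c : Equiv.Perm GolayPt)⁻¹ * R = R * (c : Equiv.Perm GolayPt)⁻¹ :=
        ((show Commute (c : Equiv.Perm GolayPt) R from hc').inv_left).eq
      have hoO : (c : Equiv.Perm GolayPt)⁻¹ • dec o ∈ octads :=
        smul_mem_octads (inv_mem c.2) (dec_mem_octads (hoct o ho).1 (by simpa using (hoct o ho).2))
      obtain ⟨m, hm, -, hme⟩ := octad_mask hoO
      have hRo : R • dec o = dec o := by
        rw [smul_dec hvR, beq_iff_eq.1 (List.all_eq_true.1 hR o ho)]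
      have hRm : R • dec m = dec m := by rw [hme, ← mul_smul, ← hci, mul_smul, hRo]
      have hmR' : mimg Cfsg.Agent.S5394.R1 m = m :=
        dec_inj (mimg_lt hvR m) (codeList_lt (octLit_sub m hm)) (by rw [← smul_dec hvR]; exact hRm)
      have hms : m ∈ sextOcts := by
        have := List.all_eq_true.1 hfix m hm
        simpa [hmR'] using this
      show ((c : Equiv.Perm GolayPt) * e * (c : Equiv.Perm GolayPt)⁻¹) • dec o = dec o
      rw [mul_smul, mul_smul, ← hme, heo m hms, hme, smul_inv_smul]
  · rw [Subgroup.mem_subgroupOf]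
    have hce' : ∀ e ∈ HS sextGens, (c : Equiv.Perm GolayPt) * e = e * c := fun e he =>
      congrArg Subtype.val (hce ⟨e, hle he⟩ (Subgroup.mem_subgroupOf.2 he))
    have hRmem : R ∈ HS sextGens := by
      obtain ⟨e, he, hee⟩ := List.any_eq_true.1 hRin
      rw [show R = toPerm e from toPerm_eq_of_eqP hvR (els_mem hv e he).1 hee]
      exact (els_mem hv e he).2
    have hcat : ∀ q, (atom 0 sextOcts (idx q)).testBit (idx ((c : Equiv.Perm GolayPt) q)) = true := by
      intro q
      by_contra hb
      have h1 := List.all_eq_true.1 (List.all_eq_true.1 hsep _ (List.mem_range.2 (idx_lt q))) _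
        (List.mem_range.2 (idx_lt ((c : Equiv.Perm GolayPt) q)))
      simp only [Bool.not_eq_true] at hb
      simp only [hb, Bool.false_or, List.any_eq_true, Bool.and_eq_true, beq_iff_eq, bne_iff_ne] at h1
      obtain ⟨e, he, h2, h3⟩ := h1
      obtain ⟨hev, heH⟩ := els_mem hv e he
      have h4 : toPerm e q = q := idx_injective (by rw [idx_toPerm hev, h2])
      refine h3 ?_
      rw [← idx_toPerm hev, ← Equiv.Perm.mul_apply, ← hce' _ heH, Equiv.Perm.mul_apply, h4]
    refine hmem _ c.2 (hce' R hRmem) fun o ho => ?_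
    refine Finset.eq_of_subset_of_card_le ?_ (le_of_eq (Finset.card_smul_finset _ _).symm)
    intro q hq
    obtain ⟨r, hr, rfl⟩ := Finset.mem_smul_finset.1 hq
    rw [mem_dec] at hr ⊢
    have h1 := hcat r
    have key : ∀ (l : List ℕ) (a j : ℕ), o ∈ l → o.testBit a = true →
        (atom 0 l a).testBit j = true → o.testBit j = true := by
      intro l
      induction l with
      | nil => intro a j ho; simp at ho
      | cons x xs ih =>
        intro a j hmem ha hj
        rw [atom, Nat.testBit_and, Bool.and_eq_true] at hj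
        rcases List.mem_cons.1 hmem with rfl | h
        · rw [if_pos ha] at hj; exact hj.1
        · exact ih a j h ha hj.2
    exact key sextOcts _ _ ho hr h1

end CfsgLib.Golay.TwoBlock
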