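import Cfsg.Agent.Lib.Golay.TwoBlockSylow

/-!
Norm totals and elements for the count of characters of full two part.
-/

set_option autoImplicit false

namespace CfsgLib.Golay.TwoBlock

open Cfsg CfsgLib.Char CfsgLib.Char.PrimeSection
open scoped ComplexConjugate CfsgLib.Char

variable {G : Type*} [Group G] [Fintype G]

theorem norm_total {χ : G → ℂ} (hχ : IsIrrCharacter G χ) {d : ℕ} (hd : χ 1 = d) (L : Finset ℕ)
    (hL : 1 ∉ L) :
    (d : ℝ) ^ 2 + ∑ q ∈ L, ∑ g ∈ sect G q, Complex.normSq (χ g) ≤ Nat.card G ∧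
      ((d : ℝ) ^ 2 + ∑ q ∈ L, ∑ g ∈ sect G q, Complex.normSq (χ g) = Nat.card G → d ≠ 1 →
        (d : ℂ) + ∑ q ∈ L, ∑ g ∈ sect G q, χ g = 0) := by
  classical
  have hdisj : (L : Set ℕ).PairwiseDisjoint (sect G) := fun a _ b _ hab =>
    Finset.disjoint_left.2 fun g ha hb => hab ((mem_sect.1 ha).symm.trans (mem_sect.1 hb))
  set U := L.biUnion (sect G)
  have h1U : (1 : G) ∉ U := by
    simp only [U, Finset.mem_biUnion, mem_sect, orderOf_one, not_exists, not_and]
    rintro q hq rfl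
    exact hL hq
  have hsum : ∑ g : G, Complex.normSq (χ g) = (Nat.card G : ℝ) := by
    have h := classInner_irr_self hχ
    rw [classInner, inv_mul_eq_iff_eq_mul₀ (Nat.cast_ne_zero.2 Nat.card_pos.ne'), mul_one] at h
    simp only [Complex.mul_conj] at h
    exact_mod_cast h
  have hU : (d : ℝ) ^ 2 + ∑ q ∈ L, ∑ g ∈ sect G q, Complex.normSq (χ g) =
      ∑ g ∈ insert 1 U, Complex.normSq (χ g) := by
    rw [Finset.sum_insert h1U, Finset.sum_biUnion hdisj, hd, Complex.normSq_natCast, sq]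
  rw [hU, ← hsum]
  refine ⟨Finset.sum_le_univ_sum_of_nonneg fun g => Complex.normSq_nonneg _, fun heq hd1 => ?_⟩
  have hzero : ∀ g ∈ (insert 1 U)ᶜ, χ g = 0 := by
    intro g hg
    have h0 : ∑ g ∈ (insert 1 U)ᶜ, Complex.normSq (χ g) = 0 := by
      have := Finset.sum_add_sum_compl (insert 1 U) fun g => Complex.normSq (χ g)
      linarith
    exact Complex.normSq_eq_zero.1
      ((Finset.sum_eq_zero_iff_of_nonneg fun g _ => Complex.normSq_nonneg _).1 h0 g hg)
  have horth : ∑ g : G, χ g = 0 := by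
    have hne : χ ≠ fun _ => (1 : ℂ) := fun h => hd1 (by
      have := congrFun h 1
      rw [hd] at this
      exact_mod_cast this)
    have h := classInner_irr_ne hχ isIrrCharacter_one hne
    simp only [classInner, map_one, mul_one, mul_eq_zero, inv_eq_zero, Nat.cast_eq_zero,
      Nat.card_pos.ne', false_or] at h
    exact h
  rw [← Finset.sum_add_sum_compl (insert 1 U), Finset.sum_eq_zero hzero, add_zero,
    Finset.sum_insert h1U, Finset.sum_biUnion hdisj, hd] at horth
  exact horth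

/-- lower bound on a set of elements of prime order -/
theorem sect_low {p : ℕ} [Fact p.Prime] {χ : G → ℂ} (hχ : IsIrrCharacter G χ)
    (hvan : ∀ x : G, p ∣ orderOf x → χ x = 0) {q : ℕ} [Fact q.Prime] (hqp : q ≠ p)
    (hfac : (Nat.card G).factorization q = 1) {y : G} (hy : orderOf y = q) (T : Subgroup G)
    (hT : IsPGroup p T) (hcom : ∀ t ∈ T, Commute t y) {D u t : ℕ} (hu : Nat.card T = u)
    (hD : χ 1 = ((u * D : ℕ) : ℂ))
    (ht : Nat.card (Subgroup.normalizer (Subgroup.zpowers y : Set G)) ≤ t) :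
    (Nat.card G : ℝ) * ((u ^ 2 * (D % q * (q - D % q)) : ℕ) : ℝ) ≤
      (t : ℝ) * ∑ g ∈ sect G q, Complex.normSq (χ g) := by
  subst hu
  refine (main_bound hχ hvan hqp hfac hy T hT hcom hD).1.trans ?_
  exact mul_le_mul_of_nonneg_right (by exact_mod_cast ht)
    (Finset.sum_nonneg fun g _ => Complex.normSq_nonneg _)

/-- the possible odd parts of a degree with full two part -/
theorem degree_cases (χ : IrrCharacter G) {a : ℕ} (ha : a ∣ charDegree (χ : G → ℂ)) :
    ∃ m : ℕ, (χ : G → ℂ) 1 = ((a * m : ℕ) : ℂ) ∧ a * m ∣ Nat.card G ∧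
      (a * m) ^ 2 ≤ Nat.card G ∧ 0 < a * m := by
  obtain ⟨n, hn, hpos, hdvd⟩ := exists_degree_dvd_card χ.2
  have hc : charDegree (χ : G → ℂ) = n := by simp [charDegree, hn]
  obtain ⟨m, hm⟩ := hc ▸ ha
  refine ⟨m, by rw [← hm, hn], hm ▸ hdvd, ?_, hm ▸ Nat.pos_of_ne_zero fun h => by simp [h] at hpos⟩
  have h : (n : ℝ) ^ 2 ≤ Nat.card G := by
    have := (norm_total χ.2 hn (∅ : Finset ℕ) (by simp)).1
    simpa using this
  rw [← hm]
  exact_mod_cast h

/-- check of an element of prime order with prescribed fixed points -/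
def eltTest (e q Fy : ℕ) : Bool :=
  inM24 e && powP e q == powP e 0
    && ((List.range 24).all fun i => (ap e i == i) == Fy.testBit i)
    && (List.range 24).any fun i => ap e i != i

theorem elt_facts {e q Fy : ℕ} [hq : Fact q.Prime] (h : eltTest e q Fy = true) :
    toPerm e ∈ M24 ∧ orderOf (toPerm e) = q ∧
      ∀ p, toPerm e p = p ↔ p ∈ dec Fy := by
  simp only [eltTest, Bool.and_eq_true, List.all_eq_true, List.any_eq_true, beq_iff_eq,
    bne_iff_ne, List.mem_range] at h
  obtain ⟨⟨⟨hM, hpow⟩, hfix⟩, i, hi, hne⟩ := h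
  have hv : validP e = true := by simp only [inM24, Bool.and_eq_true] at hM; exact hM.1
  have hiff : ∀ p, toPerm e p = p ↔ p ∈ dec Fy := by
    intro p
    rw [mem_dec, ← hfix (idx p) (idx_lt p), beq_iff_eq, ← idx_toPerm hv]
    exact idx_injective.eq_iff.symm
  refine ⟨toPerm_mem_M24 hM, orderOf_eq_prime ?_ fun h1 => hne ?_, hiff⟩
  · rw [← ((toPerm_powP hv) q).2, hpow, ((toPerm_powP hv) 0).2, pow_zero]
  · have := idx_toPerm hv (pt i)
    rw [h1, Equiv.Perm.one_apply, idx_pt i hi] at this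
    exact this.symm

end CfsgLib.Golay.TwoBlock
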