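import Cfsg.Agent.Lib.Golay.TwoBlock

/-!
Normalizers of subgroups of order five, seven, eleven and twenty-three, and the resulting count of
characters of full two part.
-/

set_option autoImplicit false

namespace CfsgLib.Golay.TwoBlock

open Cfsg CfsgLib.Golay
open CfsgLib.Char (exists_degree_dvd_card sum_sq_degree)
open CfsgLib.Char.PrimeSection
open scoped Pointwise CfsgLib.Char

/-- an element of order five fixing the points `0`, `2`, `22`, `23` -/
def elt5 : ℕ := 983997591520422366300798527059691712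

/-- the fixed points of `elt5` -/
def F5fix : ℕ := 2 ^ 0 ||| 2 ^ 2 ||| 2 ^ 22 ||| 2 ^ 23

/-- the octads through the fixed points of `elt5` -/
def octs5 : List ℕ := [12656663, 12747077, 13370381, 12587685, 15747077]

/-- representatives of the orbits of `elt5` -/
def reps5 : List ℕ := [0, 1, 2, 3, 4, 12, 22, 23]

/-- positions as powers of representatives -/
def dom5 : List (ℕ × ℕ) := [(0, 0), (1, 0), (2, 0), (3, 0), (4, 0), (3, 1), (1, 1), (1, 3), (3, 4),
  (4, 3), (4, 2), (3, 2), (5, 0), (5, 2), (4, 4), (5, 3), (3, 3), (4, 1), (5, 4), (1, 2), (5, 1),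
  (1, 4), (6, 0), (7, 0)]

theorem elt5_chk : inM24 elt5 = true ∧
    (octLit.all fun m => m &&& F5fix != F5fix || octs5.contains m) = true ∧
    ((List.range 5).all fun k => mimg (powP elt5 k) 12656663 == octs5.getD k 0) = true ∧
    (octs5.all fun m => inC m && pop 24 m == 8) = true ∧
    fixes elt5 F5fix = true ∧ (12656663 &&& F5fix == F5fix) = true := by
  decide +kernel

theorem elt5_cent : conjOK F5fix octs5 elt5 elt5 reps5 dom5
    ((List.range 5).map (powP elt5)) = true := by
  decide +kernel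

/-- the kernel for the prime five -/
theorem kernel5 {g : Equiv.Perm GolayPt} (hg : g ∈ fixH M24 F5fix)
    (hc : g * toPerm elt5 = toPerm elt5 * g) : g ∈ Subgroup.zpowers (toPerm elt5) := by
  obtain ⟨hM, hall, hcyc, hoct, hyF, hF0⟩ := elt5_chk
  have hv : validP elt5 = true := by
    simp only [inM24, Bool.and_eq_true] at hM; exact hM.1
  have hpw := toPerm_powP hv
  simp only [List.all_eq_true, Bool.and_eq_true, beq_iff_eq, List.mem_range] at hcyc hoct
  obtain ⟨hgM, hgF⟩ := mem_fixH.1 hg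
  have h0 : dec 12656663 ∈ octads := by
    obtain ⟨a, b⟩ := hoct 12656663 (by simp [octs5])
    exact dec_mem_octads a b
  obtain ⟨m, hm, -, hme⟩ := octad_mask (smul_mem_octads hgM h0)
  have hmF : m &&& F5fix = F5fix := by
    refine dec_inj (Nat.and_lt_two_pow _ (by decide +kernel)) (by decide +kernel) ?_
    rw [dec_and]
    refine Finset.inter_eq_right.2 fun p hp => ?_
    rw [hme, ← hgF p hp]
    refine Finset.smul_mem_smul_finset ?_
    have : p ∈ dec (12656663 &&& F5fix) := by rw [beq_iff_eq.1 hF0]; exact hp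
    rw [dec_and] at this
    exact (Finset.mem_inter.1 this).1
  have hms : m ∈ octs5 := by
    have := List.all_eq_true.1 hall m hm
    simpa [hmF] using this
  obtain ⟨k, hk, hkm⟩ := List.getElem_of_mem hms
  have hk5 : k < 5 := by simpa [octs5] using hk
  have hk' : (toPerm elt5 ^ k) • dec 12656663 = dec m := by
    rw [← (hpw k).2, smul_dec (hpw k).1, hcyc k hk5, List.getD_eq_getElem _ _ hk, hkm]
  set h := (toPerm elt5 ^ k)⁻¹ * g
  have hyp : toPerm elt5 ∈ fixH M24 F5fix :=
    mem_fixH.2 ⟨toPerm_mem_M24 hM, fun p hp => fixes_apply hv hyF hp⟩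
  have hh : h ∈ fixH M24 F5fix := mul_mem (inv_mem (pow_mem hyp k)) hg
  have hhc : h * toPerm elt5 = toPerm elt5 * h :=
    ((((Commute.refl (toPerm elt5)).pow_left k).inv_left).mul_left
      (show Commute g (toPerm elt5) from hc)).eq
  have hh0 : h • dec 12656663 = dec 12656663 := by
    rw [mul_smul, ← hme, inv_smul_eq_iff, hk']
  have hho : ∀ o ∈ octs5, h • dec o = dec o := by
    intro o ho
    obtain ⟨j, hj, hjo⟩ := List.getElem_of_mem ho
    have hj5 : j < 5 := by simpa [octs5] using hj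
    have he : dec o = (toPerm elt5 ^ j) • dec 12656663 := by
      rw [← (hpw j).2, smul_dec (hpw j).1, hcyc j hj5, List.getD_eq_getElem _ _ hj, hjo]
    rw [he, ← mul_smul, ((show Commute h (toPerm elt5) from hhc).pow_right j).eq, mul_smul, hh0]
  have hst : h ∈ stabH 0 octs5 := mem_stabH.2 ⟨⟨(mem_fixH.1 hh).1, by simp [mem_dec]⟩, hho⟩
  have hlt : ∀ o ∈ octs5, o < 2 ^ 24 := by decide +kernel
  obtain ⟨P, hP, hPe⟩ := eq_of_conjOK (H := stabH 0 octs5) (stabH_le _ _)
    (fun o ho => ⟨hlt o ho, fun g' hg' => (mem_stabH.1 hg').2 o ho⟩)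
    elt5_cent (mem_fixH.2 ⟨hst, (mem_fixH.1 hh).2⟩) hhc
  obtain ⟨j, -, rfl⟩ := List.mem_map.1 hP
  have : g = toPerm elt5 ^ k * toPerm elt5 ^ j := by
    rw [← (hpw j).2, ← hPe, mul_inv_cancel_left]
  rw [this]
  exact mul_mem (Subgroup.npow_mem_zpowers _ _) (Subgroup.npow_mem_zpowers _ _)

theorem elt7_pow : powP CfsgLib.Golay.Aut.elt7 7 = powP CfsgLib.Golay.Aut.elt7 0 := by decide +kernel

/-- the kernel for the prime seven -/
theorem kernel7 {g : Equiv.Perm GolayPt} (hg : g ∈ fixH M24 F22)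
    (hc : g * toPerm Aut.elt7 = toPerm Aut.elt7 * g) : g ∈ Subgroup.zpowers (toPerm Aut.elt7) := by
  obtain ⟨h1, h2, h3, -, h4, -, -, -, -, h9, h10⟩ := Aut.elt7_chk
  have hv : validP Aut.elt7 = true := by simp only [inM24, Bool.and_eq_true] at h1; exact h1.1
  obtain ⟨j, P, hP, hgP⟩ := exists_of_normOK (p := 7) h2 h1 h3 (by norm_num) h9 h10 h4 Aut.elt7_cent
    hg hc
  rw [List.mem_singleton.1 hP, ((toPerm_powP hv) 0).2, pow_zero, mul_one] at hgP
  exact hgP ▸ Subgroup.npow_mem_zpowers _ _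

theorem mem_zpowers_of_selfCent {F x p : ℕ} (hx : toPerm x ∈ fixH M24 F)
    (h : CfsgLib.SelfCent.IsSelfCent p (⟨toPerm x, hx⟩ : fixH M24 F)) {g : Equiv.Perm GolayPt}
    (hg : g ∈ fixH M24 F) (hc : g * toPerm x = toPerm x * g) :
    g ∈ Subgroup.zpowers (toPerm x) := by
  obtain ⟨k, hk⟩ := Subgroup.mem_zpowers_iff.1
    (CfsgLib.SelfCent.comm_mem_zpowers h (y := (⟨g, hg⟩ : fixH M24 F)) (Subtype.ext hc))
  exact Subgroup.mem_zpowers_iff.2 ⟨k, congrArg Subtype.val hk⟩

/-- The normalizer of a subgroup of prime order with small kernel. -/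
theorem normalizer_card {H : Subgroup (Equiv.Perm GolayPt)} (hH : H ≤ M24) (y : H) {q Fy S : ℕ}
    [hq : Fact q.Prime] (hy : orderOf y = q) (hfac : (Nat.card H).factorization q = 1)
    (hfix : ∀ p, (y : Equiv.Perm GolayPt) p = p ↔ p ∈ dec Fy)
    (hS : ∀ g ∈ H, ∀ p ∈ dec Fy, p ∉ dec S → g p = p) (hSF : dec S ⊆ dec Fy)
    (hker : ∀ g ∈ fixH M24 Fy, g * y = y * g → g ∈ Subgroup.zpowers (y : Equiv.Perm GolayPt)) :
    let d := Nat.card (Subgroup.normalizer (Subgroup.zpowers y : Set H))
    d ∣ Nat.factorial (dec S).card * ((q - 1) * q) ∧ d ∣ Nat.card H ∧ q ∣ d ∧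
      (Nat.card H / d) % q = 1 := by
  intro d
  set Y := Subgroup.zpowers y
  set N := Subgroup.normalizer (Y : Set H)
  have hYN : Y ≤ N := Subgroup.le_normalizer
  have hcardY : Nat.card Y = q := by rw [Nat.card_zpowers, hy]
  have hcomm : ∀ g : N, ∀ p ∈ dec Fy, ((g : H) : Equiv.Perm GolayPt) p ∈ dec Fy := by
    intro g p hp
    rw [← hfix]
    obtain ⟨k, hk⟩ := Subgroup.mem_zpowers_iff.1
      ((Subgroup.mem_normalizer_iff''.1 g.2 y).1 (Subgroup.mem_zpowers y))
    have hk' : ((y : Equiv.Perm GolayPt) ^ k) = ((g : H) : Equiv.Perm GolayPt)⁻¹ * y * (g : H) :=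
      congrArg Subtype.val hk
    have hpk : ((y : Equiv.Perm GolayPt) ^ k) p = p :=
      Function.IsFixedPt.perm_zpow ((hfix p).2 hp) k
    rw [hk', Equiv.Perm.mul_apply, Equiv.Perm.mul_apply, Equiv.Perm.inv_eq_iff_eq] at hpk
    exact hpk
  have hSinv : ∀ g : N, ∀ p, p ∈ dec S → ((g : H) : Equiv.Perm GolayPt) p ∈ dec S := by
    intro g p hp
    by_contra hn
    have h1 := hcomm g p (hSF hp)
    have h2 : ((g : H) : Equiv.Perm GolayPt) (((g : H) : Equiv.Perm GolayPt) p) =
        ((g : H) : Equiv.Perm GolayPt) p := hS _ (g : H).2 _ h1 hn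
    exact hn (by rw [((g : H) : Equiv.Perm GolayPt).injective h2]; exact hp)
  letI : MulAction N {p // p ∈ dec S} :=
    { smul := fun g p => ⟨((g : H) : Equiv.Perm GolayPt) p, hSinv g p p.2⟩
      one_smul := fun p => rfl
      mul_smul := fun a b p => rfl }
  set α := MulAction.toPermHom N {p // p ∈ dec S}
  set β := (Subgroup.normalizerMonoidHom Y).comp α.ker.subtype
  have hrange : Nat.card α.range ∣ Nat.factorial (dec S).card := by
    refine (Subgroup.card_subgroup_dvd_card α.range).trans (dvd_of_eq ?_)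
    rw [Nat.card_eq_fintype_card, Fintype.card_perm, Fintype.card_coe]
  have hbrange : Nat.card β.range ∣ q - 1 := by
    refine (Subgroup.card_subgroup_dvd_card β.range).trans (dvd_of_eq ?_)
    rw [IsCyclic.card_mulAut, hcardY, Nat.totient_prime hq.out]
  have hbker : Nat.card β.ker ∣ q := by
    have hmem : ∀ g : β.ker, (((g : α.ker) : N) : H) ∈ Y := by
      intro g
      have h1 : ((g : α.ker) : N) ∈ (Subgroup.normalizerMonoidHom Y).ker := g.2
      rw [Subgroup.normalizerMonoidHom_ker, Subgroup.mem_subgroupOf,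
        Subgroup.mem_centralizer_iff] at h1
      have hc : ((((g : α.ker) : N) : H) : Equiv.Perm GolayPt) * y =
          y * ((((g : α.ker) : N) : H) : Equiv.Perm GolayPt) :=
        (congrArg Subtype.val (h1 y (Subgroup.mem_zpowers y))).symm
      obtain ⟨k, hk⟩ := Subgroup.mem_zpowers_iff.1 (hker _ (mem_fixH.2 ⟨hH (((g : α.ker) : N) : H).2,
        fun p hp => by
          by_cases hps : p ∈ dec S
          · exact congrArg Subtype.val (Equiv.ext_iff.1 (g : α.ker).2 ⟨p, hps⟩)
          · exact hS _ (((g : α.ker) : N) : H).2 p hp hps⟩) hc)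
      exact Subgroup.mem_zpowers_iff.2 ⟨k, Subtype.ext hk⟩
    let φ : β.ker →* Y := (N.subtype.comp (α.ker.subtype.comp β.ker.subtype)).codRestrict Y hmem
    refine hcardY ▸ Subgroup.card_dvd_of_injective φ fun a b hab => ?_
    exact Subtype.ext (Subtype.ext (Subtype.ext (congrArg (fun x : Y => (x : H)) hab)))
  refine ⟨?_, Subgroup.card_subgroup_dvd_card N, hcardY ▸ Subgroup.card_dvd_of_le hYN, ?_⟩
  · show Nat.card N ∣ _
    rw [Subgroup.card_eq_card_quotient_mul_card_subgroup α.ker,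
      Nat.card_congr (QuotientGroup.quotientKerEquivRange α).toEquiv]
    refine mul_dvd_mul hrange ?_
    rw [Subgroup.card_eq_card_quotient_mul_card_subgroup β.ker,
      Nat.card_congr (QuotientGroup.quotientKerEquivRange β).toEquiv]
    exact mul_dvd_mul hbrange hbker
  · let P : Sylow q H := Sylow.ofCard Y (by rw [hcardY, hfac, pow_one])
    have h1 : Nat.card (Sylow q H) = N.index := P.card_eq_index_normalizer
    have h2 : Nat.card H / d = N.index := by
      rw [← Subgroup.index_mul_card N, Nat.mul_div_cancel _ Nat.card_pos]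
    rw [h2, ← h1]
    have h3 : Nat.card (Sylow q H) % q = 1 % q := card_sylow_modEq_one q H
    rwa [Nat.mod_eq_of_lt hq.out.one_lt] at h3

/-- the arithmetic test -/
def normTest (n q B : ℕ) (ok : ℕ → Bool) : Bool :=
  (List.range (B + 1)).all fun d =>
    !(B % d == 0 && n % d == 0 && d % q == 0 && (n / d) % q == 1) || ok d

theorem of_normTest {n q B d : ℕ} {ok : ℕ → Bool} (h : normTest n q B ok = true) (hB : B ≠ 0)
    (h1 : d ∣ B) (h2 : d ∣ n) (h3 : q ∣ d) (h4 : (n / d) % q = 1) : ok d = true := by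
  have := List.all_eq_true.1 h d (List.mem_range.2 (Nat.lt_succ_of_le (Nat.le_of_dvd
    (Nat.pos_of_ne_zero hB) h1)))
  simpa [Nat.mod_eq_zero_of_dvd h1, Nat.mod_eq_zero_of_dvd h2, Nat.mod_eq_zero_of_dvd h3, h4] using this

end CfsgLib.Golay.TwoBlock
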